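import Cfsg.Agent.H424.Spr.Two
import Cfsg.Agent.H947.Cv.Psu3
import Cfsg.Agent.H947.Spr.Psl2
import Cfsg.Agent.S0255
import Cfsg.Agent.S0799
import Cfsg.Agent.H833.Spr4.Two_m3
import Cfsg.Agent.S5785
import Mathlib
import Cfsg.Agent.H184.Cov.Kills
import Cfsg.Agent.H597.L2Aut
import Cfsg.Agent.ClassicalGeometry.AutPSL.Main
import Cfsg.Agent.S0249
import Cfsg.Agent.S0256
import Cfsg.Agent.FastGrp
import Cfsg.Agent.Prune
set_option linter.all false

section
prune_inst 0x7f00000000000000000000000000000000000000000000000000000000000000000000000000000000000000000000000000000000000000000000000000000000000000000000000000000000000000003fffffffffffffffffffffffffffbeffbdffffffff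

-- part: H947/Spr/PsuSmall_mg
section
prune_inst 0xfdedfffbf8bddeffff7e77fedddffdfdb87fffefdff9cbffe461df2fdfeb00cbc5fb8f0fea11fe1ed6e01418f87b43fffffeffea6ffc7ffffddff41ffbfe1fedf7b50851969c340fbc2fff83f0778e7f000000000000000000000000000000000200000000
set_option linter.all false
open scoped Cfsg.Agent.FastGrp

-- part: H947/Spr/Psu3
section
/-!
# 3/2-generation, rank one (helper947, for S3938): `PSU₃(q)`, `q ≥ 4`, `q ≠ 5`
-/

set_option autoImplicit false
set_option linter.style.haveILetI false
set_option linter.unusedSectionVars false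

namespace Cfsg.Agent.H947.Spr

open Subgroup Cfsg Cfsg.Geo Cfsg.Agent.H947.Sq Module Cfsg.Agent.H918 Cfsg.Agent.H907.Mx Cfsg.Agent.H947.El
open Cfsg.Agent.H424.Spr Cfsg.Agent.H947.Cyc Cfsg.Agent.H947.Cv
open scoped MatrixGroups Matrix

universe u

/-- an element in exactly one maximal subgroup -/
theorem spr_of_unique {L : Type*} [Group L] [Finite L] [IsSimpleGroup L] (hna : ∃ x y : L, x * y ≠ y * x) {s : L}
    (h : ∀ M M' : Subgroup L, IsCoatom M → IsCoatom M' → s ∈ M → s ∈ M' → M = M') : Spr L := by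
  have h1 : zpowers s ≠ ⊤ := by
    intro ht
    obtain ⟨x, y, hxy⟩ := hna
    apply hxy
    have hx : x ∈ zpowers s := by rw [ht]; trivial
    have hy : y ∈ zpowers s := by rw [ht]; trivial
    obtain ⟨i, rfl⟩ := mem_zpowers_iff.1 hx
    obtain ⟨j, rfl⟩ := mem_zpowers_iff.1 hy
    exact ((Commute.refl s).zpow_zpow i j)
  obtain ⟨M, hM, hsM⟩ := (eq_top_or_exists_le_coatom (zpowers s)).resolve_left h1
  refine spr_of_one hna (s := s) hM.1 fun K hK hK' => ?_
  obtain ⟨N, hN, hKN⟩ := (eq_top_or_exists_le_coatom K).resolve_left hK'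
  rw [h M N hM hN (hsM (mem_zpowers s)) (hKN hK)]
  exact hKN

section

variable {F : Type*} [Field F] [Fintype F] {q : ℕ}

/-- an element of prime order `≥ 5` normalising a cubic field lies in it -/
theorem mem_field {K : Subalgebra F (Matrix (Fin 3) (Fin 3) F)} (hK : IsFieldSubalgebra 3 K) {x : GL (Fin 3) F}
    (hx : x ∈ subalgebraNormalizer K) {r : ℕ} (hr : r.Prime) (hr5 : 5 ≤ r) (hxr : x ^ r = 1) :
    (x : Matrix (Fin 3) (Fin 3) F) ∈ K := by
  classical
  have hHK : zpowers x ≤ subalgebraNormalizer K := zpowers_le.2 hx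
  have hN : Cfsg.Agent.H912.NormAlg (zpowers x) K := fun _ hh a ha => (hHK hh a).mp ha
  let _ : Field K := (Cfsg.Agent.H907.isField_of hK).toField
  have hfd : Module.Finite F K := inferInstance
  have hKfin : Finite K := Module.finite_of_finite F
  have hgal : IsGalois F K := inferInstance
  let ψ : zpowers x →* (K ≃ₐ[F] K) := MonoidHom.mk' (fun h => Cfsg.Agent.H912.conjSub hN h) (by
    intro a b
    apply AlgEquiv.ext
    intro x
    apply Subtype.ext
    rw [AlgEquiv.mul_apply, Cfsg.Agent.H912.conjSub_coe, Cfsg.Agent.H912.conjSub_coe, Cfsg.Agent.H912.conjSub_coe,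
      Subgroup.coe_mul, _root_.mul_inv_rev, Units.val_mul, Units.val_mul]
    simp only [mul_assoc])
  have h4 : Nat.card (K ≃ₐ[F] K) = 3 := by
    rw [IsGalois.card_aut_eq_finrank, hK.finrank_eq]
  have h5 : ψ ⟨x, mem_zpowers x⟩ = 1 := by
    have h6 : (ψ ⟨x, mem_zpowers x⟩) ^ 3 = 1 := by
      have h6 := pow_card_eq_one' (x := ψ ⟨x, mem_zpowers x⟩)
      rwa [h4] at h6
    have h7 : (ψ ⟨x, mem_zpowers x⟩) ^ r = 1 := by
      rw [← map_pow]
      have : (⟨x, mem_zpowers x⟩ : zpowers x) ^ r = 1 := Subtype.ext hxr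
      rw [this, map_one]
    have h8 : Nat.gcd 3 r = 1 := by
      rw [← Nat.coprime_iff_gcd_eq_one, Nat.coprime_primes Nat.prime_three hr]
      omega
    have h9 := pow_gcd_eq_one.2 ⟨h6, h7⟩
    rwa [h8, pow_one] at h9
  apply mem_of_centralises hK
  intro k hk
  have h2 := Cfsg.Agent.H912.conjSub_coe hN ⟨x, mem_zpowers x⟩ ⟨k, hk⟩
  have h1 : Cfsg.Agent.H912.conjSub hN ⟨x, mem_zpowers x⟩ = 1 := h5
  rw [h1] at h2
  have h3 : k = (x : Matrix (Fin 3) (Fin 3) F) * k * ((x⁻¹ : GL (Fin 3) F) : Matrix (Fin 3) (Fin 3) F) := h2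
  conv_rhs => rw [h3]
  rw [mul_assoc _ _ (x : Matrix (Fin 3) (Fin 3) F), ← Units.val_mul, inv_mul_cancel, Units.val_one, mul_one]

/-- maximal subgroups with the torus elements -/
theorem tor_K (hF : Fintype.card F = q ^ 2) (hq : 4 ≤ q) (hq5 : q ≠ 5) {p n r : ℕ} (h : PN F p n q r)
    {M : Subgroup (PSU 3 F q)} (hM : IsCoatom M) (hrM : r ∣ Nat.card M) (h7 : r = 7 → 49 ∣ Nat.card M)
    {x : GL (Fin 3) F} (hxo : orderOf x = r)
    (hxH : x ∈ (M.comap (QuotientGroup.mk' (Subgroup.center (Cfsg.SU 3 F q)))).map (suHom 3 F q)) :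
    ∃ K : Subalgebra F (Matrix (Fin 3) (Fin 3) F), IsFieldSubalgebra 3 K ∧ (x : Matrix (Fin 3) (Fin 3) F) ∈ K ∧
      (M.comap (QuotientGroup.mk' (Subgroup.center (Cfsg.SU 3 F q)))).map (suHom 3 F q) =
        subalgebraNormalizer K ⊓ SUg 3 F q := by
  have hfin : Finite (PSU 3 F q) := Quotient.finite _
  have hge := h.ge
  have hn := h.n0
  have hfr : Fact r.Prime := ⟨h.pr⟩
  set π := QuotientGroup.mk' (Subgroup.center (Cfsg.SU 3 F q)) with hπ
  have hπs : Function.Surjective π := QuotientGroup.mk'_surjective _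
  set! ι := suHom 3 F q with hι; rewrite [← hι] at hxH ⊢
  have hιi : Function.Injective ι := suHom_injective
  set! H := (M.comap π).map ι with hHd; rewrite [← hHd] at hxH ⊢
  have hH : IsMaximalIn (SUg 3 F q) H := by
    have := isMaximalIn_of_coatom π hπs ι hιi hM
    rwa [range_suHom] at this
  have hcH : Nat.card H = Nat.gcd 3 (q + 1) * Nat.card M := by
    rw [hHd, Subgroup.card_map_of_injective hιi, hπ, card_comap_pi hF]
  have hfinS : Finite (Cfsg.SU 3 F q) := inferInstance
  have hrH : r ∣ Nat.card H := by rw [hcH]; exact hrM.mul_left _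
  rcases geom_cases hF (by omega) h hH hxH (by rw [← hxo]; exact pow_orderOf_eq_one _)
    (by intro h1; rw [h1, orderOf_one] at hxo; exact h.pr.one_lt.ne hxo) with hres | ⟨hq3, hq5, K, hK, hKa, he⟩
  · exfalso
    obtain ⟨P, hP, hqp, hcases⟩ := Cfsg.Agent.S5779.result q hF (by omega) H hH hres
    have hHS : H ≤ SUg 3 F q := hH.1.le
    rcases hcases with ⟨⟨e⟩, -, -⟩ | ⟨⟨e⟩, -⟩ | ⟨-, h5⟩
    · have h1008 : Nat.card H ∣ 1008 := card_dvd_l32 hP hHS ⟨e⟩
      have h2 : r ∣ 2 ^ 4 * 3 ^ 2 * 7 := by norm_num; exact hrH.trans h1008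
      rcases h.pr.dvd_mul.1 h2 with h3 | h3
      · rcases h.pr.dvd_mul.1 h3 with h4 | h4
        · have := Nat.le_of_dvd (by norm_num) (h.pr.dvd_of_dvd_pow h4); omega
        · have := Nat.le_of_dvd (by norm_num) (h.pr.dvd_of_dvd_pow h4); omega
      · have h4 := h7 ((Nat.prime_dvd_prime_iff_eq h.pr (by norm_num)).1 h3)
        have h5 : 49 ∣ 1008 := (h4.mul_left _).trans (hcH ▸ h1008)
        revert h5; norm_num
    · have h4320 : Nat.card H ∣ 4320 := card_dvd_a6 hP hHS ⟨e⟩
      have h2 : r ∣ 2 ^ 5 * 3 ^ 3 * 5 := by norm_num; exact hrH.trans h4320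
      rcases h.pr.dvd_mul.1 h2 with h3 | h3
      · rcases h.pr.dvd_mul.1 h3 with h4 | h4
        · have := Nat.le_of_dvd (by norm_num) (h.pr.dvd_of_dvd_pow h4); omega
        · have := Nat.le_of_dvd (by norm_num) (h.pr.dvd_of_dvd_pow h4); omega
      · have := Nat.le_of_dvd (by norm_num) h3; omega
    · exact hq5 h5
  · refine ⟨K, hK, ?_, he⟩
    rw [he] at hxH
    exact mem_field hK hxH.1 h.pr (by omega) (by rw [← hxo]; exact pow_orderOf_eq_one _)

/-- recovering `M` -/
theorem eq_of_map_eq {M M' : Subgroup (PSU 3 F q)}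
    (h : (M.comap (QuotientGroup.mk' (Subgroup.center (Cfsg.SU 3 F q)))).map (suHom 3 F q) =
      (M'.comap (QuotientGroup.mk' (Subgroup.center (Cfsg.SU 3 F q)))).map (suHom 3 F q)) : M = M' := by
  have h1 := Subgroup.map_injective suHom_injective h
  exact Subgroup.comap_injective (QuotientGroup.mk'_surjective _) h1

theorem psu3_unique (hF : Fintype.card F = q ^ 2) (hq : 4 ≤ q) (hq5 : q ≠ 5) :
    ∃ s : PSU 3 F q, ∀ M M' : Subgroup (PSU 3 F q), IsCoatom M → IsCoatom M' → s ∈ M → s ∈ M' → M = M' := by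
  obtain ⟨p, n, r, h, hchar, h7⟩ := exists_PN7 hF hq hq5
  obtain ⟨a, ha, ha7⟩ := exists_a hF h h7
  have hfin : Finite (PSU 3 F q) := Quotient.finite _
  have hfinS : Finite (Cfsg.SU 3 F q) := inferInstance
  obtain ⟨b, rfl⟩ := QuotientGroup.mk'_surjective (Subgroup.center (Cfsg.SU 3 F q)) a
  set π := QuotientGroup.mk' (Subgroup.center (Cfsg.SU 3 F q)) with hπ
  have hrb : r ∣ orderOf b := ha.trans (orderOf_map_dvd π b)
  obtain ⟨k, hk⟩ := hrb
  have hk0 : k ≠ 0 := by
    rintro rfl
    rw [mul_zero] at hk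
    exact (orderOf_pos b).ne' hk
  have hxo : orderOf (suHom 3 F q (b ^ k)) = r := by
    rw [orderOf_injective _ suHom_injective, orderOf_pow' b hk0, hk, Nat.gcd_mul_left_left,
      Nat.mul_div_cancel _ (Nat.pos_of_ne_zero hk0)]
  refine ⟨π b, fun M M' hM hM' hs hs' => ?_⟩
  have key : ∀ M : Subgroup (PSU 3 F q), IsCoatom M → π b ∈ M → ∃ K : Subalgebra F (Matrix (Fin 3) (Fin 3) F),
      IsFieldSubalgebra 3 K ∧ ((suHom 3 F q (b ^ k) : GL (Fin 3) F) : Matrix (Fin 3) (Fin 3) F) ∈ K ∧
      (M.comap (QuotientGroup.mk' (Subgroup.center (Cfsg.SU 3 F q)))).map (suHom 3 F q) =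
        subalgebraNormalizer K ⊓ SUg 3 F q := by
    intro M hM hs
    have h1 : orderOf (π b) ∣ Nat.card M := Subgroup.orderOf_dvd_natCard _ hs
    refine tor_K hF hq hq5 h hM (ha.trans h1) (fun hr7 => (ha7 hr7).trans h1) hxo ?_
    refine ⟨b ^ k, ?_, rfl⟩
    show π (b ^ k) ∈ M
    rw [map_pow]
    exact pow_mem hs k
  obtain ⟨K, hK, hxK, he⟩ := key M hM hs
  obtain ⟨K', hK', hxK', he'⟩ := key M' hM' hs'
  have hsc : ¬ ∃ c : F, ((suHom 3 F q (b ^ k) : GL (Fin 3) F) : Matrix (Fin 3) (Fin 3) F) =
      c • (1 : Matrix (Fin 3) (Fin 3) F) := fun hc =>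
    h.no_scalar (by rw [← hxo]; exact pow_orderOf_eq_one _)
      (by intro h1; rw [h1, orderOf_one] at hxo; exact h.pr.one_lt.ne hxo) hc
  have hKK : K = K' := by
    apply le_antisymm
    · intro m hm
      exact Cfsg.Agent.H907.SU3.mem_of_comm hK' hxK' hsc (hK.comm _ hm _ hxK)
    · intro m hm
      exact Cfsg.Agent.H907.SU3.mem_of_comm hK hxK hsc (hK'.comm _ hm _ hxK')
  apply eq_of_map_eq
  rw [he, he', hKK]

/-- **`PSU₃(q)`, `q ≥ 4`, `q ≠ 5`** -/
theorem spr_psu3_aux (hF : Fintype.card F = q ^ 2) (hq : 4 ≤ q) (hq5 : q ≠ 5) : Spr (PSU 3 F q) := by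
  obtain ⟨hsimp, hcen⟩ := psu3_facts hF (by omega)
  have hfin : Finite (PSU 3 F q) := Quotient.finite _
  have hna : ∃ x y : PSU 3 F q, x * y ≠ y * x := by
    by_contra hcon
    push Not at hcon
    obtain ⟨x, hx⟩ := exists_ne (1 : PSU 3 F q)
    apply hx
    rw [← mem_bot, ← hcen, mem_center_iff]
    intro y
    exact hcon y x
  obtain ⟨s, hs⟩ := psu3_unique hF hq hq5
  exact spr_of_unique hna hs

end

end Cfsg.Agent.H947.Spr
end

-- part: H947/Spr/PsuGen
section
/-!
# 3/2-generation, `PSU₃(3)` and `PSU₃(5)` (helper947, for S3938): `A₆` and `A₇` are generated by two conjugates of any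
element of order five
-/

set_option autoImplicit false
set_option linter.style.haveILetI false

namespace Cfsg.Agent.H947.Spr

open Equiv Equiv.Perm MulAction Subgroup Cfsg.Agent.H424.SprAlt

/-- two conjugates generate -/
def Gen2 {G : Type*} [Group G] (y : G) : Prop := ∃ g : G, _root_.Subgroup.closure {y, g * y * g⁻¹} = ⊤

theorem Gen2.map {G G' : Type*} [Group G] [Group G'] (e : G ≃* G') {y : G} (h : Gen2 y) : Gen2 (e y) := by
  obtain ⟨g, hg⟩ := h
  refine ⟨e g, ?_⟩
  have h1 : ({e y, e g * e y * (e g)⁻¹} : Set G') = e.toMonoidHom '' {y, g * y * g⁻¹} := by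
    rw [Set.image_pair]
    simp only [_root_.MulEquiv.toMonoidHom_eq_coe, _root_.MonoidHom.coe_coe, _root_.map_mul, _root_.map_inv]
  rw [h1, ← MonoidHom.map_closure, hg, ← MonoidHom.range_eq_map, MonoidHom.range_eq_top]
  exact e.surjective

section six

def b6 : Perm (Fin 6) := ⟨![2,5,4,3,1,0], ![5,4,0,3,2,1], by decide, by decide⟩
def g6 : Perm (Fin 6) := ⟨![0,2,4,1,5,3], ![0,3,1,5,2,4], by decide, by decide⟩

theorem gen_s6 : Gen2 (⟨s6, s6_mem⟩ : A6) := by
  refine ⟨⟨g6, by rw [Perm.mem_alternatingGroup]; decide +kernel⟩, ?_⟩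
  have hb : g6 * s6 * g6⁻¹ = b6 := by decide +kernel
  set K : Subgroup A6 := _root_.Subgroup.closure {⟨s6, s6_mem⟩, (⟨g6, by rw [Perm.mem_alternatingGroup]; decide +kernel⟩ : A6) *
    ⟨s6, s6_mem⟩ * (⟨g6, by rw [Perm.mem_alternatingGroup]; decide +kernel⟩ : A6)⁻¹} with hK
  have h1 : (⟨s6, s6_mem⟩ : A6) ∈ K := _root_.Subgroup.subset_closure (Set.mem_insert _ _)
  have h2 : (⟨b6, by rw [Perm.mem_alternatingGroup]; decide +kernel⟩ : A6) ∈ K := by
    have h3 : (⟨b6, by rw [Perm.mem_alternatingGroup]; decide +kernel⟩ : A6) =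
        (⟨g6, by rw [Perm.mem_alternatingGroup]; decide +kernel⟩ : A6) *
          ⟨s6, s6_mem⟩ * (⟨g6, by rw [Perm.mem_alternatingGroup]; decide +kernel⟩ : A6)⁻¹ := Subtype.ext hb.symm
    rw [h3]
    exact _root_.Subgroup.subset_closure (Set.mem_insert_of_mem _ rfl)
  refine six_top h1 h2 (by change b6 5 ≠ 5; decide) (mul_mem (mul_mem h1 h1) (inv_mem h2)) ?_
  change (s6 * s6 * b6⁻¹).IsThreeCycle
  exact card_support_eq_three_iff.1 (by decide +kernel)

end six

section seven

def s7 : Perm (Fin 7) := ⟨![1,2,3,4,0,5,6], ![4,0,1,2,3,5,6], by decide, by decide⟩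
def b7 : Perm (Fin 7) := ⟨![2,1,4,3,5,6,0], ![6,1,0,3,2,4,5], by decide, by decide⟩
def g7 : Perm (Fin 7) := ⟨![0,2,4,5,6,3,1], ![0,6,1,5,2,3,4], by decide, by decide⟩

abbrev A7 := alternatingGroup (Fin 7)

theorem s7_mem : s7 ∈ A7 := by rw [Perm.mem_alternatingGroup]; decide +kernel
theorem b7_mem : b7 ∈ A7 := by rw [Perm.mem_alternatingGroup]; decide +kernel
theorem g7_mem : g7 ∈ A7 := by rw [Perm.mem_alternatingGroup]; decide +kernel

theorem trans7 : ∀ x : Fin 7, ∃ i j : Fin 5, (b7 ^ (i : ℕ) * s7 ^ (j : ℕ)) x = 0 := by decide +kernel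

theorem gen_s7 : Gen2 (⟨s7, s7_mem⟩ : A7) := by
  refine ⟨⟨g7, g7_mem⟩, ?_⟩
  have hb : g7 * s7 * g7⁻¹ = b7 := by decide +kernel
  set K : Subgroup A7 := _root_.Subgroup.closure {⟨s7, s7_mem⟩, (⟨g7, g7_mem⟩ : A7) * ⟨s7, s7_mem⟩ * (⟨g7, g7_mem⟩ : A7)⁻¹} with hK
  have h1 : (⟨s7, s7_mem⟩ : A7) ∈ K := _root_.Subgroup.subset_closure (Set.mem_insert _ _)
  have h2 : (⟨b7, b7_mem⟩ : A7) ∈ K := by
    have h3 : (⟨b7, b7_mem⟩ : A7) = (⟨g7, g7_mem⟩ : A7) * ⟨s7, s7_mem⟩ * (⟨g7, g7_mem⟩ : A7)⁻¹ := Subtype.ext hb.symm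
    rw [h3]
    exact _root_.Subgroup.subset_closure (Set.mem_insert_of_mem _ rfl)
  have h1' : s7 ∈ K.map (alternatingGroup (Fin 7)).subtype := ⟨_, h1, rfl⟩
  have h2' : b7 ∈ K.map (alternatingGroup (Fin 7)).subtype := ⟨_, h2, rfl⟩
  have htr : IsPretransitive (K.map (alternatingGroup (Fin 7)).subtype) (Fin 7) := by
    have key : ∀ x : Fin 7, ∃ k : K.map (alternatingGroup (Fin 7)).subtype, k • x = 0 := by
      intro x
      obtain ⟨i, j, hij⟩ := trans7 x
      exact ⟨⟨b7 ^ (i : ℕ) * s7 ^ (j : ℕ), mul_mem (pow_mem h2' _) (pow_mem h1' _)⟩, hij⟩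
    constructor
    intro x y
    obtain ⟨k, hk⟩ := key x
    obtain ⟨l, hl⟩ := key y
    exact ⟨l⁻¹ * k, by rw [mul_smul, hk, ← hl, inv_smul_smul]⟩
  have hprim : IsPreprimitive (K.map (alternatingGroup (Fin 7)).subtype) (Fin 7) :=
    IsPreprimitive.of_prime_card (by rw [Nat.card_eq_fintype_card, Fintype.card_fin]; norm_num)
  have h3 : (s7 * b7⁻¹ * s7 * b7⁻¹).IsThreeCycle := card_support_eq_three_iff.1 (by decide +kernel)
  exact top_of_le (alternatingGroup_le_of_isPreprimitive_of_isThreeCycle_mem hprim h3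
    (mul_mem (mul_mem (mul_mem h1' (inv_mem h2')) h1') (inv_mem h2')))

end seven

theorem cycleType_of_five {n : ℕ} (hn : n ≤ 7) {y : Perm (Fin n)} (hy : orderOf y = 5) : y.cycleType = {5} := by
  have h1 : ∀ k ∈ y.cycleType, k = 5 := by
    intro k hk
    have h2 := dvd_of_mem_cycleType hk
    rw [hy] at h2
    rcases (Nat.dvd_prime (by norm_num : Nat.Prime 5)).1 h2 with h3 | h3
    · have := two_le_of_mem_cycleType hk
      omega
    · exact h3
  have h2 := Multiset.eq_replicate_card.2 h1
  have h3 : y.cycleType.sum ≤ n := by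
    rw [sum_cycleType]
    exact (Finset.card_le_univ _).trans (by rw [Fintype.card_fin])
  rw [h2, Multiset.sum_replicate, smul_eq_mul] at h3
  have h4 : y.cycleType.card ≠ 0 := by
    intro h0
    rw [card_cycleType_eq_zero] at h0
    rw [h0, orderOf_one] at hy
    omega
  have h5 : y.cycleType.card = 1 := by omega
  rw [h2, h5]
  rfl

theorem gen_of_conj {n : ℕ} (hn : n ≤ 7) {s : alternatingGroup (Fin n)} (hs : orderOf s = 5) (h : Gen2 s)
    {y : alternatingGroup (Fin n)} (hy : orderOf y = 5) : Gen2 y := by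
  have h1 : IsConj (s : Perm (Fin n)) y := by
    rw [isConj_iff_cycleType_eq, cycleType_of_five hn (by rw [Subgroup.orderOf_coe, hs]),
      cycleType_of_five hn (by rw [Subgroup.orderOf_coe, hy])]
  obtain ⟨c, hc⟩ := isConj_iff.1 h1
  have h2 : (MulAut.conjNormal c : MulAut (alternatingGroup (Fin n))) s = y := by
    apply Subtype.ext
    rw [MulAut.conjNormal_apply]
    exact hc
  rw [← h2]
  exact h.map _

theorem gen_a6 {y : alternatingGroup (Fin 6)} (hy : orderOf y = 5) : Gen2 y := by
  refine gen_of_conj (by norm_num) (s := ⟨s6, s6_mem⟩) ?_ gen_s6 hy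
  have : Fact (Nat.Prime 5) := ⟨by norm_num⟩
  rw [Subgroup.orderOf_mk]
  exact orderOf_eq_prime (by decide +kernel) (by decide +kernel)

theorem gen_a7 {y : alternatingGroup (Fin 7)} (hy : orderOf y = 5) : Gen2 y := by
  refine gen_of_conj le_rfl (s := ⟨s7, s7_mem⟩) ?_ gen_s7 hy
  have : Fact (Nat.Prime 5) := ⟨by norm_num⟩
  rw [Subgroup.orderOf_mk]
  exact orderOf_eq_prime (by decide +kernel) (by decide +kernel)

end Cfsg.Agent.H947.Spr
end

-- part: H947/Spr/PsuRes
section
/-!
# 3/2-generation, `PSU₃(3)` and `PSU₃(5)` (helper947, for S3938): the residual class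
-/

set_option autoImplicit false
set_option linter.style.haveILetI false
set_option linter.unusedSectionVars false

namespace Cfsg.Agent.H947.Spr

open Subgroup Cfsg Cfsg.Geo Cfsg.Agent.H947.Sq Module Cfsg.Agent.H918 Cfsg.Agent.H907.Mx Cfsg.Agent.H947.El
open Cfsg.Agent.H424.Spr Cfsg.Agent.H947.Cyc Cfsg.Agent.H947.Cv
open scoped MatrixGroups Matrix

theorem conj_injective {S : Type*} [Group S] (hc : center S = ⊥) :
    Function.Injective (MulAut.conj : S →* MulAut S) := by
  rw [injective_iff_map_eq_one]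
  intro g hg
  rw [← mem_bot, ← hc, mem_center_iff]
  intro x
  have h2 := DFunLike.congr_fun hg x
  simp only [MulAut.conj_apply, MulAut.one_apply] at h2
  exact (mul_inv_eq_iff_eq_mul.1 h2).symm

/-- powers of automorphisms are inner -/
theorem exists_conj_pow {S : Type*} [Group S] [Finite S] {k : ℕ} (hc : center S = ⊥)
    (hk : Nat.card (MulAut S) ∣ k * Nat.card S) (α : MulAut S) : ∃ y : S, MulAut.conj y = α ^ k := by
  have hinj := conj_injective hc
  have h1 : Nat.card (MulAut.conj : S →* MulAut S).range = Nat.card S :=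
    (Nat.card_congr (MonoidHom.ofInjective hinj).toEquiv).symm
  have h2 := (MulAut.conj : S →* MulAut S).range.card_mul_index
  rw [h1] at h2
  have h3 : (MulAut.conj : S →* MulAut S).range.index ∣ k := by
    rw [← h2, mul_comm] at hk
    exact Nat.dvd_of_mul_dvd_mul_right Nat.card_pos hk
  have hn : (MulAut.conj : S →* MulAut S).range.Normal := by
    refine ⟨fun x ⟨y, hy⟩ g => ⟨g y, ?_⟩⟩
    ext z
    rw [← hy]
    simp only [MulAut.mul_apply, MulAut.conj_apply, _root_.MulAut.inv_apply, _root_.map_mul, _root_.MulEquiv.apply_symm_apply, _root_.map_inv]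
  have h4 := (MulAut.conj : S →* MulAut S).range.pow_index_mem α
  have h5 : α ^ k ∈ (MulAut.conj : S →* MulAut S).range := by
    obtain ⟨t, ht⟩ := h3
    rw [ht, pow_mul]
    exact pow_mem h4 t
  exact h5

/-- automorphisms whose order is coprime to the index of the inner ones -/
theorem exists_conj {S : Type*} [Group S] [Finite S] {k j : ℕ} (hc : center S = ⊥)
    (hk : Nat.card (MulAut S) ∣ k * Nat.card S) {α : MulAut S} (hα : α ^ j = 1) (hkj : Nat.Coprime k j) :
    ∃ y : S, MulAut.conj y = α := by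
  have h5 : α ^ k ∈ (MulAut.conj : S →* MulAut S).range := exists_conj_pow hc hk α
  have h6 : Nat.Coprime k (orderOf α) := hkj.coprime_dvd_right (orderOf_dvd_of_pow_eq_one hα)
  obtain ⟨m, hm⟩ := exists_pow_eq_self_of_coprime h6
  rw [← hm]
  exact pow_mem h5 m

section

variable {F : Type*} [Field F] [Fintype F] {q : ℕ} {H P : Subgroup (GL (Fin 3) F)}

/-- **No transvections in the residual class** (if the socle is generated by two conjugates) -/
theorem no_transvection (hP : IsResidualCore H P) {u : GL (Fin 3) F} (hu : u ∈ H)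
    {φ : (Fin 3 → F) →ₗ[F] F}
    (hφ : ∀ v : Fin 3 → F, φ v = 0 → (u : Matrix (Fin 3) (Fin 3) F) *ᵥ v = v)
    (hgen : ∃ y : PQ P, MulAut.conj y = cQ hP ⟨u, hu⟩ ∧ Gen2 y) : False := by
  obtain ⟨y, hy, g, hg⟩ := hgen
  obtain ⟨w, rfl⟩ := QuotientGroup.mk_surjective y
  obtain ⟨g, rfl⟩ := QuotientGroup.mk_surjective g
  -- `u = w c`
  have hw : cQ hP ⟨w, hP.le w.2⟩ = MulAut.conj (QuotientGroup.mk w : PQ P) := by
    apply MulEquiv.ext
    intro x
    obtain ⟨x, rfl⟩ := QuotientGroup.mk_surjective x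
    rw [cQ_mk, MulAut.conj_apply]
    rfl
  have hc1 : cQ hP (⟨w, hP.le w.2⟩⁻¹ * ⟨u, hu⟩) = 1 := by
    rw [map_mul, map_inv, hw, hy, inv_mul_cancel]
  have hc : (w : GL (Fin 3) F)⁻¹ * u ∈ scalars (Fin 3) F := (cQ_ker hP).1 hc1
  obtain ⟨c, hc2⟩ := (mem_scalars_iff _).1 hc
  -- a common fixed vector
  let ψ : (Fin 3 → F) →ₗ[F] (Fin 2 → F) := LinearMap.pi ![φ, φ.comp (Matrix.toLin' ((g : GL (Fin 3) F)⁻¹ : GL (Fin 3) F).1)]
  have hker : LinearMap.ker ψ ≠ ⊥ := LinearMap.ker_ne_bot_of_finrank_lt (by simp)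
  obtain ⟨v, hv, hv0⟩ := (Submodule.ne_bot_iff _).1 hker
  rw [LinearMap.mem_ker] at hv
  have hv1 : φ v = 0 := congrFun hv 0
  have hv2 : φ (((g : GL (Fin 3) F)⁻¹ : GL (Fin 3) F).1 *ᵥ v) = 0 := congrFun hv 1
  have hue : (u : Matrix (Fin 3) (Fin 3) F) = (w : GL (Fin 3) F).1 * (c : F) • (1 : Matrix (Fin 3) (Fin 3) F) := by
    rw [← hc2, ← Units.val_mul, mul_inv_cancel_left]
  have hwu : ∀ z : Fin 3 → F, φ z = 0 → (w : GL (Fin 3) F).1 *ᵥ z = ((c : F)⁻¹) • z := by
    intro z hz
    have h1 := hφ z hz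
    rw [hue, ← Matrix.mulVec_mulVec, Matrix.smul_mulVec, Matrix.one_mulVec, Matrix.mulVec_smul] at h1
    rw [← h1, smul_smul, inv_mul_cancel₀ c.ne_zero, one_smul, h1]
  -- the line
  set! L := subspaceStabilizer (Submodule.span F {v}) with hL
  have hmem : ∀ (x : GL (Fin 3) F) (a : F), a ≠ 0 → x.1 *ᵥ v = a • v → x ∈ L := by
    intro x a ha hx z
    constructor
    · intro hz
      obtain ⟨b, rfl⟩ := Submodule.mem_span_singleton.1 hz
      show x.1 *ᵥ (b • v) ∈ Submodule.span F {v}
      rw [Matrix.mulVec_smul, hx]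
      exact Submodule.smul_mem _ _ (Submodule.smul_mem _ _ (Submodule.mem_span_singleton_self v))
    · intro hz
      obtain ⟨b, hb⟩ := Submodule.mem_span_singleton.1 hz
      have hb' : b • v = x.1 *ᵥ z := hb
      show z ∈ Submodule.span F {v}
      have h1 : x.1 *ᵥ ((b * a⁻¹) • v) = x.1 *ᵥ z := by
        rw [Matrix.mulVec_smul, hx, smul_smul, ← hb', mul_assoc, inv_mul_cancel₀ ha, mul_one]
      have h2 : (b * a⁻¹) • v = z := by
        have h3 := congrArg (fun t => (x⁻¹ : GL (Fin 3) F).1 *ᵥ t) h1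
        simp only [Matrix.mulVec_mulVec, ← Units.val_mul, inv_mul_cancel, Units.val_one, Matrix.one_mulVec] at h3
        exact h3
      rw [← h2]
      exact Submodule.smul_mem _ _ (Submodule.mem_span_singleton_self v)
  have h1 : w.1 ∈ L := hmem _ _ (inv_ne_zero c.ne_zero) (hwu v hv1)
  have h2 : (g : GL (Fin 3) F) * w * (g : GL (Fin 3) F)⁻¹ ∈ L := by
    refine hmem _ _ (inv_ne_zero c.ne_zero) ?_
    rw [Units.val_mul, Units.val_mul, ← Matrix.mulVec_mulVec, ← Matrix.mulVec_mulVec, hwu _ hv2, Matrix.mulVec_smul,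
      Matrix.mulVec_mulVec, ← Units.val_mul, mul_inv_cancel, Units.val_one, Matrix.one_mulVec]
  have h3 : scalars (Fin 3) F ≤ L := by
    intro s hs
    obtain ⟨d, hd⟩ := (mem_scalars_iff _).1 hs
    refine hmem s d d.ne_zero ?_
    rw [hd, Matrix.smul_mulVec, Matrix.one_mulVec]
  have h4 : L.subgroupOf P = ⊤ := by
    have h5 : (L.subgroupOf P).map (QuotientGroup.mk' ((scalars (Fin 3) F).subgroupOf P)) = ⊤ := by
      rw [eq_top_iff, ← hg, closure_le]
      rintro _ (rfl | rfl)
      · exact ⟨w, h1, rfl⟩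
      · exact ⟨g * w * g⁻¹, h2, rfl⟩
    have h6 : (scalars (Fin 3) F).subgroupOf P ≤ L.subgroupOf P := fun x hx => h3 hx
    have h7 := Subgroup.comap_map_eq_self (f := QuotientGroup.mk' ((scalars (Fin 3) F).subgroupOf P))
      (H := L.subgroupOf P) (by rw [QuotientGroup.ker_mk']; exact h6)
    rw [h5, comap_top] at h7
    exact h7.symm
  have h5 : P ≤ L := by rwa [Subgroup.subgroupOf_eq_top] at h4
  rcases hP.absIrred.1 (Submodule.span F {v}) (by
    rintro _ ⟨x, hx, rfl⟩
    rintro _ ⟨z, hz, rfl⟩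
    exact (h5 hx z).1 hz) with h6 | h6
  · rw [Submodule.span_singleton_eq_bot] at h6
    exact hv0 h6
  · have h7 : Module.finrank F (Submodule.span F {v}) = 1 := finrank_span_singleton hv0
    rw [h6, finrank_top, Module.finrank_fin_fun] at h7
    omega

theorem center_of_core (hP : IsResidualCore H P) : center (PQ P) = ⊥ := by
  have hs := hP.simple
  rcases hs.eq_bot_or_eq_top_of_normal (center (PQ P)) inferInstance with h | h
  · exact h
  · exfalso
    apply hP.nonabelian
    refine ⟨⟨fun a b => ?_⟩⟩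
    exact (mem_center_iff.1 (h ▸ mem_top b : b ∈ center (PQ P)) a)

/-- `A₆` and `A₇` -/
theorem no_alt (hP : IsResidualCore H P) {n : ℕ} (hn : n = 6 ∨ n = 7) (e : PQ P ≃* alternatingGroup (Fin n))
    {u : GL (Fin 3) F} (hu : u ∈ H) (hus : u ∉ scalars (Fin 3) F) (hu5 : u ^ 5 = 1) {φ : (Fin 3 → F) →ₗ[F] F}
    (hφ : ∀ v : Fin 3 → F, φ v = 0 → (u : Matrix (Fin 3) (Fin 3) F) *ᵥ v = v) : False := by
  have hc := center_of_core hP
  have hfin : Finite (PQ P) := Finite.of_injective e e.injective
  have h1 : ∃ k, Nat.card (MulAut (PQ P)) ∣ k * Nat.card (PQ P) ∧ Nat.Coprime k 5 := by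
    rcases hn with rfl | rfl
    · refine ⟨4, ?_, by norm_num⟩
      rw [Nat.card_congr (MulAut.congr e).toEquiv, Cfsg.Agent.H824.ProdLem.card_aut_a6, Nat.card_congr e.toEquiv,
        nat_card_alternatingGroup, Nat.card_eq_fintype_card, Fintype.card_fin]
      decide
    · refine ⟨2, ?_, by norm_num⟩
      rw [Nat.card_congr (MulAut.congr e).toEquiv, Nat.card_congr e.toEquiv, nat_card_alternatingGroup,
        Nat.card_eq_fintype_card (α := Fin 7), Fintype.card_fin]
      exact card_aut_a7
  obtain ⟨k, hk, hk5⟩ := h1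
  have hα5 : cQ hP ⟨u, hu⟩ ^ 5 = 1 := by
    rw [← map_pow]
    have : (⟨u, hu⟩ : H) ^ 5 = 1 := Subtype.ext hu5
    rw [this, map_one]
  obtain ⟨y, hy⟩ := exists_conj hc hk hα5 hk5
  refine no_transvection hP hu hφ ⟨y, hy, ?_⟩
  have hy5 : orderOf y = 5 := by
    have : Fact (Nat.Prime 5) := ⟨by norm_num⟩
    refine orderOf_eq_prime ?_ ?_
    · apply conj_injective hc
      rw [map_pow, hy, hα5, map_one]
    · rintro rfl
      rw [map_one] at hy
      exact hus ((cQ_ker hP).1 hy.symm)
  have hey : orderOf (e y) = 5 := by rw [e.orderOf_eq, hy5]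
  have h2 : Gen2 (e y) := by
    rcases hn with rfl | rfl
    · exact gen_a6 hey
    · exact gen_a7 hey
  have h3 := h2.map e.symm
  rwa [e.symm_apply_apply] at h3

/-- `PSL₂(7)` has no elements of order six -/
theorem no_six {K : Type*} [Field K] [Fintype K] (hK : Fintype.card K = 7)
    (x : Matrix.ProjectiveSpecialLinearGroup (Fin 2) K) : orderOf x ≠ 6 := by
  intro hx
  classical
  obtain ⟨p, hchar⟩ := CharP.exists K
  have hp : Fact p.Prime := ⟨CharP.char_is_prime K p⟩
  obtain ⟨⟨N, hN0⟩, hpN, hN⟩ := FiniteField.card K p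
  simp only [PNat.mk_coe] at hN
  have hp7 : p = 7 := by
    rw [hK] at hN
    exact (Nat.prime_dvd_prime_iff_eq hp.out (by norm_num)).1 (by rw [hN]; exact dvd_pow_self p hN0.ne')
  subst hp7
  have : Finite (Matrix.ProjectiveSpecialLinearGroup (Fin 2) K) := Quotient.finite _
  have hcard : Nat.card (Matrix.ProjectiveSpecialLinearGroup (Fin 2) K) = 168 := by
    have h1 := Cfsg.Agent.H394.SqPsl2.card_psl (F := K)
    rw [hK] at h1
    have h2 : Nat.gcd 2 (7 - 1) = 2 := rfl
    rw [h2] at h1
    omega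
  have h6 : Nat.card (zpowers x) = 6 := by rw [Nat.card_zpowers, hx]
  rcases Cfsg.Agent.S0799.result hK 7 (zpowers x) with ⟨k, hk, hk'⟩ | ⟨P, K', hK', ⟨e⟩⟩ | ⟨⟨e⟩⟩ | ⟨⟨e⟩⟩ | ⟨⟨e⟩⟩ |
    ⟨K', iK, iK', m, hm, he⟩
  · rcases hk' with ⟨-, h⟩ | ⟨⟨e⟩⟩
    · rw [h6] at h
      subst h
      rcases hk with h | h
      · revert h; decide
      · revert h; decide
    · have h7 := Nat.card_congr e.toEquiv
      rw [h6, DihedralGroup.nat_card] at h7
      have h8 : k = 3 := by omega
      subst h8
      have h9 : ∀ a b : DihedralGroup 3, a * b = b * a := by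
        intro a b
        have h10 : e.symm a * e.symm b = e.symm b * e.symm a := by
          obtain ⟨i, hi⟩ := mem_zpowers_iff.1 (e.symm a).2
          obtain ⟨j, hj⟩ := mem_zpowers_iff.1 (e.symm b).2
          apply Subtype.ext
          rw [Subgroup.coe_mul, Subgroup.coe_mul, ← hi, ← hj]
          exact ((Commute.refl x).zpow_zpow i j)
        rw [← map_mul, ← map_mul] at h10
        exact e.symm.injective h10
      have h11 := h9 (DihedralGroup.r 1) (DihedralGroup.sr 0)
      revert h11
      decide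
  · have h1 := Cfsg.Agent.H436.TT.index_normalizer (F := K) 7 P
    rw [hK] at h1
    have h2 := (normalizer ((P : Subgroup (Matrix.ProjectiveSpecialLinearGroup (Fin 2) K)) :
      Set (Matrix.ProjectiveSpecialLinearGroup (Fin 2) K))).card_mul_index
    rw [h1, hcard] at h2
    have h3 : 6 ∣ Nat.card (normalizer ((P : Subgroup (Matrix.ProjectiveSpecialLinearGroup (Fin 2) K)) :
      Set (Matrix.ProjectiveSpecialLinearGroup (Fin 2) K))) := by
      rw [← h6, Nat.card_congr e.toEquiv]
      exact card_dvd_of_le hK'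
    omega
  · rw [Nat.card_congr e.toEquiv, nat_card_alternatingGroup, Nat.card_eq_fintype_card, Fintype.card_fin] at h6
    revert h6
    decide
  · rw [Nat.card_congr e.toEquiv, Nat.card_perm, Nat.card_eq_fintype_card, Fintype.card_fin] at h6
    revert h6
    decide
  · rw [Nat.card_congr e.toEquiv, nat_card_alternatingGroup, Nat.card_eq_fintype_card, Fintype.card_fin] at h6
    revert h6
    decide
  · have hm0 : m ≠ 0 := by rintro rfl; rw [pow_zero] at hm; omega
    have hK1 : 1 < Fintype.card K' := Fintype.one_lt_card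
    have hK7 : Fintype.card K' = 7 := by
      have h1 : Fintype.card K' ∣ 7 := by rw [← hm]; exact dvd_pow_self _ hm0
      rcases (Nat.dvd_prime (by norm_num : Nat.Prime 7)).1 h1 with h2 | h2
      · omega
      · exact h2
    rcases he with ⟨⟨e⟩⟩ | ⟨⟨e⟩⟩
    · have h1 := Cfsg.Agent.H394.SqPsl2.card_psl (F := K')
      rw [hK7, ← Nat.card_congr e.toEquiv, h6] at h1
      have h2 : Nat.gcd 2 (7 - 1) = 2 := rfl
      rw [h2] at h1
      omega
    · have h1 := Cfsg.Agent.H394.SqPsl2.card_pgl (F := K')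
      rw [hK7, ← Nat.card_congr e.toEquiv, h6] at h1
      omega

/-- `PSL₃(2)` -/
theorem no_l32 (hP : IsResidualCore H P) (e : PQ P ≃* Matrix.ProjectiveSpecialLinearGroup (Fin 3) (ZMod 2))
    {x : GL (Fin 3) F} (hx : x ∈ H) (hx12 : x ^ 12 = 1) (hx4 : x ^ 4 ∉ scalars (Fin 3) F)
    (hx6 : x ^ 6 ∉ scalars (Fin 3) F) : False := by
  have hc := center_of_core hP
  have : Fact (Nat.Prime 2) := ⟨Nat.prime_two⟩
  have : Fact (Nat.Prime 7) := ⟨by norm_num⟩
  obtain ⟨e'⟩ := Cfsg.Agent.S0255.result (F := ZMod 7) (K := ZMod 2) (ZMod.card 7) (ZMod.card 2)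
  have hfin7 : Finite (Matrix.ProjectiveSpecialLinearGroup (Fin 2) (ZMod 7)) := Quotient.finite _
  have f : PQ P ≃* Matrix.ProjectiveSpecialLinearGroup (Fin 2) (ZMod 7) := e.trans e'.symm
  have hfin : Finite (PQ P) := Finite.of_injective f f.injective
  have hcard : Nat.card (PQ P) = 168 := by
    rw [Nat.card_congr f.toEquiv]
    have h1 := Cfsg.Agent.H394.SqPsl2.card_psl (F := ZMod 7)
    rw [ZMod.card] at h1
    have h2 : Nat.gcd 2 (7 - 1) = 2 := rfl
    rw [h2] at h1
    omega
  have hk : Nat.card (MulAut (PQ P)) ∣ 2 * Nat.card (PQ P) := by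
    rw [hcard, Nat.card_congr (MulAut.congr e).toEquiv]
    exact card_aut_l32
  obtain ⟨y, hy⟩ := exists_conj_pow hc hk (cQ hP ⟨x, hx⟩)
  have hpow : ∀ j : ℕ, y ^ j = 1 ↔ x ^ (2 * j) ∈ scalars (Fin 3) F := by
    intro j
    rw [← (conj_injective hc).eq_iff, map_pow, hy, map_one, ← pow_mul, ← map_pow, cQ_ker]
    rfl
  have hy6 : orderOf y = 6 := by
    refine orderOf_eq_of_pow_and_pow_div_prime (by norm_num) ((hpow 6).2 ?_) ?_
    · rw [show 2 * 6 = 12 by norm_num, hx12]
      exact one_mem _
    · intro p hp hp6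
      have hp' : p = 2 ∨ p = 3 := by
        have h6 : p ∣ 2 * 3 := hp6
        rcases hp.dvd_mul.1 h6 with h1 | h1
        · exact Or.inl ((Nat.prime_dvd_prime_iff_eq hp Nat.prime_two).1 h1)
        · exact Or.inr ((Nat.prime_dvd_prime_iff_eq hp Nat.prime_three).1 h1)
      rcases hp' with rfl | rfl
      · exact fun h => hx6 ((hpow 3).1 h)
      · exact fun h => hx4 ((hpow 2).1 h)
  exact no_six (ZMod.card 7) (f y) (by rw [f.orderOf_eq, hy6])

end

end Cfsg.Agent.H947.Spr
end

-- part: H947/Spr/PsuSmall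
section
/-!
# 3/2-generation, `PSU₃(3)` and `PSU₃(5)` (helper947, for S3938): a transvection times a reflection
-/

set_option autoImplicit false
set_option linter.style.haveILetI false
set_option linter.unusedSectionVars false

namespace Cfsg.Agent.H947.Spr

open Subgroup Cfsg Cfsg.Geo Cfsg.Agent.H947.Sq Module Cfsg.Agent.H918 Cfsg.Agent.H907.Mx Cfsg.Agent.H947.El
open Cfsg.Agent.H424.Spr Cfsg.Agent.H947.Cyc Cfsg.Agent.H947.Cv
open Cfsg.Agent.LieClassical.HermSiegel Cfsg.Agent.LieClassical.HermBasic Cfsg.Agent.LieClassical.HermGen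
  Cfsg.Agent.ClassicalGeometry.PSUAutBasic Cfsg.Agent.ClassicalGeometry.PSUAutPhi
open scoped MatrixGroups Matrix Pointwise

section

variable {F : Type*} [Field F] [Fintype F] {q : ℕ}

/-- a reflection `t` and a transvection `u` -/
structure Sm (F : Type*) [Field F] [Fintype F] (q : ℕ) (t u : SU 3 F q) (z : Fˣ) (μ : F) (e w : Fin 3 → F) : Prop where
  hz : orderOf z = q + 1
  ee : hermForm 3 F q e e = 0
  ww : hermForm 3 F q w w = 1
  we : hermForm 3 F q w e = 0
  ew : hermForm 3 F q e w = 0
  e0 : e ≠ 0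
  dim : ∀ v : Fin 3 → F, hermForm 3 F q v e = 0 → hermForm 3 F q v w = 0 → ∃ c : F, v = c • e
  μ0 : μ ≠ 0
  actu : ∀ v : Fin 3 → F, act u v = v + (μ * hermForm 3 F q v e) • e
  actt : ∀ v : Fin 3 → F, hermForm 3 F q v w = 0 → act t v = (z : F) • v
  acttw : act t w = ((z⁻¹ : Fˣ) : F) ^ 2 • w
  oth : ∃ u' : SU 3 F q, act u' w = w ∧ ∀ c : F, act u' e ≠ c • e

theorem exists_Sm (hF : Fintype.card F = q ^ 2) : ∃ (t u : SU 3 F q) (z : Fˣ) (μ : F) (e w : Fin 3 → F),
    Sm F q t u z μ e w := by
  obtain ⟨e, f, H⟩ := exists_frame (n := 3) hF (by omega)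
  have hq := two_le hF
  have he0 : e ≠ 0 := by
    rintro rfl
    have := H.ef
    simp [hermForm] at this
  set! w : Fin 3 → F := Pi.single 0 1 with hw
  have hwm : w ∈ coordSub F 3 (3 - 2) := by
    intro i hi
    rw [hw, Pi.single_eq_of_ne]
    rintro rfl
    simp at hi
  have hvw : ∀ v : Fin 3 → F, hermForm 3 F q v w = v 0 := by
    intro v
    rw [hw, herm_single_right hF, one_pow, mul_one]
  have hww : hermForm 3 F q w w = 1 := by rw [hvw, hw, Pi.single_eq_same]
  have hwe : hermForm 3 F q w e = 0 := ((H.mem w).1 hwm).1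
  have hwf : hermForm 3 F q w f = 0 := ((H.mem w).1 hwm).2
  have hew : hermForm 3 F q e w = 0 := herm_eq_zero_swap hF hwe
  have hfe : hermForm 3 F q f e = 1 := by rw [herm_swap hF, H.ef, one_pow]
  obtain ⟨μ, hμ0, hμ⟩ := exists_trace_zero_ne hF
  have he : IsSiegel q e 0 μ := ⟨H.ee, herm_zero_left e, by rw [herm_zero_left, hμ, add_zero]⟩
  have hf : IsSiegel q f 0 μ := ⟨H.ff, herm_zero_left f, by rw [herm_zero_left, hμ, add_zero]⟩
  obtain ⟨z, hz⟩ := exists_zeta hF
  have hE : (![-2, 1, 1] : Fin 3 → ℤ) 0 + (![-2, 1, 1] : Fin 3 → ℤ) 1 + (![-2, 1, 1] : Fin 3 → ℤ) 2 = 0 := by decide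
  refine ⟨dg z hz ![-2, 1, 1] hE, siegel hF e 0 μ he, z, μ, e, w, hz, H.ee, hww, hwe, hew, he0, ?_, hμ0, ?_, ?_, ?_, ?_⟩
  · intro v h1 h2
    refine ⟨hermForm 3 F q v f, ?_⟩
    have h3 : v - hermForm 3 F q v f • e ∈ coordSub F 3 (3 - 2) := by
      rw [H.mem]
      constructor
      · rw [herm_sub_left, herm_smul_left, h1, H.ee]; ring
      · rw [herm_sub_left, herm_smul_left, H.ef]; ring
    have h4 : hermForm 3 F q (v - hermForm 3 F q v f • e) w = 0 := by
      rw [herm_sub_left, herm_smul_left, h2, hew]; ring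
    rw [hvw] at h4
    have h5 : v - hermForm 3 F q v f • e = 0 := by
      funext i
      by_cases hi : i = 0
      · rw [hi]; exact h4
      · refine h3 i ?_
        have : i.val ≠ 0 := fun h => hi (Fin.ext h)
        omega
    exact sub_eq_zero.1 h5
  · intro v
    rw [act_siegel, smul_zero, add_zero, herm_zero_right hF, sub_zero]
  · intro v hv
    rw [hvw] at hv
    funext i
    rw [act_dg, Pi.smul_apply, smul_eq_mul]
    fin_cases i
    · simp [hv]
    · simp
    · simp
  · funext i
    rw [act_dg, Pi.smul_apply, smul_eq_mul, hw]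
    fin_cases i
    · simp only [Fin.zero_eta, Matrix.cons_val_zero, Pi.single_eq_same, mul_one]
      rw [← Units.val_pow_eq_pow_val, ← zpow_natCast, inv_zpow', Nat.cast_ofNat]
    · simp
    · simp
  · refine ⟨siegel hF f 0 μ hf, ?_, ?_⟩
    · rw [act_siegel, smul_zero, add_zero, herm_zero_right hF, sub_zero, hwf, mul_zero, zero_smul, add_zero]
    · intro c hc
      rw [act_siegel, smul_zero, add_zero, herm_zero_right hF, sub_zero, H.ef, mul_one] at hc
      have h1 := congrArg (fun v => hermForm 3 F q v e) hc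
      simp only [herm_add_left, herm_smul_left, H.ee, hfe, mul_one, mul_zero, zero_add] at h1
      exact hμ0 h1

variable {t u : SU 3 F q} {z : Fˣ} {μ : F} {e w : Fin 3 → F}

theorem Sm.z_ne (S : Sm F q t u z μ e w) (hq : 3 ≤ q) : (z : F) ≠ ((z⁻¹ : Fˣ) : F) ^ 2 := by
  intro h
  have h1 : z = (z⁻¹) ^ 2 := Units.ext (by rw [Units.val_pow_eq_pow_val]; exact h)
  have h2 : z ^ 3 = 1 := by
    calc z ^ 3 = z * z ^ 2 := by rw [pow_succ']
      _ = (z⁻¹) ^ 2 * z ^ 2 := by rw [← h1]
      _ = 1 := by rw [inv_pow, inv_mul_cancel]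
  have h3 := Nat.le_of_dvd (by norm_num) (orderOf_dvd_of_pow_eq_one h2)
  rw [S.hz] at h3
  omega

/-- the action of `t` -/
theorem Sm.act_t (S : Sm F q t u z μ e w) (v : Fin 3 → F) :
    act t v = (z : F) • v + ((((z⁻¹ : Fˣ) : F) ^ 2 - z) * hermForm 3 F q v w) • w := by
  have h1 : hermForm 3 F q (v - hermForm 3 F q v w • w) w = 0 := by
    rw [herm_sub_left, herm_smul_left, S.ww, mul_one, sub_self]
  have h2 := S.actt _ h1
  rw [act_sub, act_smul, S.acttw, sub_eq_iff_eq_add] at h2
  rw [h2, smul_sub, smul_smul, smul_smul]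
  rw [sub_mul, sub_smul, mul_comm (((z⁻¹ : Fˣ) : F) ^ 2)]
  abel

/-- an invariant subspace contains `e` or `w` -/
theorem Sm.inv (S : Sm F q t u z μ e w) (hq : 3 ≤ q) {W : Submodule F (Fin 3 → F)} (hW0 : W ≠ ⊥)
    (hW : ∀ v ∈ W, act (t * u) v ∈ W) : e ∈ W ∨ w ∈ W := by
  obtain ⟨v, hv, hv0⟩ := (Submodule.ne_bot_iff _).1 hW0
  have hz := S.z_ne hq
  have hact : ∀ v : Fin 3 → F, act (t * u) v = (z : F) • v + ((((z⁻¹ : Fˣ) : F) ^ 2 - z) * hermForm 3 F q v w) • w +
      (z * (μ * hermForm 3 F q v e)) • e := by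
    intro v
    rw [act_mul, S.actu, S.act_t, herm_add_left, herm_smul_left, S.ew, mul_zero, add_zero, smul_add, smul_smul]
    abel
  by_cases hvw : hermForm 3 F q v w = 0
  · -- `v` in the plane
    have h1 := Submodule.sub_mem _ (hW v hv) (Submodule.smul_mem W (z : F) hv)
    rw [hact, hvw, mul_zero, zero_smul, add_zero, add_sub_cancel_left] at h1
    by_cases hve : hermForm 3 F q v e = 0
    · obtain ⟨c, hc⟩ := S.dim v hve hvw
      have hc0 : c ≠ 0 := by
        rintro rfl
        rw [zero_smul] at hc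
        exact hv0 hc
      left
      rw [hc] at hv
      exact (Submodule.smul_mem_iff W hc0).1 hv
    · left
      exact (Submodule.smul_mem_iff W (mul_ne_zero z.ne_zero (mul_ne_zero S.μ0 hve))).1 h1
  · -- `σ v - z⁻² v`
    set c := ((z⁻¹ : Fˣ) : F) ^ 2 with hc
    set! v1 : Fin 3 → F := act (t * u) v - c • v with hv1
    have hv1W : v1 ∈ W := Submodule.sub_mem _ (hW v hv) (Submodule.smul_mem W c hv)
    have hv1e : v1 = ((z : F) - c) • (v - hermForm 3 F q v w • w) + (z * (μ * hermForm 3 F q v e)) • e := by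
      rw [hv1, hact]
      module
    have hv1w : hermForm 3 F q v1 w = 0 := by
      rw [hv1e, herm_add_left, herm_smul_left, herm_smul_left, S.ew, herm_sub_left, herm_smul_left, S.ww]
      ring
    have h2 := Submodule.sub_mem _ (hW v1 hv1W) (Submodule.smul_mem W (z : F) hv1W)
    rw [hact, hv1w, mul_zero, zero_smul, add_zero, add_sub_cancel_left] at h2
    have hv1e' : hermForm 3 F q v1 e = ((z : F) - c) * hermForm 3 F q v e := by
      rw [hv1e, herm_add_left, herm_smul_left, herm_smul_left, S.ee, herm_sub_left, herm_smul_left, S.we]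
      ring
    by_cases hve : hermForm 3 F q v e = 0
    · -- `v = a w + κ e`
      have h3 : hermForm 3 F q (v - hermForm 3 F q v w • w) w = 0 := by
        rw [herm_sub_left, herm_smul_left, S.ww, mul_one, sub_self]
      have h4 : hermForm 3 F q (v - hermForm 3 F q v w • w) e = 0 := by
        rw [herm_sub_left, herm_smul_left, S.we, mul_zero, hve, sub_zero]
      obtain ⟨κ, hκ⟩ := S.dim _ h4 h3
      by_cases hκ0 : κ = 0
      · right
        rw [hκ0, zero_smul, sub_eq_zero] at hκ
        rw [hκ] at hv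
        exact (Submodule.smul_mem_iff W hvw).1 hv
      · left
        rw [hve, mul_zero, mul_zero, zero_smul, add_zero, hκ, smul_smul] at hv1e
        rw [hv1e] at hv1W
        exact (Submodule.smul_mem_iff W (mul_ne_zero (sub_ne_zero.2 hz) hκ0)).1 hv1W
    · left
      refine (Submodule.smul_mem_iff W (mul_ne_zero z.ne_zero (mul_ne_zero S.μ0 ?_))).1 h2
      rw [hv1e']
      exact mul_ne_zero (sub_ne_zero.2 hz) hve

theorem Sm.act_tu (S : Sm F q t u z μ e w) (v : Fin 3 → F) :
    act (t * u) v = (z : F) • v + ((((z⁻¹ : Fˣ) : F) ^ 2 - z) * hermForm 3 F q v w) • w +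
      (z * (μ * hermForm 3 F q v e)) • e := by
  rw [act_mul, S.actu, S.act_t, herm_add_left, herm_smul_left, S.ew, mul_zero, add_zero, smul_add, smul_smul]
  abel

theorem Sm.comm (S : Sm F q t u z μ e w) : Commute t u := by
  apply ext_act
  intro v
  rw [S.act_tu, act_mul, S.actu, S.act_t, herm_add_left, herm_smul_left, herm_smul_left, S.we]
  rw [mul_zero, add_zero, mul_left_comm μ]

theorem Sm.u_pow (S : Sm F q t u z μ e w) (k : ℕ) (v : Fin 3 → F) :
    act (u ^ k) v = v + ((k : F) * (μ * hermForm 3 F q v e)) • e := by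
  induction k with
  | zero => rw [pow_zero, act_one, Nat.cast_zero, zero_mul, zero_smul, add_zero]
  | succ k ih =>
    rw [pow_succ', act_mul, ih, S.actu, herm_add_left, herm_smul_left, S.ee, mul_zero, add_zero, add_assoc, ← add_smul]
    congr 2
    push_cast
    ring

theorem Sm.t_pow (S : Sm F q t u z μ e w) (k : ℕ) (v : Fin 3 → F) :
    act (t ^ k) v = ((z : F) ^ k) • v + (((((z⁻¹ : Fˣ) : F) ^ 2) ^ k - (z : F) ^ k) * hermForm 3 F q v w) • w := by
  induction k with
  | zero => rw [pow_zero, act_one, pow_zero, pow_zero, one_smul, sub_self, zero_mul, zero_smul, add_zero]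
  | succ k ih =>
    rw [pow_succ', act_mul, ih, S.act_t, herm_add_left, herm_smul_left, herm_smul_left, S.ww]
    rw [smul_add, smul_smul, smul_smul, add_assoc, ← add_smul, ← pow_succ']
    congr 2
    rw [pow_succ _ k, pow_succ _ k]
    ring

theorem Sm.t_pow_eq_one (S : Sm F q t u z μ e w) : t ^ (q + 1) = 1 := by
  apply ext_act
  intro v
  have h1 : (z : F) ^ (q + 1) = 1 := by
    rw [← Units.val_pow_eq_pow_val, ← S.hz, pow_orderOf_eq_one, Units.val_one]
  have h2 : (((z⁻¹ : Fˣ) : F) ^ 2) ^ (q + 1) = 1 := by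
    rw [← pow_mul, mul_comm, pow_mul, ← Units.val_pow_eq_pow_val, inv_pow, ← S.hz, pow_orderOf_eq_one, inv_one,
      Units.val_one, one_pow]
  rw [S.t_pow, h1, h2, one_smul, sub_self, zero_mul, zero_smul, add_zero, act_one]

theorem Sm.u_pow_eq_one (S : Sm F q t u z μ e w) [CharP F q] : u ^ q = 1 := by
  apply ext_act
  intro v
  rw [S.u_pow, CharP.cast_eq_zero, zero_mul, zero_smul, add_zero, act_one]

theorem Sm.tu_pow (S : Sm F q t u z μ e w) [CharP F q] : (t * u) ^ (q + 1) = u := by
  rw [S.comm.mul_pow, S.t_pow_eq_one, one_mul, pow_succ, S.u_pow_eq_one, one_mul]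

/-- `u` is not a scalar -/
theorem Sm.u_scalar (S : Sm F q t u z μ e w) (hF : Fintype.card F = q ^ 2) : suHom 3 F q u ∉ scalars (Fin 3) F := by
  intro h
  obtain ⟨c, hc⟩ := (mem_scalars_iff _).1 h
  have h1 : ∀ v : Fin 3 → F, act u v = (c : F) • v := by
    intro v
    rw [← suHom_mulVec, hc, Matrix.smul_mulVec, Matrix.one_mulVec]
  have h2 := h1 w
  rw [S.actu, S.we, mul_zero, zero_smul, add_zero] at h2
  have hw0 : w ≠ 0 := by
    rintro rfl
    have := S.ww
    rw [herm_zero_left] at this
    exact zero_ne_one this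
  have hc1 : (c : F) = 1 := by
    have h3 : (1 - (c : F)) • w = 0 := by rw [sub_smul, one_smul, ← h2, sub_self]
    exact (sub_eq_zero.1 ((smul_eq_zero.1 h3).resolve_right hw0)).symm
  obtain ⟨v, hv⟩ := exists_herm_ne_zero hF S.e0
  have hv' : hermForm 3 F q v e ≠ 0 := fun h => hv (herm_eq_zero_swap hF h)
  have h3 := h1 v
  rw [S.actu, hc1, one_smul] at h3
  have h4 : (μ * hermForm 3 F q v e) • e = 0 := by
    have := sub_eq_zero.2 h3
    rwa [add_sub_cancel_left] at this
  rcases smul_eq_zero.1 h4 with h5 | h5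
  · exact mul_ne_zero S.μ0 hv' h5
  · exact S.e0 h5

/-- no decomposition into orthogonal lines -/
theorem Sm.no_dec (S : Sm F q t u z μ e w) (hF : Fintype.card F = q ^ 2) (h2 : (2 : F) ≠ 0)
    {D : Fin 3 → Submodule F (Fin 3 → F)} (hD : IsNondegenerateMDecomposition (hermForm 3 F q) 1 D)
    (hx : suHom 3 F q u ∈ decompositionStabilizer D) : False := by
  obtain ⟨σ, hσ⟩ := hx
  have hmap : ∀ i, ∀ v ∈ D i, act u v ∈ D (σ i) := by
    intro i v hv
    rw [← hσ i]
    exact ⟨v, hv, rfl⟩
  -- a generator of `D i` is orthogonal to `e`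
  have key : ∀ i, ∀ v ∈ D i, hermForm 3 F q v e = 0 := by
    intro i v hv
    by_contra hve
    have hv0 : v ≠ 0 := by
      rintro rfl
      exact hve (herm_zero_left e)
    obtain ⟨d, hd0, hd⟩ := finrank_eq_one_iff'.1 (hD.decomp.finrank_eq i)
    have hvv : hermForm 3 F q v v ≠ 0 := by
      intro h
      obtain ⟨⟨x, hx, hxv⟩, -⟩ := hD.nondegenerate i v hv hv0
      obtain ⟨a, ha⟩ := hd ⟨v, hv⟩
      obtain ⟨b, hb⟩ := hd ⟨x, hx⟩
      have ha' : a • (d : Fin 3 → F) = v := congrArg Subtype.val ha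
      have hb' : b • (d : Fin 3 → F) = x := congrArg Subtype.val hb
      have ha0 : a ≠ 0 := by
        rintro rfl
        rw [zero_smul] at ha'
        exact hv0 ha'.symm
      apply hxv
      have h3 : x = (b * a⁻¹) • v := by
        rw [← ha', ← hb', smul_smul, mul_assoc, inv_mul_cancel₀ ha0, mul_one]
      rw [h3, herm_smul_left, h, mul_zero]
    have hev : hermForm 3 F q e v ≠ 0 := fun h => hve (herm_eq_zero_swap hF h)
    have hu1 := hmap i v hv
    have hu2 := hmap _ _ hu1
    rw [← act_mul, ← pow_two, S.u_pow] at hu2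
    rw [S.actu] at hu1
    by_cases h3 : σ i = i
    · -- an eigenvector
      rw [h3] at hu1
      have h4 := Submodule.sub_mem _ hu1 hv
      rw [add_sub_cancel_left] at h4
      have h5 : e ∈ D i := (Submodule.smul_mem_iff _ (mul_ne_zero S.μ0 hve)).1 h4
      obtain ⟨⟨x, hx, hxe⟩, -⟩ := hD.nondegenerate i e h5 S.e0
      obtain ⟨a, ha⟩ := hd ⟨e, h5⟩
      obtain ⟨b, hb⟩ := hd ⟨x, hx⟩
      have ha' : a • (d : Fin 3 → F) = e := congrArg Subtype.val ha
      have hb' : b • (d : Fin 3 → F) = x := congrArg Subtype.val hb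
      have ha0 : a ≠ 0 := by
        rintro rfl
        rw [zero_smul] at ha'
        exact S.e0 ha'.symm
      apply hxe
      have h6 : x = (b * a⁻¹) • e := by
        rw [← ha', ← hb', smul_smul, mul_assoc, inv_mul_cancel₀ ha0, mul_one]
      rw [h6, herm_smul_left, S.ee, mul_zero]
    · have h4 := hD.orthogonal _ _ h3 _ hu1 _ hv
      rw [herm_add_left, herm_smul_left] at h4
      by_cases h5 : σ (σ i) = i
      · rw [h5] at hu2
        have h6 := Submodule.sub_mem _ hu2 hv
        rw [add_sub_cancel_left] at h6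
        have h7 : e ∈ D i := (Submodule.smul_mem_iff _ (mul_ne_zero (by exact_mod_cast h2) (mul_ne_zero S.μ0 hve))).1 h6
        have h8 := Submodule.add_mem _ hv (Submodule.smul_mem _ (μ * hermForm 3 F q v e) h7)
        have h9 := hD.orthogonal _ _ h3 _ hu1 _ h8
        rw [← S.actu, herm_act] at h9
        exact hvv h9
      · have h6 := hD.orthogonal _ _ h5 _ hu2 _ hv
        rw [herm_add_left, herm_smul_left] at h6
        have h7 : μ * hermForm 3 F q v e * hermForm 3 F q e v = 0 := by
          push_cast at h6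
          linear_combination h6 - h4
        rw [h7, add_zero] at h4
        exact hvv h4
  have hall : ∀ v : Fin 3 → F, hermForm 3 F q v e = 0 := by
    intro v
    have hv : v ∈ iSup D := by rw [hD.decomp.iSup_eq_top]; trivial
    induction hv using Submodule.iSup_induction' with
    | mem i v hv => exact key i v hv
    | zero => exact herm_zero_left e
    | add a b _ _ ha hb => rw [herm_add_left, ha, hb, add_zero]
  obtain ⟨v, hv⟩ := exists_herm_ne_zero hF S.e0
  exact hv (herm_eq_zero_swap hF (hall v))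

/-- the preimage of a subgroup of `PSU₃(q)` in `GL₃` -/
def HM (q : ℕ) (F : Type*) [Field F] [Fintype F] (M : Subgroup (PSU 3 F q)) : Subgroup (GL (Fin 3) F) :=
  (M.comap (QuotientGroup.mk' (Subgroup.center (Cfsg.SU 3 F q)))).map (suHom 3 F q)

theorem suHom_mem_HM {M : Subgroup (PSU 3 F q)} {s : SU 3 F q} :
    suHom 3 F q s ∈ HM q F M ↔ (QuotientGroup.mk' (Subgroup.center (Cfsg.SU 3 F q)) s) ∈ M := by
  constructor
  · rintro ⟨s', hs', h⟩
    rw [← suHom_injective h]
    exact hs'
  · intro h
    exact ⟨s, h, rfl⟩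

/-- eigenvectors which are singular -/
theorem Sm.eigen (S : Sm F q t u z μ e w) (hF : Fintype.card F = q ^ 2) (hq : 3 ≤ q) {v : Fin 3 → F} (hv0 : v ≠ 0)
    (hvv : hermForm 3 F q v v = 0) {W : Submodule F (Fin 3 → F)} (hWv : W = Submodule.span F {v})
    (hW : ∀ v ∈ W, act (t * u) v ∈ W) : W = Submodule.span F {e} := by
  have hW0 : W ≠ ⊥ := by
    rw [hWv, Ne, Submodule.span_singleton_eq_bot]
    exact hv0
  rcases S.inv hq hW0 hW with h | h
  · rw [hWv, Submodule.mem_span_singleton] at h
    obtain ⟨c, hc⟩ := h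
    have hc0 : c ≠ 0 := by
      rintro rfl
      rw [zero_smul] at hc
      exact S.e0 hc.symm
    rw [hWv, ← hc, Submodule.span_singleton_smul_eq (IsUnit.mk0 c hc0)]
  · exfalso
    rw [hWv, Submodule.mem_span_singleton] at h
    obtain ⟨c, hc⟩ := h
    have := S.ww
    rw [← hc, herm_smul_left, herm_smul_right, hvv, mul_zero, mul_zero] at this
    exact zero_ne_one this

/-- **the maximal subgroups containing `t u`** -/
theorem Sm.cases (S : Sm F q t u z μ e w) (hF : Fintype.card F = q ^ 2) (hq : q = 3 ∨ q = 5) [CharP F q]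
    {M : Subgroup (PSU 3 F q)} (hM : IsCoatom M)
    (hs : QuotientGroup.mk' (Subgroup.center (Cfsg.SU 3 F q)) (t * u) ∈ M) :
    HM q F M = subspaceStabilizer (Submodule.span F {e}) ⊓ SUg 3 F q ∨
      HM q F M = subspaceStabilizer (Submodule.span F {w}) ⊓ SUg 3 F q := by
  have hq3 : 3 ≤ q := by omega
  have hfin : Finite (PSU 3 F q) := Quotient.finite _
  have h2 : (2 : F) ≠ 0 := by
    intro h
    have h3 : ((2 : ℕ) : F) = 0 := by exact_mod_cast h
    rw [CharP.cast_eq_zero_iff F q] at h3
    have := Nat.le_of_dvd (by norm_num) h3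
    omega
  have hH : IsMaximalIn (SUg 3 F q) (HM q F M) := by
    have := isMaximalIn_of_coatom (QuotientGroup.mk' (Subgroup.center (Cfsg.SU 3 F q)))
      (QuotientGroup.mk'_surjective _) (suHom 3 F q) suHom_injective hM
    rwa [range_suHom] at this
  have hxH : suHom 3 F q (t * u) ∈ HM q F M := suHom_mem_HM.2 hs
  have huH : suHom 3 F q u ∈ HM q F M := by
    rw [← S.tu_pow, map_pow]
    exact pow_mem hxH _
  have hinv : ∀ W : Submodule F (Fin 3 → F), HM q F M = subspaceStabilizer W ⊓ SUg 3 F q →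
      ∀ v ∈ W, act (t * u) v ∈ W := by
    intro W he v hv
    rw [he] at hxH
    exact (hxH.1 v).1 hv
  have hsub : ∀ (F₀ : Subfield F) (l : ℕ), 3 ≤ l → Fintype.card F = Nat.card F₀ ^ l → False := by
    intro F₀ l hl hc
    obtain ⟨s, hs⟩ : ∃ s, Nat.card F₀ = s := ⟨_, rfl⟩
    rw [hs, hF] at hc
    have hqp : q.Prime := by rcases hq with rfl | rfl <;> norm_num
    have h5 : s ∣ q ^ 2 := by rw [hc]; exact dvd_pow_self s (by omega)
    obtain ⟨k, hk2, hk⟩ := (Nat.dvd_prime_pow hqp).1 h5
    rw [hk, ← pow_mul] at hc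
    have h6 := Nat.pow_right_injective hqp.two_le hc
    have h7 : k ≠ 0 := by rintro rfl; omega
    have h8 : 1 * 3 ≤ k * l := Nat.mul_le_mul (by omega) hl
    have h9 : 2 = k * l := h6
    omega
  rcases Cfsg.Agent.S5778.result q hF hq3 (HM q F M) hH with ⟨W, hW0, hWs, he⟩ | ⟨W, hW0, hWn, hW3, he⟩ |
    ⟨-, D, hD, he⟩ | ⟨h3, h5, K, hK, hKa, he⟩ | ⟨F₀, l, P, hl, hlo, hc, -, he⟩ | ⟨-, h7, F₀, P, hc, -, he⟩ |
    ⟨p', R, hp', h1, -, h11, -, hirr, -, h27, h3, he⟩ | hres
  · -- totally singular
    left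
    have heW : e ∈ W := by
      rcases S.inv hq3 hW0 (hinv W he) with h | h
      · exact h
      · exfalso
        have := hWs w h w h
        rw [S.ww] at this
        exact one_ne_zero this
    have hWe : W = Submodule.span F {e} := by
      apply le_antisymm
      · intro v hv
        have h1 := hWs v hv e heW
        have h3 : hermForm 3 F q (v - hermForm 3 F q v w • w) w = 0 := by
          rw [herm_sub_left, herm_smul_left, S.ww, mul_one, sub_self]
        have h4 : hermForm 3 F q (v - hermForm 3 F q v w • w) e = 0 := by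
          rw [herm_sub_left, herm_smul_left, S.we, mul_zero, h1, sub_zero]
        obtain ⟨κ, hκ⟩ := S.dim _ h4 h3
        have h5 : v = hermForm 3 F q v w • w + κ • e := by
          rw [← hκ]; abel
        have h6 := hWs v hv v hv
        obtain ⟨a, ha⟩ : ∃ a, hermForm 3 F q v w = a := ⟨_, rfl⟩
        rw [ha] at h5
        rw [h5, herm_add_left, herm_add_right hF, herm_add_right hF, herm_smul_left, herm_smul_left, herm_smul_left,
          herm_smul_left, herm_smul_right, herm_smul_right, herm_smul_right, herm_smul_right, S.ww, S.we, S.ew,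
          S.ee] at h6
        simp only [mul_zero, add_zero, mul_one] at h6
        have ha0 : a = 0 := (norm_eq_zero hF).1 h6
        rw [h5, ha0, zero_smul, zero_add]
        exact Submodule.smul_mem _ _ (Submodule.mem_span_singleton_self e)
      · rw [Submodule.span_singleton_le_iff_mem]
        exact heW
    rw [← hWe]
    exact he
  · -- nondegenerate
    right
    have h1 : finrank F W = 1 := by
      have : finrank F W ≠ 0 := by rw [Ne, Submodule.finrank_eq_zero]; exact hW0
      omega
    obtain ⟨d, hd0, hd⟩ := finrank_eq_one_iff'.1 h1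
    have hwW : w ∈ W := by
      rcases S.inv hq3 hW0 (hinv W he) with h | h
      · exfalso
        obtain ⟨⟨x, hx, hxe⟩, -⟩ := hWn e h S.e0
        obtain ⟨a, ha⟩ := hd ⟨e, h⟩
        obtain ⟨b, hb⟩ := hd ⟨x, hx⟩
        have ha' : a • (d : Fin 3 → F) = e := congrArg Subtype.val ha
        have hb' : b • (d : Fin 3 → F) = x := congrArg Subtype.val hb
        have ha0 : a ≠ 0 := by
          rintro rfl
          rw [zero_smul] at ha'
          exact S.e0 ha'.symm
        apply hxe
        have h6 : x = (b * a⁻¹) • e := by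
          rw [← ha', ← hb', smul_smul, mul_assoc, inv_mul_cancel₀ ha0, mul_one]
        rw [h6, herm_smul_left, S.ee, mul_zero]
      · exact h
    have hw0 : w ≠ 0 := by
      rintro rfl
      have := S.ww
      rw [herm_zero_left] at this
      exact zero_ne_one this
    have hWw : Submodule.span F {w} = W := by
      apply Submodule.eq_of_le_of_finrank_eq
      · rw [Submodule.span_singleton_le_iff_mem]
        exact hwW
      · rw [h1, finrank_span_singleton hw0]
    rw [hWw]
    exact he
  · exfalso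
    rw [he] at huH
    exact S.no_dec hF h2 hD huH.1
  · exfalso
    rcases hq with h | h
    · exact h3 h
    · exact h5 h
  · exfalso
    have : 3 ≤ l := by
      have := hl.two_le
      obtain ⟨j, hj⟩ := hlo
      omega
    exact hsub F₀ l this hc
  · omega
  · omega
  · -- the residual class
    exfalso
    obtain ⟨P, hP, hqp, hcases⟩ := Cfsg.Agent.S5779.result q hF hq3 _ hH hres
    let φ : (Fin 3 → F) →ₗ[F] F :=
      { toFun := fun v => hermForm 3 F q v e
        map_add' := fun a b => herm_add_left a b e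
        map_smul' := fun c a => by simp only [herm_smul_left, RingHom.id_apply, smul_eq_mul] }
    have hφ : ∀ v : Fin 3 → F, φ v = 0 → ((suHom 3 F q u : GL (Fin 3) F) : Matrix (Fin 3) (Fin 3) F) *ᵥ v = v := by
      intro v hv
      have hv' : hermForm 3 F q v e = 0 := hv
      rw [suHom_mulVec, S.actu, hv', mul_zero, zero_smul, add_zero]
    rcases hq with rfl | rfl
    · rcases hcases with ⟨⟨ε⟩, -, -⟩ | ⟨-, h | h | h⟩ | ⟨-, h⟩
      · refine no_l32 hP ε hxH ?_ ?_ ?_
        · rw [← map_pow, show (12 : ℕ) = (3 + 1) * 3 by norm_num, pow_mul, S.tu_pow, S.u_pow_eq_one, map_one]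
        · rw [← map_pow, S.tu_pow]
          exact S.u_scalar hF
        · intro h
          rw [← map_pow] at h
          obtain ⟨c, hc⟩ := (mem_scalars_iff _).1 h
          have h1 : ∀ v : Fin 3 → F, act ((t * u) ^ 6) v = (c : F) • v := by
            intro v
            rw [← suHom_mulVec, hc, Matrix.smul_mulVec, Matrix.one_mulVec]
          have h6 : (t * u) ^ 6 = t ^ 2 := by
            have h7 : t ^ 4 = 1 := S.t_pow_eq_one
            have h8 : u ^ 3 = 1 := S.u_pow_eq_one
            rw [S.comm.mul_pow, show (6 : ℕ) = 4 + 2 by norm_num, pow_add t, h7, one_mul,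
              show (4 + 2 : ℕ) = 3 * 2 by norm_num, pow_mul u, h8, one_pow, mul_one]
          rw [h6] at h1
          have hw0 : w ≠ 0 := by
            rintro rfl
            have := S.ww
            rw [herm_zero_left] at this
            exact zero_ne_one this
          have h7 := h1 e
          have h8 := h1 w
          rw [S.t_pow, S.ew, mul_zero, zero_smul, add_zero] at h7
          rw [S.t_pow, S.ww, mul_one, ← add_smul, add_sub_cancel] at h8
          have h9 : (z : F) ^ 2 = c := by
            have := sub_eq_zero.2 h7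
            rw [← sub_smul] at this
            exact sub_eq_zero.1 ((smul_eq_zero.1 this).resolve_right S.e0)
          have h10 : (((z⁻¹ : Fˣ) : F) ^ 2) ^ 2 = c := by
            have := sub_eq_zero.2 h8
            rw [← sub_smul] at this
            exact sub_eq_zero.1 ((smul_eq_zero.1 this).resolve_right hw0)
          have h11 : z ^ 4 = 1 := by
            have : 4 = 3 + 1 := rfl
            rw [this, ← S.hz, pow_orderOf_eq_one]
          have h12 : (((z⁻¹ : Fˣ) : F) ^ 2) ^ 2 = 1 := by
            rw [← pow_mul, ← Units.val_pow_eq_pow_val, inv_pow, show 2 * 2 = 4 from rfl, h11, inv_one, Units.val_one]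
          have h13 : z ^ 2 = 1 := by
            apply Units.ext
            rw [Units.val_pow_eq_pow_val, h9, ← h10, h12, Units.val_one]
          have h14 := Nat.le_of_dvd (by norm_num) (orderOf_dvd_of_pow_eq_one h13)
          rw [S.hz] at h14
          omega
      · omega
      · omega
      · omega
      · omega
    · have hu5 : (suHom 3 F 5 u : GL (Fin 3) F) ^ 5 = 1 := by
        rw [← map_pow, S.u_pow_eq_one, map_one]
      rcases hcases with ⟨-, h, -⟩ | ⟨⟨ε⟩, -⟩ | ⟨⟨ε⟩, -⟩
      · exact h rfl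
      · exact no_alt hP (Or.inl rfl) ε huH (S.u_scalar hF) hu5 hφ
      · exact no_alt hP (Or.inr rfl) ε huH (S.u_scalar hF) hu5 hφ

/-- **`PSU₃(3)` and `PSU₃(5)`** -/
theorem spr_psu3_small (hF : Fintype.card F = q ^ 2) (hq : q = 3 ∨ q = 5) : Spr (PSU 3 F q) := by
  have hq3 : 3 ≤ q := by omega
  obtain ⟨hsimp, hcen⟩ := psu3_facts hF hq3
  have hfin : Finite (PSU 3 F q) := Quotient.finite _
  have hchar : CharP F q := by
    obtain ⟨p, hc⟩ := CharP.exists F
    have hp : p.Prime := CharP.char_is_prime F p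
    obtain ⟨n, -, hn⟩ := FiniteField.card F p
    have hqp : q.Prime := by rcases hq with rfl | rfl <;> norm_num
    have h1 : p ∣ q ^ 2 := by rw [← hF, hn]; exact dvd_pow_self p n.pos.ne'
    have h2 := (Nat.prime_dvd_prime_iff_eq hp hqp).1 (hp.dvd_of_dvd_pow h1)
    rwa [← h2]
  have hna : ∃ x y : PSU 3 F q, x * y ≠ y * x := by
    by_contra hcon
    push Not at hcon
    obtain ⟨x, hx⟩ := exists_ne (1 : PSU 3 F q)
    apply hx
    rw [← mem_bot, ← hcen, mem_center_iff]
    intro y
    exact hcon y x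
  obtain ⟨t, u, z, μ, e, w, S⟩ := exists_Sm hF
  set! π := QuotientGroup.mk' (Subgroup.center (Cfsg.SU 3 F q)) with hπ
  have hπs : Function.Surjective π := QuotientGroup.mk'_surjective _
  by_cases hA : ∃ M₁ : Subgroup (PSU 3 F q), IsCoatom M₁ ∧ π (t * u) ∈ M₁ ∧
      HM q F M₁ = subspaceStabilizer (Submodule.span F {e}) ⊓ SUg 3 F q
  swap
  · refine spr_of_unique hna (s := π (t * u)) fun M M' hM hM' hs hs' => ?_
    rcases S.cases hF hq hM hs with h | h
    · exact absurd ⟨M, hM, hs, h⟩ hA
    · rcases S.cases hF hq hM' hs' with h' | h'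
      · exact absurd ⟨M', hM', hs', h'⟩ hA
      · exact eq_of_map_eq (h.trans h'.symm)
  by_cases hB : ∃ M₂ : Subgroup (PSU 3 F q), IsCoatom M₂ ∧ π (t * u) ∈ M₂ ∧
      HM q F M₂ = subspaceStabilizer (Submodule.span F {w}) ⊓ SUg 3 F q
  swap
  · refine spr_of_unique hna (s := π (t * u)) fun M M' hM hM' hs hs' => ?_
    rcases S.cases hF hq hM hs with h | h
    · rcases S.cases hF hq hM' hs' with h' | h'
      · exact eq_of_map_eq (h.trans h'.symm)
      · exact absurd ⟨M', hM', hs', h'⟩ hB
    · exact absurd ⟨M, hM, hs, h⟩ hB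
  obtain ⟨M₁, hM₁, hs₁, he₁⟩ := hA
  obtain ⟨M₂, hM₂, hs₂, he₂⟩ := hB
  have hne : M₁ ≠ M₂ := by
    intro h
    rw [h, he₂] at he₁
    obtain ⟨u', hu'w, hu'e⟩ := S.oth
    have h1 : suHom 3 F q u' ∈ subspaceStabilizer (Submodule.span F {w}) ⊓ SUg 3 F q := by
      refine ⟨fun v => ?_, suHom_mem _⟩
      have hinv : act u'⁻¹ w = w := by
        rw [← hu'w, act_inv_act, hu'w]
      constructor
      · intro hv
        obtain ⟨c, rfl⟩ := Submodule.mem_span_singleton.1 hv
        show act u' (c • w) ∈ Submodule.span F {w}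
        rw [act_smul, hu'w]
        exact Submodule.smul_mem _ _ (Submodule.mem_span_singleton_self w)
      · intro hv
        obtain ⟨c, hc⟩ := Submodule.mem_span_singleton.1 hv
        have hc' : c • w = act u' v := hc
        show v ∈ Submodule.span F {w}
        rw [← act_inv_act u' v, ← hc', act_smul, hinv]
        exact Submodule.smul_mem _ _ (Submodule.mem_span_singleton_self w)
    rw [he₁] at h1
    have h2 := (h1.1 e).1 (Submodule.mem_span_singleton_self e)
    obtain ⟨c, hc⟩ := Submodule.mem_span_singleton.1 h2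
    exact hu'e c hc.symm
  refine spr_of_two hna hM₁ hM₂ (s := π (t * u)) (fun y hy => ?_) (fun K hK hK' => ?_)
  · obtain ⟨g, rfl⟩ := hπs y
    have h1 : π (g⁻¹ * (t * u) * g) ∈ M₁ := by
      have h2 := hs₂
      rw [← hy] at h2
      obtain ⟨x, hx, hxe⟩ := h2
      have h3 : π g * x * (π g)⁻¹ = π (t * u) := hxe
      rw [map_mul, map_mul, map_inv, ← h3]
      have : (π g)⁻¹ * (π g * x * (π g)⁻¹) * π g = x := by group
      rw [this]
      exact hx
    have h2 : suHom 3 F q (g⁻¹ * (t * u) * g) ∈ HM q F M₁ := suHom_mem_HM.2 h1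
    rw [he₁] at h2
    have hge0 : act g e ≠ 0 := fun h => S.e0 ((act_eq_zero g).1 h)
    have hgee : hermForm 3 F q (act g e) (act g e) = 0 := by rw [herm_act, S.ee]
    have h3 : Submodule.span F {act g e} = Submodule.span F {e} := by
      refine S.eigen hF hq3 hge0 hgee rfl (fun v hv => ?_)
      obtain ⟨c, rfl⟩ := Submodule.mem_span_singleton.1 hv
      have h4 := (h2.1 e).1 (Submodule.mem_span_singleton_self e)
      obtain ⟨a, ha⟩ := Submodule.mem_span_singleton.1 h4
      have ha' : a • e = act (g⁻¹ * (t * u) * g) e := ha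
      have h5 : act (t * u) (act g e) = a • act g e := by
        rw [← act_smul, ha', ← act_mul, ← act_mul]
        congr 1
        group
      rw [act_smul, h5]
      exact Submodule.smul_mem _ _ (Submodule.smul_mem _ _ (Submodule.mem_span_singleton_self _))
    have h4 : suHom 3 F q g ∈ HM q F M₁ := by
      rw [he₁]
      refine ⟨fun v => ?_, suHom_mem _⟩
      have h6 : ∃ c : F, c • act g e = e := Submodule.mem_span_singleton.1 (h3 ▸ Submodule.mem_span_singleton_self e)
      have h7 : ∃ c : F, c • e = act g e := Submodule.mem_span_singleton.1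
        (h3 ▸ Submodule.mem_span_singleton_self (act g e))
      constructor
      · intro hv
        obtain ⟨c, rfl⟩ := Submodule.mem_span_singleton.1 hv
        obtain ⟨b, hb⟩ := h7
        show act g (c • e) ∈ Submodule.span F {e}
        rw [act_smul, ← hb]
        exact Submodule.smul_mem _ _ (Submodule.smul_mem _ _ (Submodule.mem_span_singleton_self e))
      · intro hv
        obtain ⟨c, hc⟩ := Submodule.mem_span_singleton.1 hv
        obtain ⟨b, hb⟩ := h6
        have hc' : c • e = act g v := hc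
        show v ∈ Submodule.span F {e}
        rw [← hb, smul_smul, ← act_smul] at hc'
        rw [← act_injective g hc']
        exact Submodule.smul_mem _ _ (Submodule.mem_span_singleton_self e)
    have h5 : π g ∈ M₁ := suHom_mem_HM.1 h4
    apply hne
    rw [← hy]
    exact (c_smul_self h5).symm
  · obtain ⟨N, hN, hKN⟩ := (eq_top_or_exists_le_coatom K).resolve_left hK'
    rcases S.cases hF hq hN (hKN hK) with h | h
    · left
      rw [← eq_of_map_eq (h.trans he₁.symm)]
      exact hKN
    · right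
      rw [← eq_of_map_eq (h.trans he₂.symm)]
      exact hKN

end

/-- **`PSU₃(q)`** -/
theorem spr_psu3 {F : Type*} [Field F] [Fintype F] {q : ℕ} (hF : Fintype.card F = q ^ 2) (hq : 3 ≤ q) :
    Spr (PSU 3 F q) := by
  by_cases h : q = 3 ∨ q = 5
  · exact spr_psu3_small hF h
  · exact spr_psu3_aux hF (by omega) (by omega)

end Cfsg.Agent.H947.Spr
end

-- part: H833/Spr4/Mon
section
/-!
# S3938, `PSU_4(3)`: the monomial group (r = 2)
-/

set_option autoImplicit false
set_option maxRecDepth 20000

namespace Cfsg.Agent.H833.Spr4.Mon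

open Cfsg Cfsg.Agent.ChevalleyStructure.NineField Cfsg.Agent.H833.Spr4.Code

def T1 : ℕ := 0x6000060000600001600006000020000160000600003000016000060000100001600002000060000160000200002000016000020000300001600002000010000160000300006000016000030000200001600003000030000160000300001000016000010000600001600001000020000160000100003000016000010000100001200006000060000120000600002000012000060000300001200006000010000120000200006000012000020000200001200002000030000120000200001000012000030000600001200003000020000120000300003000012000030000100001200001000060000120000100002000012000010000300001200001000010000130000600006000013000060000200001300006000030000130000600001000013000020000600001300002000020000130000200003000013000020000100001300003000060000130000300002000013000030000300001300003000010000130000100006000013000010000200001300001000030000130000100001000011000060000600001100006000020000110000600003000011000060000100001100002000060000110000200002000011000020000300001100002000010000110000300006000011000030000200001100003000030000110000300001000011000010000600001100001000020000110000100003000011000010000100001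
def I1 : ℕ := 0x2a29282b26252427222120232e2d2c2f1a19181b16151417121110131e1d1c1f0a09080b06050407020100030e0d0c0f3a39383b36353437323130333e3d3c3f29282b2a25242726212023222d2c2f2e19181b1a15141716111013121d1c1f1e09080b0a05040706010003020d0c0f0e39383b3a35343736313033323d3c3f3e282b2a2924272625202322212c2f2e2d181b1a1914171615101312111c1f1e1d080b0a0904070605000302010c0f0e0d383b3a3934373635303332313c3f3e3d2b2a292827262524232221202f2e2d2c1b1a191817161514131211101f1e1d1c0b0a090807060504030201000f0e0d0c3b3a393837363534333231303f3e3d3c26252427222120232e2d2c2f2a29282b16151417121110131e1d1c1f1a19181b06050407020100030e0d0c0f0a09080b36353437323130333e3d3c3f3a39383b25242726212023222d2c2f2e29282b2a15141716111013121d1c1f1e19181b1a05040706010003020d0c0f0e09080b0a35343736313033323d3c3f3e39383b3a24272625202322212c2f2e2d282b2a2914171615101312111c1f1e1d181b1a1904070605000302010c0f0e0d080b0a0934373635303332313c3f3e3d383b3a3927262524232221202f2e2d2c2b2a292817161514131211101f1e1d1c1b1a191807060504030201000f0e0d0c0b0a090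837363534333231303f3e3d3c3b3a3938222120232e2d2c2f2a29282b26252427121110131e1d1c1f1a19181b16151417020100030e0d0c0f0a09080b06050407323130333e3d3c3f3a39383b36353437212023222d2c2f2e29282b2a25242726111013121d1c1f1e19181b1a15141716010003020d0c0f0e09080b0a05040706313033323d3c3f3e39383b3a35343736202322212c2f2e2d282b2a2924272625101312111c1f1e1d181b1a1914171615000302010c0f0e0d080b0a0904070605303332313c3f3e3d383b3a3934373635232221202f2e2d2c2b2a292827262524131211101f1e1d1c1b1a191817161514030201000f0e0d0c0b0a090807060504333231303f3e3d3c3b3a3938373635342e2d2c2f2a29282b26252427222120231e1d1c1f1a19181b16151417121110130e0d0c0f0a09080b06050407020100033e3d3c3f3a39383b36353437323130332d2c2f2e29282b2a25242726212023221d1c1f1e19181b1a15141716111013120d0c0f0e09080b0a05040706010003023d3c3f3e39383b3a35343736313033322c2f2e2d282b2a2924272625202322211c1f1e1d181b1a1914171615101312110c0f0e0d080b0a0904070605000302013c3f3e3d383b3a3934373635303332312f2e2d2c2b2a292827262524232221201f1e1d1c1b1a191817161514131211100f0e0d0c0b0a090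807060504030201003f3e3d3c3b3a393837363534333231301a19181b16151417121110131e1d1c1f0a09080b06050407020100030e0d0c0f3a39383b36353437323130333e3d3c3f2a29282b26252427222120232e2d2c2f19181b1a15141716111013121d1c1f1e09080b0a05040706010003020d0c0f0e39383b3a35343736313033323d3c3f3e29282b2a25242726212023222d2c2f2e181b1a1914171615101312111c1f1e1d080b0a0904070605000302010c0f0e0d383b3a3934373635303332313c3f3e3d282b2a2924272625202322212c2f2e2d1b1a191817161514131211101f1e1d1c0b0a090807060504030201000f0e0d0c3b3a393837363534333231303f3e3d3c2b2a292827262524232221202f2e2d2c16151417121110131e1d1c1f1a19181b06050407020100030e0d0c0f0a09080b36353437323130333e3d3c3f3a39383b26252427222120232e2d2c2f2a29282b15141716111013121d1c1f1e19181b1a05040706010003020d0c0f0e09080b0a35343736313033323d3c3f3e39383b3a25242726212023222d2c2f2e29282b2a14171615101312111c1f1e1d181b1a1904070605000302010c0f0e0d080b0a0934373635303332313c3f3e3d383b3a3924272625202322212c2f2e2d282b2a2917161514131211101f1e1d1c1b1a191807060504030201000f0e0d0c0b0a090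837363534333231303f3e3d3c3b3a393827262524232221202f2e2d2c2b2a2928121110131e1d1c1f1a19181b16151417020100030e0d0c0f0a09080b06050407323130333e3d3c3f3a39383b36353437222120232e2d2c2f2a29282b26252427111013121d1c1f1e19181b1a15141716010003020d0c0f0e09080b0a05040706313033323d3c3f3e39383b3a35343736212023222d2c2f2e29282b2a25242726101312111c1f1e1d181b1a1914171615000302010c0f0e0d080b0a0904070605303332313c3f3e3d383b3a3934373635202322212c2f2e2d282b2a2924272625131211101f1e1d1c1b1a191817161514030201000f0e0d0c0b0a090807060504333231303f3e3d3c3b3a393837363534232221202f2e2d2c2b2a2928272625241e1d1c1f1a19181b16151417121110130e0d0c0f0a09080b06050407020100033e3d3c3f3a39383b36353437323130332e2d2c2f2a29282b26252427222120231d1c1f1e19181b1a15141716111013120d0c0f0e09080b0a05040706010003023d3c3f3e39383b3a35343736313033322d2c2f2e29282b2a25242726212023221c1f1e1d181b1a1914171615101312110c0f0e0d080b0a0904070605000302013c3f3e3d383b3a3934373635303332312c2f2e2d282b2a2924272625202322211f1e1d1c1b1a191817161514131211100f0e0d0c0b0a090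807060504030201003f3e3d3c3b3a393837363534333231302f2e2d2c2b2a292827262524232221200a09080b06050407020100030e0d0c0f3a39383b36353437323130333e3d3c3f2a29282b26252427222120232e2d2c2f1a19181b16151417121110131e1d1c1f09080b0a05040706010003020d0c0f0e39383b3a35343736313033323d3c3f3e29282b2a25242726212023222d2c2f2e19181b1a15141716111013121d1c1f1e080b0a0904070605000302010c0f0e0d383b3a3934373635303332313c3f3e3d282b2a2924272625202322212c2f2e2d181b1a1914171615101312111c1f1e1d0b0a090807060504030201000f0e0d0c3b3a393837363534333231303f3e3d3c2b2a292827262524232221202f2e2d2c1b1a191817161514131211101f1e1d1c06050407020100030e0d0c0f0a09080b36353437323130333e3d3c3f3a39383b26252427222120232e2d2c2f2a29282b16151417121110131e1d1c1f1a19181b05040706010003020d0c0f0e09080b0a35343736313033323d3c3f3e39383b3a25242726212023222d2c2f2e29282b2a15141716111013121d1c1f1e19181b1a04070605000302010c0f0e0d080b0a0934373635303332313c3f3e3d383b3a3924272625202322212c2f2e2d282b2a2914171615101312111c1f1e1d181b1a1907060504030201000f0e0d0c0b0a090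837363534333231303f3e3d3c3b3a393827262524232221202f2e2d2c2b2a292817161514131211101f1e1d1c1b1a1918020100030e0d0c0f0a09080b06050407323130333e3d3c3f3a39383b36353437222120232e2d2c2f2a29282b26252427121110131e1d1c1f1a19181b16151417010003020d0c0f0e09080b0a05040706313033323d3c3f3e39383b3a35343736212023222d2c2f2e29282b2a25242726111013121d1c1f1e19181b1a15141716000302010c0f0e0d080b0a0904070605303332313c3f3e3d383b3a3934373635202322212c2f2e2d282b2a2924272625101312111c1f1e1d181b1a1914171615030201000f0e0d0c0b0a090807060504333231303f3e3d3c3b3a393837363534232221202f2e2d2c2b2a292827262524131211101f1e1d1c1b1a1918171615140e0d0c0f0a09080b06050407020100033e3d3c3f3a39383b36353437323130332e2d2c2f2a29282b26252427222120231e1d1c1f1a19181b16151417121110130d0c0f0e09080b0a05040706010003023d3c3f3e39383b3a35343736313033322d2c2f2e29282b2a25242726212023221d1c1f1e19181b1a15141716111013120c0f0e0d080b0a0904070605000302013c3f3e3d383b3a3934373635303332312c2f2e2d282b2a2924272625202322211c1f1e1d181b1a1914171615101312110f0e0d0c0b0a090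807060504030201003f3e3d3c3b3a393837363534333231302f2e2d2c2b2a292827262524232221201f1e1d1c1b1a191817161514131211103a39383b36353437323130333e3d3c3f2a29282b26252427222120232e2d2c2f1a19181b16151417121110131e1d1c1f0a09080b06050407020100030e0d0c0f39383b3a35343736313033323d3c3f3e29282b2a25242726212023222d2c2f2e19181b1a15141716111013121d1c1f1e09080b0a05040706010003020d0c0f0e383b3a3934373635303332313c3f3e3d282b2a2924272625202322212c2f2e2d181b1a1914171615101312111c1f1e1d080b0a0904070605000302010c0f0e0d3b3a393837363534333231303f3e3d3c2b2a292827262524232221202f2e2d2c1b1a191817161514131211101f1e1d1c0b0a090807060504030201000f0e0d0c36353437323130333e3d3c3f3a39383b26252427222120232e2d2c2f2a29282b16151417121110131e1d1c1f1a19181b06050407020100030e0d0c0f0a09080b35343736313033323d3c3f3e39383b3a25242726212023222d2c2f2e29282b2a15141716111013121d1c1f1e19181b1a05040706010003020d0c0f0e09080b0a34373635303332313c3f3e3d383b3a3924272625202322212c2f2e2d282b2a2914171615101312111c1f1e1d181b1a1904070605000302010c0f0e0d080b0a0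937363534333231303f3e3d3c3b3a393827262524232221202f2e2d2c2b2a292817161514131211101f1e1d1c1b1a191807060504030201000f0e0d0c0b0a0908323130333e3d3c3f3a39383b36353437222120232e2d2c2f2a29282b26252427121110131e1d1c1f1a19181b16151417020100030e0d0c0f0a09080b06050407313033323d3c3f3e39383b3a35343736212023222d2c2f2e29282b2a25242726111013121d1c1f1e19181b1a15141716010003020d0c0f0e09080b0a05040706303332313c3f3e3d383b3a3934373635202322212c2f2e2d282b2a2924272625101312111c1f1e1d181b1a1914171615000302010c0f0e0d080b0a0904070605333231303f3e3d3c3b3a393837363534232221202f2e2d2c2b2a292827262524131211101f1e1d1c1b1a191817161514030201000f0e0d0c0b0a0908070605043e3d3c3f3a39383b36353437323130332e2d2c2f2a29282b26252427222120231e1d1c1f1a19181b16151417121110130e0d0c0f0a09080b06050407020100033d3c3f3e39383b3a35343736313033322d2c2f2e29282b2a25242726212023221d1c1f1e19181b1a15141716111013120d0c0f0e09080b0a05040706010003023c3f3e3d383b3a3934373635303332312c2f2e2d282b2a2924272625202322211c1f1e1d181b1a1914171615101312110c0f0e0d080b0a0904070605000302013f3e3d3c3b3a393837363534333231302f2e2d2c2b2a292827262524232221201f1e1d1c1b1a191817161514131211100f0e0d0c0b0a09080706050403020100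
def T2 : ℕ := 0x100100100100000010010100001000001010000101000000110000010010000010100100000100001100001000010001000010100100000100001100001000100000100101000100000010010010001000001100000101000000101000010001001000001100000101000000101000100001000011000100000100001010001001000000100101000010000010010001001001000000100101000010000010100001010000001100000100100000101001000001000011000010000100001000100100100100000010010100001000001010000101000000110000010010000010100100000100001100001000010001000010100100000100001100001000100000100101000100000010010010001000001100000101000000101000010001001000001100000101000000101000100001000011000100000100001010001001000000100101000010000010010001001001000000100101000010000010100001010000001100000100100000101001000001000011000010000100001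
def E2 : ℕ := 0x111111111111111111111111000000000000000000000000
def I2 : ℕ := 0x102030405060708090a0b0c0d0e0f101112131415161718191a1b1c1d1e1f202122232425262728292a2b2c2d2e2f060708090a0b0001020304050e0f0c0d11101415121317161e1f2021222318191a1b1c1d2627242529282c2d2a2b2f2e0203000105040c0d0e0f1011060708090a0b1312161714151a1b18191d1c2425262728291e1f202122232b2a2e2f2c2d0c0d0e0f1011020300010504080906070b0a1617131215142425262728291a1b18191d1c20211e1f23222e2f2b2a2d2c080906070b0a0e0f0c0d111000010203040515141716121320211e1f232226272425292818191a1b1c1d2d2c2f2e2a2b0e0f0c0d1110080906070b0a02030001050417161514131226272425292820211e1f23221a1b18191d1c2f2e2d2c2b2a01000405020307060a0b08091213141516170c0d0e0f101119181c1d1a1b1f1e222320212a2b2c2d2e2f24252627282907060a0b08090100040502031415121317160e0f0c0d11101f1e2223202119181c1d1a1b2c2d2a2b2f2e26272425292804050100030212131415161707060a0b08090d0c10110e0f1c1d19181b1a2a2b2c2d2e2f1f1e222320212524282926271213141516170405010003020a0b0706090810110d0c0f0e2a2b2c2d2e2f1c1d1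9181b1a22231f1e21202829252427260a0b070609081415121317160100040502030f0e11100c0d22231f1e21202c2d2a2b2f2e19181c1d1a1b2726292824251415121317160a0b0706090804050100030211100f0e0d0c2c2d2a2b2f2e22231f1e21201c1d19181b1a2928272625240302050400010d0c10110e0f131216171415060708090a0b1b1a1d1c18192524282926272b2a2e2f2c2d1e1f202122230d0c10110e0f030205040001161713121514080906070b0a2524282926271b1a1d1c18192e2f2b2a2d2c20211e1f23220504030201001312161714150d0c10110e0f07060a0b08091d1c1b1a19182b2a2e2f2c2d2524282926271f1e2223202113121617141505040302010010110d0c0f0e0a0b070609082b2a2e2f2c2d1d1c1b1a191828292524272622231f1e212010110d0c0f0e16171312151403020504000109080b0a06072829252427262e2f2b2a2d2c1b1a1d1c1819212023221e1f16171312151410110d0c0f0e0504030201000b0a090807062e2f2b2a2d2c2829252427261d1c1b1a1918232221201f1e09080b0a06070f0e11100c0d151417161213000102030405212023221e1f2726292824252d2c2f2e2a2b18191a1b1c1d0f0e11100c0d09080b0a0607171615141312020300010504272629282425212023221e1f2f2e2d2c2b2a1a1b18191d1c0b0a0908070615141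71612130f0e11100c0d010004050203232221201f1e2d2c2f2e2a2b27262928242519181c1d1a1b1514171612130b0a0908070611100f0e0d0c0405010003022d2c2f2e2a2b232221201f1e2928272625241c1d19181b1a11100f0e0d0c17161514131209080b0a06070302050400012928272625242f2e2d2c2b2a212023221e1f1b1a1d1c181917161514131211100f0e0d0c0b0a090807060504030201002f2e2d2c2b2a292827262524232221201f1e1d1c1b1a191818191a1b1c1d1e1f202122232425262728292a2b2c2d2e2f000102030405060708090a0b0c0d0e0f10111213141516171e1f2021222318191a1b1c1d2627242529282c2d2a2b2f2e060708090a0b0001020304050e0f0c0d11101415121317161a1b18191d1c2425262728291e1f202122232b2a2e2f2c2d0203000105040c0d0e0f1011060708090a0b1312161714152425262728291a1b18191d1c20211e1f23222e2f2b2a2d2c0c0d0e0f1011020300010504080906070b0a16171312151420211e1f232226272425292818191a1b1c1d2d2c2f2e2a2b080906070b0a0e0f0c0d111000010203040515141716121326272425292820211e1f23221a1b18191d1c2f2e2d2c2b2a0e0f0c0d1110080906070b0a02030001050417161514131219181c1d1a1b1f1e222320212a2b2c2d2e2f24252627282901000405020307060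a0b08091213141516170c0d0e0f10111f1e2223202119181c1d1a1b2c2d2a2b2f2e26272425292807060a0b08090100040502031415121317160e0f0c0d11101c1d19181b1a2a2b2c2d2e2f1f1e2223202125242829262704050100030212131415161707060a0b08090d0c10110e0f2a2b2c2d2e2f1c1d19181b1a22231f1e21202829252427261213141516170405010003020a0b0706090810110d0c0f0e22231f1e21202c2d2a2b2f2e19181c1d1a1b2726292824250a0b070609081415121317160100040502030f0e11100c0d2c2d2a2b2f2e22231f1e21201c1d19181b1a2928272625241415121317160a0b0706090804050100030211100f0e0d0c1b1a1d1c18192524282926272b2a2e2f2c2d1e1f202122230302050400010d0c10110e0f131216171415060708090a0b2524282926271b1a1d1c18192e2f2b2a2d2c20211e1f23220d0c10110e0f030205040001161713121514080906070b0a1d1c1b1a19182b2a2e2f2c2d2524282926271f1e222320210504030201001312161714150d0c10110e0f07060a0b08092b2a2e2f2c2d1d1c1b1a191828292524272622231f1e212013121617141505040302010010110d0c0f0e0a0b070609082829252427262e2f2b2a2d2c1b1a1d1c1819212023221e1f10110d0c0f0e16171312151403020504000109080b0a06072e2f2b2a2d2c28292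52427261d1c1b1a1918232221201f1e16171312151410110d0c0f0e0504030201000b0a09080706212023221e1f2726292824252d2c2f2e2a2b18191a1b1c1d09080b0a06070f0e11100c0d151417161213000102030405272629282425212023221e1f2f2e2d2c2b2a1a1b18191d1c0f0e11100c0d09080b0a0607171615141312020300010504232221201f1e2d2c2f2e2a2b27262928242519181c1d1a1b0b0a090807061514171612130f0e11100c0d0100040502032d2c2f2e2a2b232221201f1e2928272625241c1d19181b1a1514171612130b0a0908070611100f0e0d0c0405010003022928272625242f2e2d2c2b2a212023221e1f1b1a1d1c181911100f0e0d0c17161514131209080b0a06070302050400012f2e2d2c2b2a292827262524232221201f1e1d1c1b1a191817161514131211100f0e0d0c0b0a09080706050403020100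
def K : ℕ := 0x3034383c3135393d32363a3e33373b3f2f23272b2c2024282d2125292e22262a1a1e12161b1f1317181c1014191d111505090d01060a0e02070b0f0304080c003034383c2f23272b1a1e121605090d013135393d2c2024281b1f1317060a0e0232363a3e2d212529181c1014070b0f0333373b3f2e22262a191d111504080c00303132333435363738393a3b3c3d3e3f2f2c2d2e23202122272425262b28292a1a1b18191e1f1c1d121310111617141505060704090a0b080d0e0f0c01020300303132332f2c2d2e1a1b18190506070434353637232021221e1f1c1d090a0b0838393a3b27242526121310110d0e0f0c3c3d3e3f2b28292a1617141501020300302f1a0534231e093827120d3c2b1601312c1b0635201f0a3924130e3d281702322d180736211c0b3a25100f3e291403332e190437221d083b26110c3f2a1500302f1a05312c1b06322d1807332e190434231e0935201f0a36211c0b37221d083827120d3924130e3a25100f3b26110c3c2b16013d2817023e2914033f2a15000c1c2c3c0d1d2d3d0e1e2e3e0f1f2f3f3b0b1b2b38081828390919293a0a1a2a26360616273707172434041425350515112131011222320213233303102030000c1c2c3c3b0b1b2b26360616112131010d1d2d3d3808182827370717122232020e1e2e3e390919292434041413233303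0f1f2f3f3a0a1a2a25350515102030000c0d0e0f1c1d1e1f2c2d2e2f3c3d3e3f3b38393a0b08090a1b18191a2b28292a26272425363734350607040516171415111213102122232031323330010203000c0d0e0f3b38393a26272425111213101c1d1e1f0b08090a36373435212223202c2d2e2f1b18191a06070405313233303c3d3e3f2b28292a16171415010203000c3b26111c0b36212c1b06313c2b16010d3827121d0837222d1807323d2817020e3924131e0934232e1904333e2914030f3a25101f0a35202f1a05303f2a15000c3b26110d3827120e3924130f3a25101c0b36211d0837221e0934231f0a35202c1b06312d1807322e1904332f1a05303c2b16013d2817023e2914033f2a150003132333071727370b1b2b3b0f1f2f3f3e0e1e2e32021222360616263a0a1a2a293909192d3d0d1d213101112535051514243404182838081c2c3c0c10203000031323333e0e1e2e293909191424340407172737320212222d3d0d1d182838080b1b2b3b36061626213101111c2c3c0c0f1f2f3f3a0a1a2a253505151020300003070b0f13171b1f23272b2f33373b3f3e32363a0e02060a1e12161a2e22262a292d2125393d3135090d0105191d111514181c1024282c2034383c3004080c0003070b0f3e32363a292d212514181c1013171b1f0e02060a393d313524282c2023272b2f1e12161a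090d010534383c3033373b3f2e22262a191d111504080c00033e2914130e3924231e0934332e190407322d1817023d2827120d3837221d080b36211c1b06312c2b16013c3b26110c0f3a25101f0a35202f1a05303f2a1500033e291407322d180b36211c0f3a2510130e392417023d281b06312c1f0a3520231e093427120d382b16013c2f1a0530332e190437221d083b26110c3f2a150015253505192939091d2d3d0d11213101162636061a2a3a0a1e2e3e0e12223202172737071b2b3b0b1f2f3f0f1323330314243404182838081c2c3c0c1020300015253505162636061727370714243404192939091a2a3a0a1b2b3b0b182838081d2d3d0d1e2e3e0e1f2f3f0f1c2c3c0c1121310112223202132333031020300015191d1125292d2135393d3105090d01161a1e12262a2e22363a3e32060a0e02171b1f13272b2f23373b3f33070b0f0314181c1024282c2034383c3004080c0015191d11161a1e12171b1f1314181c1025292d21262a2e22272b2f2324282c2035393d31363a3e32373b3f3334383c3005090d01060a0e02070b0f0304080c0015161714252627243536373405060704191a1b18292a2b28393a3b38090a0b081d1e1f1c2d2e2f2c3d3e3f3c0d0e0f0c1112131021222320313233300102030015161714191a1b181d1e1f1c1112131025262724292a2b282d2e2f2c21222320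35363734393a3b383d3e3f3c3132333005060704090a0b080d0e0f0c01020300101c1814131f1b17121e1a16111d191525212d2924202c2827232f2b26222e2a3a36323e3935313d3834303c3b37333f0f0b07030e0a06020d0905010c080400101c181425212d293a36323e0f0b0703131f1b1724202c283935313d0e0a0602121e1a1627232f2b3834303c0d090501111d191526222e2a3b37333f0c080400101312111c1f1e1d181b1a191417161525242726212023222d2c2f2e29282b2a3a39383b36353437323130333e3d3c3f0f0e0d0c0b0a0908070605040302010010131211252427263a39383b0f0e0d0c1c1f1e1d21202322363534370b0a0908181b1a192d2c2f2e32313033070605041417161529282b2a3e3d3c3f0302010010253a0f1c21360b182d320714293e031324390e1f20350a1b2c310617283d021227380d1e2334091a2f3005162b3c0111263b0c1d223708192e3304152a3f0010253a0f1324390e1227380d11263b0c1c21360b1f20350a1e2334091d223708182d32071b2c31061a2f3005192e330414293e0317283d02162b3c01152a3f000434241407372717063626160535251519093929180838281b0b3b2b1a0a3a2a2e1e0e3e2d1d0d3d2c1c0c3c2f1f0f3f3323130332221202312111013020100004342414190939292e1e0e3e332313030737271718083828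2d1d0d3d32221202063626161b0b3b2b2c1c0c3c31211101053525151a0a3a2a2f1f0f3f302010000407060534373635242726251417161519181b1a09080b0a39383b3a29282b2a2e2d2c2f1e1d1c1f0e0d0c0f3e3d3c3f333231302322212013121110030201000407060519181b1a2e2d2c2f333231303437363509080b0a1e1d1c1f232221202427262539383b3a0e0d0c0f131211101417161529282b2a3e3d3c3f0302010004192e3334091e2324390e1314293e0307182d3237081d2227380d1217283d02061b2c31360b1c21263b0c11162b3c01051a2f30350a1f20253a0f10152a3f0004192e3307182d32061b2c31051a2f3034091e2337081d22360b1c21350a1f2024390e1327380d12263b0c11253a0f1014293e0317283d02162b3c01152a3f00013121110d3d2d1d093929190535251516063626120232221e0e3e2e1a0a3a2a2b1b0b3b27170737231303332f1f0f3f3c2c1c0c38281808342414043020100001312111160636262b1b0b3b3c2c1c0c0d3d2d1d120232222717073738281808093929191e0e3e2e2313033334241404053525151a0a3a2a2f1f0f3f30201000010d0905313d3935212d2925111d191516121e1a06020e0a36323e3a26222e2a2b27232f1b17131f0b07030f3b37333f3c3834302c2824201c1814100c080400010d090516121e1a2b27232f3c383430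313d393506020e0a1b17131f2c282420212d292536323e3a0b07030f1c181410111d191526222e2a3b37333f0c08040001162b3c31061b2c21360b1c11263b0c0d1227383d0217282d3207181d223708091e2334390e1324293e0314192e3304051a2f30350a1f20253a0f10152a3f0001162b3c0d122738091e2334051a2f3031061b2c3d021728390e1324350a1f2021360b1c2d320718293e0314253a0f1011263b0c1d223708192e3304152a3f003f2f1f0f3b2b1b0b37271707332313033e2e1e0e3a2a1a0a36261606322212023d2d1d0d3929190935251505312111013c2c1c0c3828180834241404302010003f2f1f0f3e2e1e0e3d2d1d0d3c2c1c0c3b2b1b0b3a2a1a0a392919093828180837271707362616063525150534241404332313033222120231211101302010003f3b37332f2b27231f1b17130f0b07033e3a36322e2a26221e1a16120e0a06023d3935312d2925211d1915110d0905013c3834302c2824201c1814100c0804003f3b37333e3a36323d3935313c3834302f2b27232e2a26222d2925212c2824201f1b17131e1a16121d1915111c1814100f0b07030e0a06020d0905010c0804003f3e3d3c2f2e2d2c1f1e1d1c0f0e0d0c3b3a39382b2a29281b1a19180b0a090837363534272625241716151407060504333231302322212013121110030201003f3e3d3c3b3a393837363534333231302f2e2d2c2b2a292827262524232221201f1e1d1c1b1a191817161514131211100f0e0d0c0b0a09080706050403020100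
def Q : ℕ := 0x33333333333333332222222222222222666666666666666611111111111111113333222266661111333322226666111133332222666611113333222266661111333333333333333322222222222222226666666666666666111111111111111133332222666611113333222266661111333322226666111133332222666611113261326132613261326132613261326132613261326132613261326132613261326132613261326132613261326132613261326132613261326132613261326133333333333333332222222222222222666666666666666611111111111111113333222266661111333322226666111133332222666611113333222266661111333333333333333322222222222222226666666666666666111111111111111133332222666611113333222266661111333322226666111133332222666611113261326132613261326132613261326132613261326132613261326132613261326132613261326132613261326132613261326132613261326132613261326133333333333333332222222222222222666666666666666611111111111111113333222266661111333322226666111133332222666611113333222266661111333333333333333322222222222222226666666666666666111111111111111133332222666611113333222266661111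333322226666111133332222666611113261326132613261326132613261326132613261326132613261326132613261326132613261326132613261326132613261326132613261326132613261326111111111111111111111111111111111111111111111111111111111111111111111111111111111111111111111111111111111111111111111111111111111111111111111111111111111111111111111111111111111111111111111111111111111111111111111111111111111111111111111111111111111111111111111111111111111111111111111111111111111111111111111111111111111111111111111111111111111111111111111111111111111111111111111111166666666666666662222222222222222333333333333333311111111111111116666222233331111666622223333111166662222333311116666222233331111666666666666666622222222222222223333333333333333111111111111111166662222333311116666222233331111666622223333111166662222333311116231623162316231623162316231623162316231623162316231623162316231623162316231623162316231623162316231623162316231623162316231623166666666666666662222222222222222333333333333333311111111111111116666222233331111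6666222233331111666622223333111166662222333311116666666666666666222222222222222233333333333333331111111111111111666622223333111166662222333311116666222233331111666622223333111162316231623162316231623162316231623162316231623162316231623162316231623162316231623162316231623162316231623162316231623162316231666666666666666622222222222222223333333333333333111111111111111166662222333311116666222233331111666622223333111166662222333311116666666666666666222222222222222233333333333333331111111111111111666622223333111166662222333311116666222233331111666622223333111162316231623162316231623162316231623162316231623162316231623162316231623162316231623162316231623162316231623162316231623162316231111111111111111111111111111111111111111111111111111111111111111111111111111111111111111111111111111111111111111111111111111111111111111111111111111111111111111111111111111111111111111111111111111111111111111111111111111111111111111111111111111111111111111111111111111111111111111111111111111111111111111111111111111111111111111111111111111111111111111111111111111111111111111111111111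
def L : ℕ := 0x1
def R : ℕ := 0x1000100010001
def X : ℕ := 0x2052380616236612868506763140631204167881126668035610163650167535516046033216428547534472231157728620844360418284026802726000071644814543855222368101155507056484746710278528501244814543855222366132453801242037063560285825261621212506307132232121250630713223
def V : ℕ := 0x6000200060001000500000007000100050001000100000005000300010001000800040008000100010000000500010004000700070001000800040005000100030002000200010004000000050001000600060007000100030002000200010004000000080001000100000005000100000008000600010000000800060001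
def P : ℕ := 0x4187782845463854537846021131511027023860144822365348303448414358465882483661768821163506587305668620844360418284632370113361041224785418874343878101155507056484353062168838076633507026630404622663844377438781476572786608402203766584872517748786541853601502
def J : ℕ := 0x4322321351534353
def W : ℕ := 0x2008340000000000000000000000000000000000000000000000460000000000000000b4000000000000000000000000000033000000000000000000000000000000000000000004000084100000030000000000000000000000000000000000100004000000090000000000000000000000000000000000000001000000000000000000000000000000030000000000000000a0000000080000003000000000000000000000000700000000000000000000000000000000000000000000000050000000000000000000000000000000000000000000003000000f0000000400000000020000d0000000000000000000000000000000000000000000000000000000000000000001000004000000000000000070000000000000010500000000200000e000000000000000400000000000000000000000000000010000000000000000000000000000000001000000000000050000000600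00000000b00000000000000b000000000002000000000000000000000000000000000000000000000000032070000000000000000000000000000000000000008000000000000000000000000000003000000000000000000000000050000a000000001000000000000000000000000200000c000000000000000000000000000000000000000000000023000000000000000000000000000000000000000000200291000000000000000000000f1b0000000000000000000000e00000000000000000000000006000000000000000560000a95000000100000000500000a7300000000000000000000004003000050000000010000200000000000000000000500008000000000000000000000000000000000000000000000307b030000000000000000000000000000000000000080000020000000000000000000000000000000002000000000000040000000000000000000000002000000101000000301000010000000c00000000602000010000000000000000000000010000000000000000000000000000000002000000020003000000000009000000010000070000000000000000000002010000000000000000000000000000000000000000500000000000000000000000020000200000000000000000003000010000000000000000000000000000000000000000010000060000000000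000000600000000000000200000000000000038000000004000000208000000000000000000000000001010000000000000000000000000000000000000000001000020000000904000000000000000000000000000000020000050000000000000000000000000000000000000000000000530000000000000000000000000000000000000000000000520000000000000000910000000000000000000000000001240000000000000000000000000000000000000000a600003000000000000000000000000000000000080000000000000200000006000000000000000000000000050000000000000100000000000000000000000000000001010000000090000480000000000000003000000000000000000000000000040c0000000000000000000000003060000000000000000004000000000200000000c0000000000000000000000000000000000000000000000000000000000000000000000000000006600000000000000000000300001000000000000001d0000700000000000000000000000000500000000000000000000100000000000000000000000050000001000000007000060100400006000000002000030200a00000000000000000000200000000000000000000000000300000000000000320000000e00000000000000120000100000000000000000000000750000000000000000000020000d000000000000000000002000000000000000000000000303000000000000000000409000000020000000020000000005000000000000001000005000000000000000000000000000000000000000000000010000000000000000000000000008000000100000000000001002000000500000000000011001000000400000000000017000000000000000000000000000000010300000070100014704000010300000090000240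

/-- the field automorphisms -/
def e2 (j : ℕ) : ℕ := en E2 j

theorem a1_0 : alla (fun i => k1 T1 (fun _ => 0) L R i) 0 64 = true := by decide +kernel

theorem a1 : ∀ i, i < 64 → (fun i => k1 T1 (fun _ => 0) L R i) i = true := by
  intro i hi
  exact alla_spec a1_0 (by omega) (by omega)

theorem a2_0 : alla (fun i => k2 T1 (fun _ => 0) i) 0 64 = true := by
  iterate 3 refine alla_cut 16 (by decide) (by decide +kernel) ?_
  decide +kernel

theorem a2 : ∀ i, i < 64 → (fun i => k2 T1 (fun _ => 0) i) i = true := by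
  intro i hi
  exact alla_spec a2_0 (by omega) (by omega)

theorem a3_0 : alla (fun i => k3 T1 (fun _ => 0) 64 I1 i) 0 32 = true := by
  iterate 7 refine alla_cut 4 (by decide) (by decide +kernel) ?_
  decide +kernel
theorem a3_1 : alla (fun i => k3 T1 (fun _ => 0) 64 I1 i) 32 32 = true := by
  iterate 7 refine alla_cut 4 (by decide) (by decide +kernel) ?_
  decide +kernel

theorem a3 : ∀ i, i < 64 → (fun i => k3 T1 (fun _ => 0) 64 I1 i) i = true := by
  intro i hi
  by_cases h0 : i < 32
  · exact alla_spec a3_0 (by omega) (by omega)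
  exact alla_spec a3_1 (by omega) (by omega)

theorem b1_0 : alla (fun i => k1 T2 e2 L R i) 0 48 = true := by decide +kernel

theorem b1 : ∀ i, i < 48 → (fun i => k1 T2 e2 L R i) i = true := by
  intro i hi
  exact alla_spec b1_0 (by omega) (by omega)

theorem b2_0 : alla (fun i => k2 T2 e2 i) 0 48 = true := by
  iterate 2 refine alla_cut 16 (by decide) (by decide +kernel) ?_
  decide +kernel

theorem b2 : ∀ i, i < 48 → (fun i => k2 T2 e2 i) i = true := by
  intro i hi
  exact alla_spec b2_0 (by omega) (by omega)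

theorem b3_0 : alla (fun i => k3 T2 e2 48 I2 i) 0 48 = true := by
  iterate 11 refine alla_cut 4 (by decide) (by decide +kernel) ?_
  decide +kernel

theorem b3 : ∀ i, i < 48 → (fun i => k3 T2 e2 48 I2 i) i = true := by
  intro i hi
  exact alla_spec b3_0 (by omega) (by omega)

theorem c4_0 : alla (fun i => k4 T1 T2 e2 64 K Q i) 0 24 = true := by
  iterate 11 refine alla_cut 2 (by decide) (by decide +kernel) ?_
  decide +kernel
theorem c4_1 : alla (fun i => k4 T1 T2 e2 64 K Q i) 24 24 = true := by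
  iterate 11 refine alla_cut 2 (by decide) (by decide +kernel) ?_
  decide +kernel

theorem c4 : ∀ i, i < 48 → (fun i => k4 T1 T2 e2 64 K Q i) i = true := by
  intro i hi
  by_cases h0 : i < 24
  · exact alla_spec c4_0 (by omega) (by omega)
  exact alla_spec c4_1 (by omega) (by omega)

theorem c5_0 : alla (fun i => k5 T1 T2 e2 48 i) 0 64 = true := by
  iterate 15 refine alla_cut 4 (by decide) (by decide +kernel) ?_
  decide +kernel

theorem c5 : ∀ i, i < 64 → (fun i => k5 T1 T2 e2 48 i) i = true := by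
  intro i hi
  exact alla_spec c5_0 (by omega) (by omega)

theorem d1_0 : alla (fun w => kD X V P J w) 0 16 = true := by decide +kernel

theorem d1 : ∀ i, i < 16 → (fun w => kD X V P J w) i = true := by
  intro i hi
  exact alla_spec d1_0 (by omega) (by omega)

theorem d6_0 : alla (fun i => alla (fun j => k6 (mm (tM T1 i) (tM T2 j)) (e2 j) X V P (en W (Nat.add (Nat.mul 48 i) j))) 0 48) 0 16 = true := by
  iterate 15 refine alla_cut 1 (by decide) (by decide +kernel) ?_
  decide +kernel
theorem d6_1 : alla (fun i => alla (fun j => k6 (mm (tM T1 i) (tM T2 j)) (e2 j) X V P (en W (Nat.add (Nat.mul 48 i) j))) 0 48) 16 16 = true := by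
  iterate 15 refine alla_cut 1 (by decide) (by decide +kernel) ?_
  decide +kernel
theorem d6_2 : alla (fun i => alla (fun j => k6 (mm (tM T1 i) (tM T2 j)) (e2 j) X V P (en W (Nat.add (Nat.mul 48 i) j))) 0 48) 32 16 = true := by
  iterate 15 refine alla_cut 1 (by decide) (by decide +kernel) ?_
  decide +kernel
theorem d6_3 : alla (fun i => alla (fun j => k6 (mm (tM T1 i) (tM T2 j)) (e2 j) X V P (en W (Nat.add (Nat.mul 48 i) j))) 0 48) 48 16 = true := by
  iterate 15 refine alla_cut 1 (by decide) (by decide +kernel) ?_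
  decide +kernel

theorem d6 : ∀ i, i < 64 → (fun i => alla (fun j => k6 (mm (tM T1 i) (tM T2 j)) (e2 j) X V P (en W (Nat.add (Nat.mul 48 i) j))) 0 48) i = true := by
  intro i hi
  by_cases h0 : i < 16
  · exact alla_spec d6_0 (by omega) (by omega)
  by_cases h1 : i < 32
  · exact alla_spec d6_1 (by omega) (by omega)
  by_cases h2 : i < 48
  · exact alla_spec d6_2 (by omega) (by omega)
  exact alla_spec d6_3 (by omega) (by omega)

theorem cgA : CG T1 (fun _ => 0) 64 L R := cg_of (by norm_num) a1 a2 a3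

theorem cgB : CG T2 e2 48 L R := cg_of (by norm_num) b1 b2 b3

/-- **involutions** -/
theorem good (hR : ResList F9 3) {α : MulAut (PSU 4 F9 3)} (hα : orderOf α = 2) : Good α := by
  have hfin := finite_aut
  obtain ⟨S, hS, hS'⟩ := cgrp cgA cgB (fun j hj i hi => k4_spec (c4 j hj) i hi) (fun i hi j hj => k5_spec (c5 i hi) j hj)
  obtain ⟨g, hg⟩ := exists_conj_mem Nat.prime_two
    (not_dvd_index card_aut hS (k := 8505) (by norm_num) (by norm_num) (by norm_num)) hα
  apply Good.of_conj g
  obtain ⟨h2, h1⟩ := conj_facts Nat.prime_two hα g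
  obtain ⟨i, j, hi, hj, h⟩ := hS' _ hg
  rw [h] at h1 h2 ⊢
  exact k6_spec hR (uni_mm (cgA.uni i hi) (cgB.uni j hj) 0) (cgB.elt j hj) (d1 _ (en_lt _ _)) (all_spec (d6 i hi) hj) h2 h1

end Cfsg.Agent.H833.Spr4.Mon
end

-- part: H833/Spr4/Syl
section
/-!
# S3938, `PSU_4(3)`: the Sylow 3-subgroup (r = 3)
-/

set_option autoImplicit false
set_option maxRecDepth 20000

namespace Cfsg.Agent.H833.Spr4.Syl

open Cfsg Cfsg.Agent.ChevalleyStructure.NineField Cfsg.Agent.H833.Spr4.Code

def T1 : ℕ := 0x4752873743471887475287374375184447528737431018017552443743471887755244374375184475524437431018011052013743471887105201374375184410520137431018014743871852473787474387185275374447438718521037017543441852473787754344185275374475434418521037011043011852473787104301185275374410430118521037014737878637478687473787863775864447378786371086017537448637478687753744863775864475374486371086011037018637478687103701863775864410370186371086014786872471476587478687247175654447868724711065017586442471476587758644247175654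47586442471106501108601247147658710860124717565441086012471106501477187658647248747718765867524444771876586102401757144658647248775714465867524447571446586102401107101658647248710710165867524441071016586102401476587436547438747658743657543444765874365104301756544436547438775654443657543447565444365104301106501436547438710650143657543441065014365104301472487711847528747248771187552444724877118105201752444711847528775244471187552447524447118105201102401711847528710240171187552441024017118105201471887522447718747188752247571444718875224107101751844522447718775184452247571447518445224107101101801522447718710180152247571441018015224107101470087000047008747008700007500444700870000100001750044000047008775004400007500447500440000100001100001000047008710000100007500441000010000100001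
def I1 : ℕ := 0x2827292524262b2a2c1f1e201c1b1d2221233130322e2d2f3433350d0c0e0a090b100f1104030501000207060816151713121419181a434244403f414645473a393b3736383d3c3e4c4b4d49484a4f4e502729282426252a2c2b1e201f1b1d1c2123223032312d2f2e3335340c0e0d090b0a0f1110030504000201060807151716121413181a194244433f4140454746393b3a3638373c3e3d4b4d4c484a494e504f2928272625242c2b2a201f1e1d1c1b2322213231302f2e2d3534330e0d0c0b0a0911100f0504030201000807061716151413121a191844434241403f4746453b3a393837363e3d3c4d4c4b4a4948504f4e2524262b2a2c2827291c1b1d2221231f1e202e2d2f3433353130320a090b100f110d0c0e01000207060804030513121419181a161517403f414645474342443736383d3c3e3a393b49484a4f4e504c4b4d2426252a2c2b2729281b1d1c2123221e201f2d2f2e333534303231090b0a0f11100c0e0d000201060807030504121413181a191517163f41404547464244433638373c3e3d393b3a484a494e504f4b4d4c2625242c2b2a2928271d1c1b232221201f1e2f2e2d3534333231300b0a0911100f0e0d0c0201000807060504031413121a191817161541403f4746454443423837363e3d3c3b3a394a4948504f4e4d4c4b2b2a2c2827292524262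221231f1e201c1b1d3433353130322e2d2f100f110d0c0e0a090b07060804030501000219181a161517131214464547434244403f413d3c3e3a393b3736384f4e504c4b4d49484a2a2c2b2729282426252123221e201f1b1d1c3335343032312d2f2e0f11100c0e0d090b0a060807030504000201181a191517161214134547464244433f41403c3e3d393b3a3638374e504f4b4d4c484a492c2b2a292827262524232221201f1e1d1c1b3534333231302f2e2d11100f0e0d0c0b0a090807060504030201001a191817161514131247464544434241403f3e3d3c3b3a39383736504f4e4d4c4b4a49481f1e201c1b1d2221233130322e2d2f3433352827292524262b2a2c04030501000207060816151713121419181a0d0c0e0a090b100f113a393b3736383d3c3e4c4b4d49484a4f4e50434244403f414645471e201f1b1d1c2123223032312d2f2e3335342729282426252a2c2b030504000201060807151716121413181a190c0e0d090b0a0f1110393b3a3638373c3e3d4b4d4c484a494e504f4244433f4140454746201f1e1d1c1b2322213231302f2e2d3534332928272625242c2b2a0504030201000807061716151413121a19180e0d0c0b0a0911100f3b3a393837363e3d3c4d4c4b4a4948504f4e44434241403f4746451c1b1d2221231f1e202e2d2f3433353130322524262b2a2c2827290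1000207060804030513121419181a1615170a090b100f110d0c0e3736383d3c3e3a393b49484a4f4e504c4b4d403f414645474342441b1d1c2123221e201f2d2f2e3335343032312426252a2c2b272928000201060807030504121413181a19151716090b0a0f11100c0e0d3638373c3e3d393b3a484a494e504f4b4d4c3f41404547464244431d1c1b232221201f1e2f2e2d3534333231302625242c2b2a2928270201000807060504031413121a19181716150b0a0911100f0e0d0c3837363e3d3c3b3a394a4948504f4e4d4c4b41403f4746454443422221231f1e201c1b1d3433353130322e2d2f2b2a2c28272925242607060804030501000219181a161517131214100f110d0c0e0a090b3d3c3e3a393b3736384f4e504c4b4d49484a464547434244403f412123221e201f1b1d1c3335343032312d2f2e2a2c2b272928242625060807030504000201181a191517161214130f11100c0e0d090b0a3c3e3d393b3a3638374e504f4b4d4c484a494547464244433f4140232221201f1e1d1c1b3534333231302f2e2d2c2b2a2928272625240807060504030201001a191817161514131211100f0e0d0c0b0a093e3d3c3b3a39383736504f4e4d4c4b4a494847464544434241403f3130322e2d2f3433352827292524262b2a2c1f1e201c1b1d22212316151713121419181a0d0c0e0a090b100f110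403050100020706084c4b4d49484a4f4e50434244403f414645473a393b3736383d3c3e3032312d2f2e3335342729282426252a2c2b1e201f1b1d1c212322151716121413181a190c0e0d090b0a0f11100305040002010608074b4d4c484a494e504f4244433f4140454746393b3a3638373c3e3d3231302f2e2d3534332928272625242c2b2a201f1e1d1c1b2322211716151413121a19180e0d0c0b0a0911100f0504030201000807064d4c4b4a4948504f4e44434241403f4746453b3a393837363e3d3c2e2d2f3433353130322524262b2a2c2827291c1b1d2221231f1e2013121419181a1615170a090b100f110d0c0e01000207060804030549484a4f4e504c4b4d403f414645474342443736383d3c3e3a393b2d2f2e3335343032312426252a2c2b2729281b1d1c2123221e201f121413181a19151716090b0a0f11100c0e0d000201060807030504484a494e504f4b4d4c3f41404547464244433638373c3e3d393b3a2f2e2d3534333231302625242c2b2a2928271d1c1b232221201f1e1413121a19181716150b0a0911100f0e0d0c0201000807060504034a4948504f4e4d4c4b41403f4746454443423837363e3d3c3b3a393433353130322e2d2f2b2a2c2827292524262221231f1e201c1b1d19181a161517131214100f110d0c0e0a090b0706080403050100024f4e504c4b4d49484a4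64547434244403f413d3c3e3a393b3736383335343032312d2f2e2a2c2b2729282426252123221e201f1b1d1c181a191517161214130f11100c0e0d090b0a0608070305040002014e504f4b4d4c484a494547464244433f41403c3e3d393b3a3638373534333231302f2e2d2c2b2a292827262524232221201f1e1d1c1b1a191817161514131211100f0e0d0c0b0a09080706050403020100504f4e4d4c4b4a494847464544434241403f3e3d3c3b3a393837360d0c0e0a090b100f1104030501000207060816151713121419181a434244403f414645473a393b3736383d3c3e4c4b4d49484a4f4e502827292524262b2a2c1f1e201c1b1d2221233130322e2d2f3433350c0e0d090b0a0f1110030504000201060807151716121413181a194244433f4140454746393b3a3638373c3e3d4b4d4c484a494e504f2729282426252a2c2b1e201f1b1d1c2123223032312d2f2e3335340e0d0c0b0a0911100f0504030201000807061716151413121a191844434241403f4746453b3a393837363e3d3c4d4c4b4a4948504f4e2928272625242c2b2a201f1e1d1c1b2322213231302f2e2d3534330a090b100f110d0c0e01000207060804030513121419181a161517403f414645474342443736383d3c3e3a393b49484a4f4e504c4b4d2524262b2a2c2827291c1b1d2221231f1e202e2d2f3433353130320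90b0a0f11100c0e0d000201060807030504121413181a191517163f41404547464244433638373c3e3d393b3a484a494e504f4b4d4c2426252a2c2b2729281b1d1c2123221e201f2d2f2e3335343032310b0a0911100f0e0d0c0201000807060504031413121a191817161541403f4746454443423837363e3d3c3b3a394a4948504f4e4d4c4b2625242c2b2a2928271d1c1b232221201f1e2f2e2d353433323130100f110d0c0e0a090b07060804030501000219181a161517131214464547434244403f413d3c3e3a393b3736384f4e504c4b4d49484a2b2a2c2827292524262221231f1e201c1b1d3433353130322e2d2f0f11100c0e0d090b0a060807030504000201181a191517161214134547464244433f41403c3e3d393b3a3638374e504f4b4d4c484a492a2c2b2729282426252123221e201f1b1d1c3335343032312d2f2e11100f0e0d0c0b0a090807060504030201001a191817161514131247464544434241403f3e3d3c3b3a39383736504f4e4d4c4b4a49482c2b2a292827262524232221201f1e1d1c1b3534333231302f2e2d04030501000207060816151713121419181a0d0c0e0a090b100f113a393b3736383d3c3e4c4b4d49484a4f4e50434244403f414645471f1e201c1b1d2221233130322e2d2f3433352827292524262b2a2c030504000201060807151716121413181a190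c0e0d090b0a0f1110393b3a3638373c3e3d4b4d4c484a494e504f4244433f41404547461e201f1b1d1c2123223032312d2f2e3335342729282426252a2c2b0504030201000807061716151413121a19180e0d0c0b0a0911100f3b3a393837363e3d3c4d4c4b4a4948504f4e44434241403f474645201f1e1d1c1b2322213231302f2e2d3534332928272625242c2b2a01000207060804030513121419181a1615170a090b100f110d0c0e3736383d3c3e3a393b49484a4f4e504c4b4d403f414645474342441c1b1d2221231f1e202e2d2f3433353130322524262b2a2c282729000201060807030504121413181a19151716090b0a0f11100c0e0d3638373c3e3d393b3a484a494e504f4b4d4c3f41404547464244431b1d1c2123221e201f2d2f2e3335343032312426252a2c2b2729280201000807060504031413121a19181716150b0a0911100f0e0d0c3837363e3d3c3b3a394a4948504f4e4d4c4b41403f4746454443421d1c1b232221201f1e2f2e2d3534333231302625242c2b2a29282707060804030501000219181a161517131214100f110d0c0e0a090b3d3c3e3a393b3736384f4e504c4b4d49484a464547434244403f412221231f1e201c1b1d3433353130322e2d2f2b2a2c282729252426060807030504000201181a191517161214130f11100c0e0d090b0a3c3e3d393b3a3638374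e504f4b4d4c484a494547464244433f41402123221e201f1b1d1c3335343032312d2f2e2a2c2b2729282426250807060504030201001a191817161514131211100f0e0d0c0b0a093e3d3c3b3a39383736504f4e4d4c4b4a494847464544434241403f232221201f1e1d1c1b3534333231302f2e2d2c2b2a29282726252416151713121419181a0d0c0e0a090b100f110403050100020706084c4b4d49484a4f4e50434244403f414645473a393b3736383d3c3e3130322e2d2f3433352827292524262b2a2c1f1e201c1b1d222123151716121413181a190c0e0d090b0a0f11100305040002010608074b4d4c484a494e504f4244433f4140454746393b3a3638373c3e3d3032312d2f2e3335342729282426252a2c2b1e201f1b1d1c2123221716151413121a19180e0d0c0b0a0911100f0504030201000807064d4c4b4a4948504f4e44434241403f4746453b3a393837363e3d3c3231302f2e2d3534332928272625242c2b2a201f1e1d1c1b23222113121419181a1615170a090b100f110d0c0e01000207060804030549484a4f4e504c4b4d403f414645474342443736383d3c3e3a393b2e2d2f3433353130322524262b2a2c2827291c1b1d2221231f1e20121413181a19151716090b0a0f11100c0e0d000201060807030504484a494e504f4b4d4c3f41404547464244433638373c3e3d393b3a2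d2f2e3335343032312426252a2c2b2729281b1d1c2123221e201f1413121a19181716150b0a0911100f0e0d0c0201000807060504034a4948504f4e4d4c4b41403f4746454443423837363e3d3c3b3a392f2e2d3534333231302625242c2b2a2928271d1c1b232221201f1e19181a161517131214100f110d0c0e0a090b0706080403050100024f4e504c4b4d49484a464547434244403f413d3c3e3a393b3736383433353130322e2d2f2b2a2c2827292524262221231f1e201c1b1d181a191517161214130f11100c0e0d090b0a0608070305040002014e504f4b4d4c484a494547464244433f41403c3e3d393b3a3638373335343032312d2f2e2a2c2b2729282426252123221e201f1b1d1c1a191817161514131211100f0e0d0c0b0a09080706050403020100504f4e4d4c4b4a494847464544434241403f3e3d3c3b3a393837363534333231302f2e2d2c2b2a292827262524232221201f1e1d1c1b434244403f414645473a393b3736383d3c3e4c4b4d49484a4f4e502827292524262b2a2c1f1e201c1b1d2221233130322e2d2f3433350d0c0e0a090b100f1104030501000207060816151713121419181a4244433f4140454746393b3a3638373c3e3d4b4d4c484a494e504f2729282426252a2c2b1e201f1b1d1c2123223032312d2f2e3335340c0e0d090b0a0f11100305040002010608071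51716121413181a1944434241403f4746453b3a393837363e3d3c4d4c4b4a4948504f4e2928272625242c2b2a201f1e1d1c1b2322213231302f2e2d3534330e0d0c0b0a0911100f0504030201000807061716151413121a1918403f414645474342443736383d3c3e3a393b49484a4f4e504c4b4d2524262b2a2c2827291c1b1d2221231f1e202e2d2f3433353130320a090b100f110d0c0e01000207060804030513121419181a1615173f41404547464244433638373c3e3d393b3a484a494e504f4b4d4c2426252a2c2b2729281b1d1c2123221e201f2d2f2e333534303231090b0a0f11100c0e0d000201060807030504121413181a1915171641403f4746454443423837363e3d3c3b3a394a4948504f4e4d4c4b2625242c2b2a2928271d1c1b232221201f1e2f2e2d3534333231300b0a0911100f0e0d0c0201000807060504031413121a1918171615464547434244403f413d3c3e3a393b3736384f4e504c4b4d49484a2b2a2c2827292524262221231f1e201c1b1d3433353130322e2d2f100f110d0c0e0a090b07060804030501000219181a1615171312144547464244433f41403c3e3d393b3a3638374e504f4b4d4c484a492a2c2b2729282426252123221e201f1b1d1c3335343032312d2f2e0f11100c0e0d090b0a060807030504000201181a1915171612141347464544434241403f3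e3d3c3b3a39383736504f4e4d4c4b4a49482c2b2a292827262524232221201f1e1d1c1b3534333231302f2e2d11100f0e0d0c0b0a090807060504030201001a19181716151413123a393b3736383d3c3e4c4b4d49484a4f4e50434244403f414645471f1e201c1b1d2221233130322e2d2f3433352827292524262b2a2c04030501000207060816151713121419181a0d0c0e0a090b100f11393b3a3638373c3e3d4b4d4c484a494e504f4244433f41404547461e201f1b1d1c2123223032312d2f2e3335342729282426252a2c2b030504000201060807151716121413181a190c0e0d090b0a0f11103b3a393837363e3d3c4d4c4b4a4948504f4e44434241403f474645201f1e1d1c1b2322213231302f2e2d3534332928272625242c2b2a0504030201000807061716151413121a19180e0d0c0b0a0911100f3736383d3c3e3a393b49484a4f4e504c4b4d403f414645474342441c1b1d2221231f1e202e2d2f3433353130322524262b2a2c28272901000207060804030513121419181a1615170a090b100f110d0c0e3638373c3e3d393b3a484a494e504f4b4d4c3f41404547464244431b1d1c2123221e201f2d2f2e3335343032312426252a2c2b272928000201060807030504121413181a19151716090b0a0f11100c0e0d3837363e3d3c3b3a394a4948504f4e4d4c4b41403f4746454443421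d1c1b232221201f1e2f2e2d3534333231302625242c2b2a2928270201000807060504031413121a19181716150b0a0911100f0e0d0c3d3c3e3a393b3736384f4e504c4b4d49484a464547434244403f412221231f1e201c1b1d3433353130322e2d2f2b2a2c28272925242607060804030501000219181a161517131214100f110d0c0e0a090b3c3e3d393b3a3638374e504f4b4d4c484a494547464244433f41402123221e201f1b1d1c3335343032312d2f2e2a2c2b272928242625060807030504000201181a191517161214130f11100c0e0d090b0a3e3d3c3b3a39383736504f4e4d4c4b4a494847464544434241403f232221201f1e1d1c1b3534333231302f2e2d2c2b2a2928272625240807060504030201001a191817161514131211100f0e0d0c0b0a094c4b4d49484a4f4e50434244403f414645473a393b3736383d3c3e3130322e2d2f3433352827292524262b2a2c1f1e201c1b1d22212316151713121419181a0d0c0e0a090b100f110403050100020706084b4d4c484a494e504f4244433f4140454746393b3a3638373c3e3d3032312d2f2e3335342729282426252a2c2b1e201f1b1d1c212322151716121413181a190c0e0d090b0a0f11100305040002010608074d4c4b4a4948504f4e44434241403f4746453b3a393837363e3d3c3231302f2e2d3534332928272625242c2b2a2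01f1e1d1c1b2322211716151413121a19180e0d0c0b0a0911100f05040302010008070649484a4f4e504c4b4d403f414645474342443736383d3c3e3a393b2e2d2f3433353130322524262b2a2c2827291c1b1d2221231f1e2013121419181a1615170a090b100f110d0c0e010002070608040305484a494e504f4b4d4c3f41404547464244433638373c3e3d393b3a2d2f2e3335343032312426252a2c2b2729281b1d1c2123221e201f121413181a19151716090b0a0f11100c0e0d0002010608070305044a4948504f4e4d4c4b41403f4746454443423837363e3d3c3b3a392f2e2d3534333231302625242c2b2a2928271d1c1b232221201f1e1413121a19181716150b0a0911100f0e0d0c0201000807060504034f4e504c4b4d49484a464547434244403f413d3c3e3a393b3736383433353130322e2d2f2b2a2c2827292524262221231f1e201c1b1d19181a161517131214100f110d0c0e0a090b0706080403050100024e504f4b4d4c484a494547464244433f41403c3e3d393b3a3638373335343032312d2f2e2a2c2b2729282426252123221e201f1b1d1c181a191517161214130f11100c0e0d090b0a060807030504000201504f4e4d4c4b4a494847464544434241403f3e3d3c3b3a393837363534333231302f2e2d2c2b2a292827262524232221201f1e1d1c1b1a191817161514131211100f0e0d0c0b0a09080706050403020100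
def T2 : ℕ := 0x105201654610140110430124511035011037014335108301108601187210670110710137831028011065018667104601102401521410510110180171281072011000010000100001
def I2 : ℕ := 0x40305010002070608030504000201060807050403020100080706010002070608040305000201060807030504020100080706050403070608040305010002060807030504000201080706050403020100
def K : ℕ := 0xf11101f1e204a49480706083231303f41401a19182729283736384746450305042e2d2f3c3e3d1615172625244f4e500e0d0c1b1d1c2b2a2c3b3a391214132322214b4d4c0a090b3335344342440201002c2b2a03050449484a21232216151741403f3433350e0d0c3638370f11103a393b2f2e2d0706084d4c4b2426251a19184244431c1b1d464547201f1e1214133e3d3c3032310a090b4e504f2827290201004746453a393b484a493c3e3d4d4c4b403f414f4e504244433837362c2b2a1f1e202d2f2e2123223231302524263433352729281d1c1b11100f0403051214130608071716150a090b19181a0c0e0d020100070608292827484a49181a191f1e2041403f11100f3032313736383c3e3d0d0c0e2f2e2d504f4e0305042524264645471716151b1d1c2322214244431312143433353b3a39090b0a2a2c2b4c4b4d020100212322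0d0c0e4a4948353433030504403f412b2a2c1716153638370706084443422d2f2e181a193a393b26252411100f4b4d4c1c1b1d3e3d3c2729281312144f4e50201f1e090b0a4547463130320201003c3e3d44434249484a504f4e3a393b3f41404645474b4d4c3837362123222928272e2d2f3534331f1e202426252b2a2c3032311d1c1b0608070e0d0c1312141a1918040305090b0a100f11151716020100181a1932313049484a0f1110292827403f41060807201f1e373638504f4e1615172d2f2e4746450d0c0e2426253e3d3c0403051b1d1c3433354b4d4c1413122b2a2c4244430b0a09222123393b3a020100353433161517484a492c2b2a0d0c0e3f4140232221040305363837181a194d4c4b2e2d2f0f11104443422524260608073b3a391c1b1d4f4e503032311413124645472729280b0a093d3c3e1e201f020100504f4e4d4c4b4a494847464544434241403f3e3d3c3b3a393837363534333231302f2e2d2c2b2a292827262524232221201f1e1d1c1b1a191817161514131211100f0e0d0c0b0a09080706050403020100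
def Q : ℕ := 0x111111111111111111111111111111111111111111111111111111111111111111111111111111111111111111111111111111111111111111111111111111111111111111111111111111111111111111111111111111111111111111111111111111111111111111111111111111111111111111111111111111111111111111111111111111111111111111111111111111111111111111111111111111111111111111111111111111111111111111111111111111111111111111111111111111111111111111111111111111111111111111111111111111111111111111111111111111111111111111111111111111111111111111111111111111111111111111111111111111111111111111111111111111111111111111111111111111111111111111111111111111111111111111111111111111111111111111111111111111111111111111111111111111111111111111111111111111111111111111111111111111111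
def L : ℕ := 0x71
def R : ℕ := 0x1
def X : ℕ := 0x4753447223115772475344722311577247534472231157724753447223115772475344722311577247534472231157724753447223115772776762627120803635877767834784834753447223115772063560285825261620523806162366127767626271208036220424572503185553574464645548534753447223115772
def V : ℕ := 0x1000000050001000100000005000100010000000500010001000000050001000100000005000100010000000500010001000000050001000000050007000100080005000000010001000000050001000100000005000100060002000600010000000500070001000300070006000100000001000800010001000000050001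
def P : ℕ := 0x7728476484146212772847648414621277284764841462127728476484146212772847648414621277284764841462127728476484146212170304227846123264558467537544464753447223115772038230536221858320523806162366127767626271208036222127850808746887376775838847867728476484146212
def J : ℕ := 0x6666666361611666
def W : ℕ := 0x3000000000000000003000000000000000000530115005222220001220110211000000002000000003000000000000000006000000001000000001110542010438302225110344010000000003000000001000000001000000000000000004000000000000061305121037220000131220000000001000000006000000001000000003000000002000000000432310105054118120432140200000000000000000003000000000000000003000000000000000000210220021110250105125322001000000004000000000000000000000000001000000003000000001617001020301010225301200230000000006000000000000000000000000007000000004000000002600101110102012501115001100000000004000000007000000002000000000000000006000000000001060051102115110011012010000000000000000001000000004000000001000000000000000004021410206140201026010100000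

theorem a1_0 : alla (fun i => k1 T1 (fun _ => 0) L R i) 0 81 = true := by decide +kernel

theorem a1 : ∀ i, i < 81 → (fun i => k1 T1 (fun _ => 0) L R i) i = true := by
  intro i hi
  exact alla_spec a1_0 (by omega) (by omega)

theorem a2_0 : alla (fun i => k2 T1 (fun _ => 0) i) 0 81 = true := by
  iterate 5 refine alla_cut 16 (by decide) (by decide +kernel) ?_
  decide +kernel

theorem a2 : ∀ i, i < 81 → (fun i => k2 T1 (fun _ => 0) i) i = true := by
  intro i hi
  exact alla_spec a2_0 (by omega) (by omega)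

theorem a3_0 : alla (fun i => k3 T1 (fun _ => 0) 81 I1 i) 0 27 = true := by
  iterate 6 refine alla_cut 4 (by decide) (by decide +kernel) ?_
  decide +kernel
theorem a3_1 : alla (fun i => k3 T1 (fun _ => 0) 81 I1 i) 27 27 = true := by
  iterate 6 refine alla_cut 4 (by decide) (by decide +kernel) ?_
  decide +kernel
theorem a3_2 : alla (fun i => k3 T1 (fun _ => 0) 81 I1 i) 54 27 = true := by
  iterate 6 refine alla_cut 4 (by decide) (by decide +kernel) ?_
  decide +kernel

theorem a3 : ∀ i, i < 81 → (fun i => k3 T1 (fun _ => 0) 81 I1 i) i = true := by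
  intro i hi
  by_cases h0 : i < 27
  · exact alla_spec a3_0 (by omega) (by omega)
  by_cases h1 : i < 54
  · exact alla_spec a3_1 (by omega) (by omega)
  exact alla_spec a3_2 (by omega) (by omega)

theorem b1_0 : alla (fun i => k1 T2 (fun _ => 0) L R i) 0 9 = true := by decide +kernel

theorem b1 : ∀ i, i < 9 → (fun i => k1 T2 (fun _ => 0) L R i) i = true := by
  intro i hi
  exact alla_spec b1_0 (by omega) (by omega)

theorem b2_0 : alla (fun i => k2 T2 (fun _ => 0) i) 0 9 = true := by decide +kernel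

theorem b2 : ∀ i, i < 9 → (fun i => k2 T2 (fun _ => 0) i) i = true := by
  intro i hi
  exact alla_spec b2_0 (by omega) (by omega)

theorem b3_0 : alla (fun i => k3 T2 (fun _ => 0) 9 I2 i) 0 9 = true := by
  iterate 2 refine alla_cut 4 (by decide) (by decide +kernel) ?_
  decide +kernel

theorem b3 : ∀ i, i < 9 → (fun i => k3 T2 (fun _ => 0) 9 I2 i) i = true := by
  intro i hi
  exact alla_spec b3_0 (by omega) (by omega)

theorem c4_0 : alla (fun i => k4 T1 T2 (fun _ => 0) 81 K Q i) 0 9 = true := by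
  iterate 4 refine alla_cut 2 (by decide) (by decide +kernel) ?_
  decide +kernel

theorem c4 : ∀ i, i < 9 → (fun i => k4 T1 T2 (fun _ => 0) 81 K Q i) i = true := by
  intro i hi
  exact alla_spec c4_0 (by omega) (by omega)

theorem c5_0 : alla (fun i => k5 T1 T2 (fun _ => 0) 9 i) 0 81 = true := by
  iterate 20 refine alla_cut 4 (by decide) (by decide +kernel) ?_
  decide +kernel

theorem c5 : ∀ i, i < 81 → (fun i => k5 T1 T2 (fun _ => 0) 9 i) i = true := by
  intro i hi
  exact alla_spec c5_0 (by omega) (by omega)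

theorem d1_0 : alla (fun w => kD X V P J w) 0 16 = true := by decide +kernel

theorem d1 : ∀ i, i < 16 → (fun w => kD X V P J w) i = true := by
  intro i hi
  exact alla_spec d1_0 (by omega) (by omega)

theorem d7_0 : alla (fun i => alla (fun j => k7 (mm (tM T1 i) (tM T2 j)) X V P (en W (Nat.add (Nat.mul 9 i) j))) 0 9) 0 27 = true := by
  iterate 8 refine alla_cut 3 (by decide) (by decide +kernel) ?_
  decide +kernel
theorem d7_1 : alla (fun i => alla (fun j => k7 (mm (tM T1 i) (tM T2 j)) X V P (en W (Nat.add (Nat.mul 9 i) j))) 0 9) 27 27 = true := by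
  iterate 8 refine alla_cut 3 (by decide) (by decide +kernel) ?_
  decide +kernel
theorem d7_2 : alla (fun i => alla (fun j => k7 (mm (tM T1 i) (tM T2 j)) X V P (en W (Nat.add (Nat.mul 9 i) j))) 0 9) 54 27 = true := by
  iterate 8 refine alla_cut 3 (by decide) (by decide +kernel) ?_
  decide +kernel

theorem d7 : ∀ i, i < 81 → (fun i => alla (fun j => k7 (mm (tM T1 i) (tM T2 j)) X V P (en W (Nat.add (Nat.mul 9 i) j))) 0 9) i = true := by
  intro i hi
  by_cases h0 : i < 27
  · exact alla_spec d7_0 (by omega) (by omega)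
  by_cases h1 : i < 54
  · exact alla_spec d7_1 (by omega) (by omega)
  exact alla_spec d7_2 (by omega) (by omega)

theorem cgA : CG T1 (fun _ => 0) 81 L R := cg_of (by norm_num) a1 a2 a3

theorem cgB : CG T2 (fun _ => 0) 9 L R := cg_of (by norm_num) b1 b2 b3

/-- **elements of order three** -/
theorem good (hR : ResList F9 3) {α : MulAut (PSU 4 F9 3)} (hα : orderOf α = 3) : Good α := by
  have hfin := finite_aut
  obtain ⟨S, hS, hS'⟩ := cgrp cgA cgB (fun j hj i hi => k4_spec (c4 j hj) i hi) (fun i hi j hj => k5_spec (c5 i hi) j hj)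
  obtain ⟨g, hg⟩ := exists_conj_mem Nat.prime_three
    (not_dvd_index card_aut hS (k := 35840) (by norm_num) (by norm_num) (by norm_num)) hα
  apply Good.of_conj g
  obtain ⟨h2, h1⟩ := conj_facts Nat.prime_three hα g
  obtain ⟨i, j, hi, hj, h⟩ := hS' _ hg
  rw [h] at h1 h2 ⊢
  exact k7_spec hR (uni_mm (cgA.uni i hi) (cgB.uni j hj) 0) (d1 _ (en_lt _ _)) (all_spec (d7 i hi) hj) h2 h1

end Cfsg.Agent.H833.Spr4.Syl
end

-- part: H833/Spr4/Cyc
section
/-!
# S3938, `PSU_4(3)`: elements of order five and seven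
-/

set_option autoImplicit false
set_option maxRecDepth 20000

namespace Cfsg.Agent.H833.Spr4.Cyc

open Cfsg Cfsg.Agent.ChevalleyStructure.NineField Cfsg.Agent.H833.Spr4.Code

def g5 : ℕ := 0x1806183051840836
def X5 : ℕ := 0x416788112666803
def V5 : ℕ := 0x5000100010000
def P5 : ℕ := 0x2702386014482236
def J5 : ℕ := 2
def g7 : ℕ := 0x3321418446587278
def X7 : ℕ := 0x8685067631406312
def V7 : ℕ := 0x5000000070001
def P7 : ℕ := 0x8718631140615210
def J7 : ℕ := 4

theorem u5 : isU g5 = true := by decide +kernel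
theorem s5 : nS g5 = true := by decide +kernel
theorem r5 : isS (pwc g5 5) = true := by decide +kernel
theorem D5 : kD X5 V5 P5 J5 0 = true := by decide +kernel
theorem q5 : cert g5 0 (tM X5 0) (tM V5 0) (tM P5 0) = true := by decide +kernel
theorem u7 : isU g7 = true := by decide +kernel
theorem s7 : nS g7 = true := by decide +kernel
theorem r7 : isS (pwc g7 7) = true := by decide +kernel
theorem D7 : kD X7 V7 P7 J7 0 = true := by decide +kernel
theorem q7 : cert g7 0 (tM X7 0) (tM V7 0) (tM P7 0) = true := by decide +kernel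

open Cfsg Cfsg.Agent.ChevalleyStructure.NineField

theorem uni_pwc {g : ℕ} (hg : Uni g) (k : ℕ) : Uni (pwc g k) ∧ au (pwc g k) 0 = au g 0 ^ k := by
  induction k with
  | zero => exact ⟨uni_one, by rw [pow_zero]; exact au_one⟩
  | succ k ih =>
    refine ⟨uni_mm ih.1 hg 0, ?_⟩
    rw [pow_succ, ← ih.2, au_mul ih.1 hg (by norm_num) (by norm_num)]
    rfl

theorem good_of {r m g X V P J : ℕ} (hr : r.Prime) (hm : 26127360 = r * m) (hrm : ¬ r ∣ m)
    (hu : isU g = true) (hs : nS g = true)
    (h1 : isS (pwc g r) = true) (hD : kD X V P J 0 = true) (hq : cert g 0 (tM X 0) (tM V 0) (tM P 0) = true)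
    (hR : ResList F9 3) {α : MulAut (PSU 4 F9 3)} (hα : orderOf α = r) : Good α := by
  have hfin := finite_aut
  have hfr := Fact.mk hr
  have hU := isU_spec hu
  obtain ⟨hS, hP⟩ := kD_spec hD
  have hg : Good (au g 0) := by
    rw [au_def hU]
    exact good_of_cert hR (gm_gu hU) hS hP hq
  have hne := not_one_of_nS hU (e := 0) (by norm_num) hs
  have hpr : au g 0 ^ r = 1 := by
    rw [← (uni_pwc hU r).2]
    exact au_scalar (uni_pwc hU r).1 h1
  have ho : orderOf (au g 0) = r := orderOf_eq_prime hpr hne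
  have hc : Nat.card (Subgroup.zpowers (au g 0)) = r := by rw [Nat.card_zpowers, ho]
  obtain ⟨b, hb⟩ := exists_conj_mem hr (not_dvd_index card_aut hc (k := m) hm hr.pos hrm) hα
  apply Good.of_conj b
  obtain ⟨h3, h4⟩ := conj_facts hr hα b
  generalize b⁻¹ * α * b = β at hb h3 h4
  have hoβ : orderOf β = r := orderOf_eq_prime h3 h4
  have hcβ : Nat.card (Subgroup.zpowers β) = r := by rw [Nat.card_zpowers, hoβ]
  have hle : Subgroup.zpowers β ≤ Subgroup.zpowers (au g 0) := Subgroup.zpowers_le.2 hb
  have heq := Subgroup.eq_of_le_of_card_ge hle (by rw [hc, hcβ])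
  have hmem : au g 0 ∈ Subgroup.zpowers β := by rw [heq]; exact Subgroup.mem_zpowers _
  obtain ⟨k, hk⟩ := (mem_powers_iff_mem_zpowers).2 hmem
  apply Good.of_pow k
  have hk' : β ^ k = au g 0 := hk
  rw [hk']
  exact hg

theorem good5 (hR : ResList F9 3) {α : MulAut (PSU 4 F9 3)} (hα : orderOf α = 5) : Good α :=
  good_of (m := 5225472) (by norm_num) (by norm_num) (by norm_num) u5 s5 r5 D5 q5 hR hα

theorem good7 (hR : ResList F9 3) {α : MulAut (PSU 4 F9 3)} (hα : orderOf α = 7) : Good α :=
  good_of (m := 3732480) (by norm_num) (by norm_num) (by norm_num) u7 s7 r7 D7 q7 hR hα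

end Cfsg.Agent.H833.Spr4.Cyc
end

-- part: H833/Spr4/Three
section
/-!
# S3938: `Spr (PSU_4(3))`
-/

set_option autoImplicit false

namespace Cfsg.Agent.H833.Spr4

open Cfsg Cfsg.Agent.ChevalleyStructure.NineField Cfsg.Agent.H833.Spr4.Code
open Cfsg.Agent.H424.Spr (Spr)

theorem spr_nine (hR : ResList F9 3) : Spr (PSU 4 F9 3) := by
  intro α hα
  have hfin := finite_aut
  have h1 : orderOf α ≠ 1 := fun h => hα (orderOf_eq_one_iff.1 h)
  obtain ⟨r, hr, hrd⟩ := Nat.exists_prime_and_dvd h1
  have ho : orderOf (α ^ (orderOf α / r)) = r := orderOf_pow_orderOf_div (orderOf_pos α).ne' hrd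
  have hr2 : r ∣ 26127360 := hrd.trans (by rw [← card_aut]; exact orderOf_dvd_natCard α)
  have hr3 : r = 2 ∨ r = 3 ∨ r = 5 ∨ r = 7 := by
    have h2 : r ∣ 2 ^ 10 * 3 ^ 6 * (5 * 7) := by norm_num; exact hr2
    rcases hr.dvd_mul.1 h2 with h3 | h3
    · rcases hr.dvd_mul.1 h3 with h4 | h4
      · exact Or.inl ((Nat.prime_dvd_prime_iff_eq hr Nat.prime_two).1 (hr.dvd_of_dvd_pow h4))
      · exact Or.inr (Or.inl ((Nat.prime_dvd_prime_iff_eq hr Nat.prime_three).1 (hr.dvd_of_dvd_pow h4)))
    · rcases hr.dvd_mul.1 h3 with h4 | h4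
      · exact Or.inr (Or.inr (Or.inl ((Nat.prime_dvd_prime_iff_eq hr (by norm_num)).1 h4)))
      · exact Or.inr (Or.inr (Or.inr ((Nat.prime_dvd_prime_iff_eq hr (by norm_num)).1 h4)))
  have hg : Good (α ^ (orderOf α / r)) := by
    rcases hr3 with h | h | h | h
    · exact Mon.good hR (ho.trans h)
    · exact Syl.good hR (ho.trans h)
    · exact Cyc.good5 hR (ho.trans h)
    · exact Cyc.good7 hR (ho.trans h)
  exact hg.of_pow _

/-- **`Spr (PSU_4(3))`** -/
theorem spr_three {F : Type} [Field F] [Fintype F] (hF : Fintype.card F = 3 ^ 2) (hR : ResList F9 3) :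
    Spr (PSU 4 F 3) :=
  H424.Spr.Spr.congr (LieClassical.FieldTransfer.psuCongr 4 3 (FiniteField.ringEquivOfCardEq (hF9.trans hF.symm)))
    (spr_nine hR)

end Cfsg.Agent.H833.Spr4
end

-- part: H833/Spr4/All
section
/-!
# S3938: `Spr (PSU_4(q))`, from the content of S5785
-/

set_option autoImplicit false

namespace Cfsg.Agent.H833.Spr4

open Cfsg Cfsg.Geo Cfsg.Agent.H424.Spr

/-- **`Spr (PSU_4(q))` from the list of the residual maximal subgroups** -/
theorem spr_of_list (hR : ∀ (F : Type) [Field F] [Fintype F] (q : ℕ), Fintype.card F = q ^ 2 → ResList F q)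
    {F : Type} [Field F] [Fintype F] {q : ℕ} (hF : Fintype.card F = q ^ 2) : Spr (PSU 4 F q) := by
  have hq2 : 2 ≤ q := LieClassical.GUOrder.two_le hF
  rcases Nat.lt_or_ge q 4 with h | h
  · interval_cases q
    · exact Two.spr_two hF (hR _ 2 Two.hF)
    · exact spr_three hF (hR _ 3 Code.hF9)
  · exact spr_ge_four hF h (hR F q hF)

end Cfsg.Agent.H833.Spr4
end

-- part: H833/Spr4/PSU4
section
/-!
# S3938: `Spr (PSU_4(q))`
-/

set_option autoImplicit false

namespace Cfsg.Agent.H833.Spr4

open Cfsg Cfsg.Agent.H424.Spr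

/-- **`Spr (PSU_4(q))`, all `q ≥ 2`** -/
theorem spr_psu4 {F : Type} [Field F] [Fintype F] {q : ℕ} (hF : Fintype.card F = q ^ 2) : Spr (PSU 4 F q) :=
  spr_of_list (fun _ _ _ q hF H hH hS => Cfsg.Agent.S5785.result q hF H hH hS) hF

end Cfsg.Agent.H833.Spr4
end
end

-- part: H59/Spr/LThreeFour
section
set_option linter.all false
open scoped Cfsg.Agent.FastGrp

-- part: H59/Spr/Frame
section
/-!
# 3/2-generation of `PSL_n(q)`, `n ≥ 3`: the frame (helper59)

`x` = the element of type `(n - 1, 1)`: it fixes exactly one point and exactly one hyperplane. `Over n K`: a subgroup of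
`SL_n(q)` containing `x` is everything or fixes a point or a hyperplane. `spr_psl_of` : then `PSL_n(q)` satisfies `Spr`.
`spr_psl_five` : the case `n ≥ 5` (helper184's `over_k`).
-/

set_option autoImplicit false
set_option linter.unusedSectionVars false

namespace Cfsg.Agent.H59.SprPsl

open Module Cfsg.Agent.H184.Cov Cfsg.Agent.H424.Spr

variable {K : Type} [Field K] [Fintype K]

/-- subgroups of `SL_n(q)` containing an element of type `(n - 1, 1)` -/
def Over (n : ℕ) (K : Type) [Field K] : Prop :=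
  ∀ (L : Type) [Field L] [Algebra K L] [Finite L] (H : Subgroup ((Fin n → K) ≃ₗ[K] (Fin n → K)))
    (x : (Fin n → K) ≃ₗ[K] (Fin n → K)) (ω : Lˣ), x ∈ H → IsGen ω → TwoT L K x ω (nm ω)⁻¹ →
    (∀ h ∈ H, LinearMap.det (h : (Fin n → K) →ₗ[K] (Fin n → K)) = 1) →
    (∀ g : (Fin n → K) ≃ₗ[K] (Fin n → K), LinearMap.det (g : (Fin n → K) →ₗ[K] (Fin n → K)) = 1 → g ∈ H) ∨ Red H

section stab

variable {V : Type} [AddCommGroup V] [Module K V]

/-- the stabilizer of the point `⟨v⟩` -/
def pStab (v : V) : Subgroup (V ≃ₗ[K] V) where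
  carrier := {g | (∃ c : K, g v = c • v) ∧ ∃ c : K, g.symm v = c • v}
  one_mem' := ⟨⟨1, by simp⟩, ⟨1, by simp only [one_smul]; rfl⟩⟩
  mul_mem' := by
    rintro g h ⟨⟨a, ha⟩, b, hb⟩ ⟨⟨c, hc⟩, d, hd⟩
    refine ⟨⟨c * a, ?_⟩, ⟨b * d, ?_⟩⟩
    · change g (h v) = _
      rw [hc, map_smul, ha, mul_smul]
    · change h.symm (g.symm v) = _
      rw [hb, map_smul, hd, mul_smul]
  inv_mem' := by
    rintro g ⟨h1, h2⟩
    exact ⟨h2, h1⟩

/-- the stabilizer of the hyperplane `ker φ` -/
def hStab (φ : V →ₗ[K] K) : Subgroup (V ≃ₗ[K] V) where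
  carrier := {g | (∃ c : K, ∀ v, φ (g v) = c * φ v) ∧ ∃ c : K, ∀ v, φ (g.symm v) = c * φ v}
  one_mem' := ⟨⟨1, by simp⟩, ⟨1, by intro v; rw [one_mul]; rfl⟩⟩
  mul_mem' := by
    rintro g h ⟨⟨a, ha⟩, b, hb⟩ ⟨⟨c, hc⟩, d, hd⟩
    refine ⟨⟨a * c, fun v => ?_⟩, ⟨d * b, fun v => ?_⟩⟩
    · change φ (g (h v)) = _
      rw [ha, hc, mul_assoc]
    · change φ (h.symm (g.symm v)) = _
      rw [hd, hb, mul_assoc]
  inv_mem' := by
    rintro g ⟨h1, h2⟩
    exact ⟨h2, h1⟩

theorem mem_pStab {v : V} {g : V ≃ₗ[K] V} (h : ∃ c : K, g v = c • v) : g ∈ pStab v := by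
  refine ⟨h, ?_⟩
  obtain ⟨c, hc⟩ := h
  by_cases h0 : c = 0
  · rw [h0, zero_smul, LinearEquiv.map_eq_zero_iff] at hc
    exact ⟨0, by rw [hc, map_zero, smul_zero]⟩
  · refine ⟨c⁻¹, ?_⟩
    apply g.injective
    rw [LinearEquiv.apply_symm_apply, map_smul, hc, smul_smul, inv_mul_cancel₀ h0, one_smul]

theorem mem_hStab {φ : V →ₗ[K] K} {g : V ≃ₗ[K] V} (h : ∃ c : K, ∀ v, φ (g v) = c * φ v) : g ∈ hStab φ := by
  refine ⟨h, ?_⟩
  obtain ⟨c, hc⟩ := h
  by_cases h0 : c = 0
  · refine ⟨0, fun v => ?_⟩
    have h1 := hc (g.symm (g.symm v))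
    rw [LinearEquiv.apply_symm_apply, h0, zero_mul] at h1
    rw [h1, zero_mul]
  · refine ⟨c⁻¹, fun v => ?_⟩
    have h1 := hc (g.symm v)
    rw [LinearEquiv.apply_symm_apply] at h1
    rw [h1, inv_mul_cancel_left₀ h0]

end stab

section eig

variable {V : Type} [AddCommGroup V] [Module K V] {L : Type} [Field L] [Algebra K L] {x : V ≃ₗ[K] V} {ω : Lˣ} {ν : Kˣ}
  {e : V ≃ₗ[K] L × K}

/-- the only fixed point of `x` -/
theorem eig_vec (he : ∀ v, e (x v) = ((ω : L) * (e v).1, (ν : K) * (e v).2)) (hω : ∀ c : K, (ω : L) ≠ algebraMap K L c)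
    {v : V} {c : K} (h : x v = c • v) : ∃ b : K, v = b • e.symm (0, 1) := by
  have h1 := congrArg e h
  rw [he, map_smul] at h1
  have h2 : (ω : L) * (e v).1 = c • (e v).1 := congrArg Prod.fst h1
  rw [Algebra.smul_def] at h2
  have h4 : (e v).1 = 0 := by
    by_contra h0
    exact hω c (mul_right_cancel₀ h0 h2)
  refine ⟨(e v).2, e.injective ?_⟩
  rw [map_smul, e.apply_symm_apply]
  refine Prod.ext ?_ ?_
  · rw [h4]
    change (0 : L) = (e v).2 • (0 : L)
    rw [smul_zero]
  · change (e v).2 = (e v).2 • (1 : K)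
    rw [smul_eq_mul, mul_one]

/-- the only hyperplane fixed by `x` -/
theorem eig_fun (he : ∀ v, e (x v) = ((ω : L) * (e v).1, (ν : K) * (e v).2)) (hω : ∀ c : K, (ω : L) ≠ algebraMap K L c)
    {φ : V →ₗ[K] K} {c : K} (h : ∀ v, φ (x v) = c * φ v) : ∀ v, φ v = φ (e.symm (0, 1)) * (e v).2 := by
  have hd : (ω : L) - algebraMap K L c ≠ 0 := sub_ne_zero.2 (hω c)
  have h1 : ∀ a : L, φ (e.symm (a, 0)) = 0 := by
    intro a
    have h2 := h (e.symm (((ω : L) - algebraMap K L c)⁻¹ * a, 0))
    have h3 : x (e.symm (((ω : L) - algebraMap K L c)⁻¹ * a, 0)) =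
        e.symm ((ω : L) * (((ω : L) - algebraMap K L c)⁻¹ * a), 0) := by
      apply e.injective
      rw [he, e.apply_symm_apply, e.apply_symm_apply, mul_zero]
    have h4 : e.symm (a, 0) = e.symm ((ω : L) * (((ω : L) - algebraMap K L c)⁻¹ * a), 0) -
        c • e.symm (((ω : L) - algebraMap K L c)⁻¹ * a, 0) := by
      rw [← map_smul, ← map_sub]
      congr 1
      refine Prod.ext ?_ ?_
      · change a = (ω : L) * (((ω : L) - algebraMap K L c)⁻¹ * a) - c • (((ω : L) - algebraMap K L c)⁻¹ * a)
        rw [Algebra.smul_def, ← sub_mul, mul_inv_cancel_left₀ hd]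
      · change (0 : K) = (0 : K) - c • (0 : K)
        rw [smul_zero, sub_zero]
    rw [h4, map_sub, ← h3, h2, map_smul, smul_eq_mul, sub_self]
  intro v
  have h2 : v = e.symm ((e v).1, 0) + (e v).2 • e.symm (0, 1) := by
    apply e.injective
    rw [map_add, map_smul, e.apply_symm_apply, e.apply_symm_apply]
    refine Prod.ext ?_ ?_
    · change (e v).1 = (e v).1 + (e v).2 • (0 : L)
      rw [smul_zero, add_zero]
    · change (e v).2 = 0 + (e v).2 • (1 : K)
      rw [zero_add, smul_eq_mul, mul_one]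
  conv_lhs => rw [h2, map_add, h1, zero_add, map_smul, smul_eq_mul, mul_comm]

end eig

/-- **The frame.** -/
theorem spr_psl_of {n : ℕ} (hn : 3 ≤ n) [IsSimpleGroup (Matrix.ProjectiveSpecialLinearGroup (Fin n) K)]
    (hna : ∃ x y : Matrix.ProjectiveSpecialLinearGroup (Fin n) K, x * y ≠ y * x) (hov : Over n K) :
    Spr (Matrix.ProjectiveSpecialLinearGroup (Fin n) K) := by
  have hdim : finrank K (Fin n → K) = n := by simp only [_root_.Module.finrank_fintype_fun_eq_card, _root_.Fintype.card_fin]
  have hq : 2 ≤ Nat.card K := one_lt_q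
  let ρ : Matrix.SpecialLinearGroup (Fin n) K →* ((Fin n → K) ≃ₗ[K] (Fin n → K)) := Matrix.SpecialLinearGroup.toLin'
  have hρ : Function.Injective ρ := Matrix.SpecialLinearGroup.toLin'_injective
  have hdet : ∀ y : Matrix.SpecialLinearGroup (Fin n) K,
      LinearMap.det ((ρ y : (Fin n → K) ≃ₗ[K] (Fin n → K)) : (Fin n → K) →ₗ[K] (Fin n → K)) = 1 := by
    intro y
    have h1 : ((ρ y : (Fin n → K) ≃ₗ[K] (Fin n → K)) : (Fin n → K) →ₗ[K] (Fin n → K)) =
        Matrix.toLin' (y : Matrix (Fin n) (Fin n) K) := Matrix.SpecialLinearGroup.toLin'_to_linearMap y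
    rw [h1, LinearMap.det_toLin', Matrix.SpecialLinearGroup.det_coe]
  -- `x`
  obtain ⟨L1, i1, i1', i1'', hL1⟩ := exists_ext K (k := n - 1) (by omega)
  obtain ⟨ω, hω⟩ := exists_gen (L := L1)
  obtain ⟨x, hx, htx⟩ := exists_two (V := Fin n → K) L1 K (by rw [hL1, hdim, finrank_self]; omega) ω (nm ω)⁻¹ (by
    have h1 : nm (K := K) (L := K) ((nm ω : Kˣ)⁻¹) = ((nm ω : Kˣ)⁻¹) := by
      apply Units.ext
      change Algebra.norm K (((nm ω : Kˣ)⁻¹ : Kˣ) : K) = _
      rw [Algebra.norm_self]
      rfl
    rw [h1, mul_inv_cancel])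
  -- `s`
  obtain ⟨S, iS, iS', iS'', hS⟩ := exists_ext K (k := n) (by omega)
  obtain ⟨γ, hγ⟩ := exists_gen (L := S)
  obtain ⟨s, hs, hts⟩ := exists_one (V := Fin n → K) S (by rw [hS, hdim]) (γ ^ (Nat.card K - 1)) (by
    rw [map_pow, ← card_units_base]
    exact pow_card_eq_one')
  have hgenK : ∀ c : K, (ω : L1) ≠ algebraMap K L1 c := by
    intro c hc
    have h4 := hω.base_pow (i := 1) (c := c) (by rwa [pow_one])
    rw [one_mul] at h4
    have h5 := Nat.le_of_dvd (by omega) h4
    have h6 : Nat.card K ^ 1 < Nat.card K ^ finrank K L1 := Nat.pow_lt_pow_right (by omega) (by omega)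
    rw [pow_one] at h6
    omega
  have hsE : NoEig s := by
    refine hts.noEig fun c hc => ?_
    have h4 := hγ.base_pow hc
    have h5 := Nat.le_of_dvd (Nat.mul_pos (by omega) (by omega)) h4
    rw [hS] at h5
    have h6 : Nat.card K ^ 2 ≤ Nat.card K ^ n := Nat.pow_le_pow_right (by omega) (by omega)
    obtain ⟨m, hm⟩ : ∃ m, Nat.card K = m + 1 := ⟨Nat.card K - 1, by omega⟩
    rw [hm, Nat.add_sub_cancel] at h5
    rw [hm] at h6
    have h7 : (m + 1) ^ 2 = m * m + 2 * m + 1 := by ring
    omega
  obtain ⟨x₀, hx₀⟩ := exists_sl hx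
  obtain ⟨s₀, hs₀⟩ := exists_sl hs
  obtain ⟨e, he⟩ := id htx
  -- the point and the hyperplane
  let v₀ : Fin n → K := e.symm (0, 1)
  let φ₀ : (Fin n → K) →ₗ[K] K := LinearMap.snd K L1 K ∘ₗ (e : (Fin n → K) →ₗ[K] L1 × K)
  have hφv : φ₀ v₀ = 1 := by
    change (e (e.symm (0, 1))).2 = 1
    rw [e.apply_symm_apply]
  have hv0 : v₀ ≠ 0 := by
    intro h0
    rw [h0, map_zero] at hφv
    exact zero_ne_one hφv
  have hφ0 : φ₀ ≠ 0 := by
    intro h0
    rw [h0] at hφv
    exact zero_ne_one hφv
  have hxv : x v₀ = ((nm ω : Kˣ)⁻¹ : Kˣ).1 • v₀ := by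
    apply e.injective
    rw [he, map_smul]
    change ((ω : L1) * (e (e.symm (0, 1))).1, _ * (e (e.symm (0, 1))).2) = _ • e (e.symm (0, 1))
    rw [e.apply_symm_apply]
    refine Prod.ext ?_ ?_
    · change (ω : L1) * 0 = _ • (0 : L1)
      rw [mul_zero, smul_zero]
    · rfl
  have hxφ : ∀ v, φ₀ (x v) = ((nm ω : Kˣ)⁻¹ : Kˣ).1 * φ₀ v := by
    intro v
    change (e (x v)).2 = _ * (e v).2
    rw [he]
  have hne : ∀ M : Subgroup ((Fin n → K) ≃ₗ[K] (Fin n → K)), Red M → M.comap ρ ≠ ⊤ := by
    intro M hM htop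
    refine hsE.not_red (H := M) ?_ hM
    rw [← hs₀]
    change s₀ ∈ M.comap ρ
    rw [htop]
    exact Subgroup.mem_top _
  have hR1 : Red (pStab (K := K) v₀) := Or.inl ⟨v₀, hv0, fun h hh => hh.1⟩
  have hR2 : Red (hStab (K := K) φ₀) := Or.inr ⟨φ₀, hφ0, fun h hh => hh.1⟩
  have hxM1 : x ∈ pStab (K := K) v₀ := mem_pStab ⟨_, hxv⟩
  have hxM2 : x ∈ hStab (K := K) φ₀ := mem_hStab ⟨_, hxφ⟩
  -- elements centralising `x`
  have hker : ∀ z ∈ (QuotientGroup.mk' (Subgroup.center (Matrix.SpecialLinearGroup (Fin n) K))).ker,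
      ρ z * x = x * ρ z := by
    intro z hz
    rw [QuotientGroup.ker_mk'] at hz
    rw [← hx₀]
    change ρ z * ρ x₀ = ρ x₀ * ρ z
    rw [← map_mul, ← map_mul, Subgroup.mem_center_iff.1 hz]
  refine spr_of_two_up (s := x₀) (M₁ := (pStab (K := K) v₀).comap ρ) (M₂ := (hStab (K := K) φ₀).comap ρ) hna
    (QuotientGroup.mk' (Subgroup.center (Matrix.SpecialLinearGroup (Fin n) K))) (QuotientGroup.mk'_surjective _) ?_ ?_
    (hne _ hR1) (hne _ hR2) ?_ ?_
  · intro z hz
    refine mem_pStab (K := K) ?_
    have h1 : x (ρ z v₀) = ((nm ω : Kˣ)⁻¹ : Kˣ).1 • ρ z v₀ := by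
      rw [← map_smul, ← hxv]
      exact (DFunLike.congr_fun (hker z hz) v₀).symm
    exact eig_vec he hgenK h1
  · intro z hz
    refine mem_hStab (K := K) ⟨φ₀ (ρ z v₀), fun v => ?_⟩
    have h1 : ∀ v, (φ₀ ∘ₗ (ρ z : (Fin n → K) →ₗ[K] (Fin n → K))) (x v) =
        ((nm ω : Kˣ)⁻¹ : Kˣ).1 * (φ₀ ∘ₗ (ρ z : (Fin n → K) →ₗ[K] (Fin n → K))) v := by
      intro v
      change φ₀ (ρ z (x v)) = _ * φ₀ (ρ z v)
      rw [← hxφ]
      exact congrArg φ₀ (DFunLike.congr_fun (hker z hz) v)
    exact eig_fun he hgenK h1 v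
  · intro y hy
    rw [← hy]
    have h1 : x₀ ∈ ((pStab (K := K) v₀).comap ρ).map (MulAut.conj y).toMonoidHom := by
      rw [hy]
      change ρ x₀ ∈ hStab (K := K) φ₀
      have : ρ x₀ = x := hx₀
      rwa [this]
    obtain ⟨w, hw, hwx⟩ := h1
    -- `x` fixes `y v₀`
    have h2 : ρ y ∈ pStab (K := K) v₀ := by
      refine mem_pStab ?_
      obtain ⟨c, hc⟩ := hw.1
      have h3 : x (ρ y v₀) = c • ρ y v₀ := by
        have h4 : ρ (MulAut.conj y w) = x := by
          rw [← hx₀]
          exact congrArg ρ hwx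
        rw [← h4, MulAut.conj_apply, map_mul, map_mul, map_inv]
        change ρ y (ρ w ((ρ y)⁻¹ (ρ y v₀))) = _
        have h5 : ((ρ y)⁻¹ : (Fin n → K) ≃ₗ[K] (Fin n → K)) (ρ y v₀) = v₀ := (ρ y).symm_apply_apply v₀
        rw [h5, hc, map_smul]
      exact eig_vec he hgenK h3
    have h3 : y ∈ (pStab (K := K) v₀).comap ρ := h2
    ext z
    constructor
    · intro hz
      refine ⟨y⁻¹ * z * y, mul_mem (mul_mem (inv_mem h3) hz) h3, ?_⟩
      change y * (y⁻¹ * z * y) * y⁻¹ = z
      group
    · rintro ⟨w, hw, rfl⟩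
      exact mul_mem (mul_mem h3 hw) (inv_mem h3)
  · intro H _ hxH hHt
    have hmem : x ∈ H.map ρ := ⟨x₀, hxH, hx₀⟩
    rcases hov L1 (H.map ρ) x ω hmem hω htx (by
      rintro _ ⟨y, -, rfl⟩
      exact hdet y) with h | h | h
    · exfalso
      apply hHt
      rw [eq_top_iff]
      intro y _
      obtain ⟨z, hz, hzy⟩ := h (ρ y) (hdet y)
      rwa [← hρ hzy]
    · left
      obtain ⟨v, hv, h⟩ := h
      intro y hy
      obtain ⟨c, hc⟩ := h x hmem
      obtain ⟨b, hb⟩ := eig_vec he hgenK hc
      have hb0 : b ≠ 0 := by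
        rintro rfl
        exact hv (by rw [hb, zero_smul])
      refine mem_pStab (K := K) ?_
      obtain ⟨c', hc'⟩ := h (ρ y) ⟨y, hy, rfl⟩
      refine ⟨c', ?_⟩
      rw [hb, map_smul, smul_comm c' b] at hc'
      exact smul_right_injective _ hb0 hc'
    · right
      obtain ⟨φ, hφ, h⟩ := h
      intro y hy
      obtain ⟨c, hc⟩ := h x hmem
      have hb := eig_fun he hgenK hc
      have hb0 : φ (e.symm (0, 1)) ≠ 0 := by
        intro h0
        apply hφ
        refine LinearMap.ext fun v => ?_
        rw [hb, h0, zero_mul]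
        rfl
      refine mem_hStab (K := K) ?_
      obtain ⟨c', hc'⟩ := h (ρ y) ⟨y, hy, rfl⟩
      refine ⟨c', fun v => ?_⟩
      have h1 := hc' v
      rw [hb, hb v, mul_left_comm] at h1
      exact mul_left_cancel₀ hb0 h1

theorem over_five {n : ℕ} (hn : 5 ≤ n) : Over n K := by
  intro L _ _ _ H x ω hx hω ht _
  exact over_k (by simpa only [_root_.Module.finrank_fintype_fun_eq_card, _root_.Fintype.card_fin] using hn) hx hω ht

/-- **The row `PSL_n(q)`, `n ≥ 5`.** -/
theorem spr_psl_five {n : ℕ} (hn : 5 ≤ n) [IsSimpleGroup (Matrix.ProjectiveSpecialLinearGroup (Fin n) K)]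
    (hna : ∃ x y : Matrix.ProjectiveSpecialLinearGroup (Fin n) K, x * y ≠ y * x) :
    Spr (Matrix.ProjectiveSpecialLinearGroup (Fin n) K) :=
  spr_psl_of (by omega) hna (over_five hn)

end Cfsg.Agent.H59.SprPsl
end

-- part: H59/Spr/Three
section
/-!
# Overgroups of an element of type `(2, 1)` in `SL_3(q)`, `q ≥ 3`, `q ≠ 4` (helper59)

`kside_three` : a subgroup of `GL_3(q)`, `q ≠ 4`, containing the element `x = (ω, N(ω)⁻¹)` is transitive on the points or
fixes a point or a line [the orbit of the line of `x` is a dual maximal arc; its degree divides `q`].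
(helper184's `kside` with another arithmetic at the end.)
`over_three` : it contains `SL_3(q)` or fixes a point or a line.
-/

set_option autoImplicit false
set_option linter.unusedSectionVars false

namespace Cfsg.Agent.H59.SprPsl

open Module Cfsg.Agent.H184.Cov

section count

variable {K : Type} [Field K] [Finite K] {L : Type} [Field L] [Algebra K L] [Finite L]
  {W : Type} [AddCommGroup W] [Module K W]

theorem nm_eq {ω : Lˣ} (hL : finrank K L = 2) : algebraMap K L ((nm ω : Kˣ) : K) = (ω : L) ^ (Nat.card K + 1) := by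
  have h1 : algebraMap K L (Algebra.norm K (ω : L)) = (ω : L) ^ ((Nat.card L - 1) / (Nat.card K - 1)) :=
    FiniteField.algebraMap_norm_eq_pow
  have hq : 1 < Nat.card K := one_lt_q
  have h2 : (Nat.card L - 1) / (Nat.card K - 1) = Nat.card K + 1 := by
    rw [card_field (K := K) (L := L), hL]
    obtain ⟨m, hm⟩ : ∃ m, Nat.card K = m + 1 := ⟨Nat.card K - 1, by omega⟩
    rw [hm, Nat.add_sub_cancel]
    have h3 : (m + 1) ^ 2 - 1 = m * (m + 1 + 1) := by
      have : (m + 1) ^ 2 = m * (m + 1 + 1) + 1 := by ring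
      omega
    rw [h3, Nat.mul_div_cancel_left _ (by omega)]
  rw [h2] at h1
  exact h1

theorem three_dvd [Finite W] {y : W ≃ₗ[K] W} {ω : Lˣ} (hω : IsGen ω) {e : W ≃ₗ[K] L × K} (hL : finrank K L = 2)
    (he : ∀ v, e (y v) = ((ω : L) * (e v).1, (((nm ω)⁻¹ : Kˣ) : K) * (e v).2)) (A : Set W)
    (hA : ∀ w ∈ A, (e w).1 ≠ 0 ∧ (e w).2 ≠ 0) (hc : ∀ (c : K), c ≠ 0 → ∀ w ∈ A, c • w ∈ A)
    (hy : ∀ w ∈ A, y w ∈ A) {j : ℕ} (hj : A.ncard = j * (Nat.card K ^ 2 - 1)) : Nat.card K - 1 ∣ 3 * j := by
  obtain ⟨q, hq⟩ : ∃ q, q = Nat.card K := ⟨_, rfl⟩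
  have hq1 : 1 < q := by rw [hq]; exact one_lt_q
  let S : Set Lˣ := {a | e.symm ((a : L), 1) ∈ A}
  -- the bijection
  have hbij : Nat.card A = (q - 1) * Nat.card S := by
    rw [hq, ← card_units_base, ← Nat.card_prod]
    refine Nat.card_congr ?_
    exact
      { toFun := fun w => (Units.mk0 (e w).2 (hA w w.2).2,
          ⟨Units.mk0 ((e w).2⁻¹ • (e w).1) (smul_ne_zero (inv_ne_zero (hA w w.2).2) (hA w w.2).1), by
            change e.symm (((e w).2⁻¹ • (e w).1), 1) ∈ A
            have h1 : e.symm (((e w).2⁻¹ • (e w).1), (1 : K)) = (e w).2⁻¹ • (w : W) := by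
              apply e.injective
              rw [LinearEquiv.apply_symm_apply, map_smul]
              exact Prod.ext rfl (by
                change (1 : K) = (e w).2⁻¹ * (e w).2
                rw [inv_mul_cancel₀ (hA w w.2).2])
            rw [h1]
            exact hc _ (inv_ne_zero (hA w w.2).2) _ w.2⟩)
        invFun := fun p => ⟨(p.1 : K) • e.symm (((p.2 : Lˣ) : L), 1), hc _ p.1.ne_zero _ p.2.2⟩
        left_inv := fun w => by
          apply Subtype.ext
          apply e.injective
          change e ((e w).2 • e.symm (((e w).2⁻¹ • (e w).1), 1)) = e w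
          rw [map_smul, LinearEquiv.apply_symm_apply]
          exact Prod.ext (by
            change (e w).2 • (e w).2⁻¹ • (e w).1 = (e w).1
            rw [smul_inv_smul₀ (hA w w.2).2]) (by
            change (e w).2 * 1 = (e w).2
            rw [mul_one])
        right_inv := fun p => by
          have h1 : e ((p.1 : K) • e.symm (((p.2 : Lˣ) : L), 1)) = ((p.1 : K) • ((p.2 : Lˣ) : L), (p.1 : K)) := by
            rw [map_smul, LinearEquiv.apply_symm_apply]
            exact Prod.ext rfl (mul_one _)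
          refine Prod.ext (Units.ext ?_) (Subtype.ext (Units.ext ?_))
          · exact congrArg Prod.snd h1
          · change (e ((p.1 : K) • e.symm (((p.2 : Lˣ) : L), 1))).2⁻¹ •
              (e ((p.1 : K) • e.symm (((p.2 : Lˣ) : L), 1))).1 = ((p.2 : Lˣ) : L)
            rw [h1]
            exact inv_smul_smul₀ p.1.ne_zero _ }
  -- the divisibility
  have hstep : ∀ a ∈ S, ω ^ (q + 2) * a ∈ S := by
    intro a ha
    have h1 := hc ((nm ω : Kˣ) : K) (nm ω : Kˣ).ne_zero _ (hy _ ha)
    have h2 : ((nm ω : Kˣ) : K) • y (e.symm ((a : L), (1 : K))) = e.symm (((ω ^ (q + 2) * a : Lˣ) : L), (1 : K)) := by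
      apply e.injective
      rw [map_smul, he, LinearEquiv.apply_symm_apply, LinearEquiv.apply_symm_apply]
      refine Prod.ext ?_ ?_
      · change ((nm ω : Kˣ) : K) • ((ω : L) * (a : L)) = ((ω ^ (q + 2) * a : Lˣ) : L)
        rw [Algebra.smul_def, nm_eq hL, ← hq, Units.val_mul, Units.val_pow_eq_pow_val]
        ring
      · change ((nm ω : Kˣ) : K) * ((((nm ω)⁻¹ : Kˣ) : K) * 1) = 1
        rw [mul_one, Units.mul_inv]
    rw [h2] at h1
    exact h1
  have hdvd : orderOf (ω ^ (q + 2)) ∣ Nat.card S := by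
    rw [← Nat.card_zpowers]
    refine card_dvd_closed _ _ fun d hd a ha => ?_
    rw [← mem_powers_iff_mem_zpowers] at hd
    obtain ⟨i, rfl⟩ := hd
    induction i with
    | zero => simpa using ha
    | succ i ih =>
      change (ω ^ (q + 2)) ^ (i + 1) * a ∈ S
      rw [pow_succ', mul_assoc]
      exact hstep _ ih
  -- arithmetic
  have hS : Nat.card S = j * (q + 1) := by
    rw [Nat.card_coe_set_eq, hj, ← hq] at hbij
    have h1 : q ^ 2 - 1 = (q - 1) * (q + 1) := by
      obtain ⟨m, rfl⟩ : ∃ m, q = m + 1 := ⟨q - 1, by omega⟩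
      have : (m + 1) ^ 2 = m * (m + 1 + 1) + 1 := by ring
      rw [this, Nat.add_sub_cancel, Nat.add_sub_cancel]
    rw [h1] at hbij
    have h2 : (q - 1) * (j * (q + 1)) = (q - 1) * Nat.card S := by
      rw [← hbij]
      ring
    exact (Nat.eq_of_mul_eq_mul_left (by omega) h2).symm
  have hord : q ^ 2 - 1 ∣ 3 * orderOf (ω ^ (q + 2)) := by
    have h1 : orderOf ω = q ^ 2 - 1 := by rw [hω.orderOf, card_units (K := K), hL, hq]
    have h2 : (ω ^ (q + 2)) ^ orderOf (ω ^ (q + 2)) = 1 := pow_orderOf_eq_one _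
    rw [← pow_mul] at h2
    have h3 := orderOf_dvd_of_pow_eq_one h2
    rw [h1] at h3
    -- `q ^ 2 - 1 ∣ (q + 2) t`, so `q ^ 2 - 1 ∣ 3 t` as `(q + 2) (q - 2) + 3 = q ^ 2 - 1`
    generalize orderOf (ω ^ (q + 2)) = t at h3 ⊢
    have h4 : (q ^ 2 - 1) * t = (q + 2) * t * (q - 2) + 3 * t := by
      obtain ⟨m, rfl⟩ : ∃ m, q = m + 2 := ⟨q - 2, by omega⟩
      have h5 : (m + 2) ^ 2 - 1 = (m + 2 + 2) * m + 3 := by
        have : (m + 2) ^ 2 = (m + 2 + 2) * m + 3 + 1 := by ring
        omega
      rw [h5, Nat.add_sub_cancel]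
      ring
    have h5 : q ^ 2 - 1 ∣ (q + 2) * t * (q - 2) := Dvd.dvd.mul_right h3 _
    exact (Nat.dvd_add_right h5).1 (h4 ▸ Dvd.intro _ rfl)
  have h1 : q ^ 2 - 1 ∣ 3 * (j * (q + 1)) := by
    refine hord.trans ?_
    rw [← hS]
    exact Nat.mul_dvd_mul_left 3 hdvd
  rw [← hq]
  have h2 : q ^ 2 - 1 = (q - 1) * (q + 1) := by
    obtain ⟨m, rfl⟩ : ∃ m, q = m + 1 := ⟨q - 1, by omega⟩
    have : (m + 1) ^ 2 = m * (m + 1 + 1) + 1 := by ring
    rw [this, Nat.add_sub_cancel, Nat.add_sub_cancel]
  rw [h2, ← mul_assoc] at h1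
  exact Nat.dvd_of_mul_dvd_mul_right (by omega) h1

/-- the arithmetic -/
theorem arith_three {m i j : ℕ} (hm : 1 ≤ m) (h4 : m + 1 ≠ 4)
    (h : (1 + i) * (m + j * (m + 1 - 1)) = m + j * ((m + 1) * (m + 1) - 1)) (hd : m ∣ 3 * j) : j = 0 ∨ i = m := by
  by_cases hj0 : j = 0
  · exact Or.inl hj0
  right
  have h1 : (m + 1) * (m + 1) - 1 = m * (m + 2) := by
    have : (m + 1) * (m + 1) = m * (m + 2) + 1 := by ring
    omega
  rw [Nat.add_sub_cancel, h1] at h
  have h2 : i * (1 + j) = j * (m + 1) := by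
    have h3 : m * (1 + i + j + i * j) = m * (1 + j * (m + 2)) := by
      linarith only [h]
    have h4 := Nat.eq_of_mul_eq_mul_left (by omega) h3
    linarith only [h4]
  have h3 : 1 + j ∣ m + 1 := by
    have h5 : Nat.Coprime (1 + j) j := by simp
    exact h5.dvd_of_dvd_mul_left (Dvd.intro_left i h2)
  obtain ⟨r, hr⟩ := h3
  have hr0 : r ≠ 0 := by
    rintro rfl
    omega
  by_cases hr1 : r = 1
  · rw [hr1, mul_one] at hr
    have h5 : j = m := by omega
    rw [h5, show 1 + m = m + 1 by ring] at h2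
    exact Nat.eq_of_mul_eq_mul_right (by omega) h2
  exfalso
  have h5 : (1 + j) * 2 ≤ (1 + j) * r := Nat.mul_le_mul_left _ (by omega)
  obtain ⟨s, hs⟩ := hd
  have hs1 : s = 1 := by
    by_contra hs1
    have hs0 : s ≠ 0 := by
      rintro rfl
      omega
    have h6 : m * 2 ≤ m * s := Nat.mul_le_mul_left _ (by omega)
    omega
  rw [hs1, mul_one] at hs
  -- `m = 3 j`, `1 + j ∣ 3 j + 1`
  have h6 : 1 + j ∣ 2 := by
    have h7 : 1 + j ∣ m + 1 := ⟨r, hr⟩
    have h8 : m + 1 + 2 = (1 + j) * 3 := by omega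
    exact (Nat.dvd_add_right h7).1 (h8 ▸ Dvd.intro _ rfl)
  have h7 := Nat.le_of_dvd (by norm_num) h6
  (clear * - hm h4 hr0 hs h7; omega)

end count

section side

variable {K : Type} [Field K] [Finite K] {V : Type} [AddCommGroup V] [Module K V] [Finite V]
  {L : Type} [Field L] [Algebra K L] [Finite L]

theorem kside_three {H : Subgroup (V ≃ₗ[K] V)} {x : V ≃ₗ[K] V} (hx : x ∈ H) {ω : Lˣ} (hω : IsGen ω)
    (ht : TwoT L K x ω (nm ω)⁻¹) (hk : finrank K L = 2) (hq4 : Nat.card K ≠ 4) :
    (∀ v w : V, v ≠ 0 → w ≠ 0 → ∃ h ∈ H, ∃ c : K, h v = c • w) ∨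
      (∃ v, v ≠ 0 ∧ ∀ h ∈ H, ∃ c : K, h v = c • v) ∨
      (∃ φ : Dual K V, φ ≠ 0 ∧ ∀ h ∈ H, ∃ c : K, ∀ v, φ (h v) = c * φ v) := by
  classical
  obtain ⟨ν, hνdef⟩ : ∃ ν : Kˣ, ν = (nm ω)⁻¹ := ⟨_, rfl⟩
  rw [← hνdef] at ht
  obtain ⟨e, he⟩ := ht
  obtain ⟨ℓ, hℓ⟩ := exists_form (K := K) (L := L)
  obtain ⟨e', he'⟩ := exists_dual e hℓ
  have hfin : Module.Finite K V := Module.Finite.of_finite
  have hfinL : Module.Finite K L := Module.Finite.of_finite
  have hfinD : Finite (Dual K V) := Module.finite_of_finite K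
  -- the action of `x` on the dual space
  have hx' : ∀ φ : Dual K V, e' (x.dualMap φ) = ((ω : L) * (e' φ).1, (ν : K) * (e' φ).2) := by
    intro φ
    have h1 : x.dualMap φ = e'.symm ((ω : L) * (e' φ).1, (ν : K) * (e' φ).2) := by
      ext v
      rw [LinearEquiv.dualMap_apply, he' φ (x v), he' (e'.symm _) v, LinearEquiv.apply_symm_apply, he]
      change ℓ ((e' φ).1 * ((ω : L) * (e v).1)) + (e' φ).2 * ((ν : K) * (e v).2) =
        ℓ ((ω : L) * (e' φ).1 * (e v).1) + (ν : K) * (e' φ).2 * (e v).2
      rw [show (e' φ).1 * ((ω : L) * (e v).1) = (ω : L) * (e' φ).1 * (e v).1 by ring]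
      ring
    rw [h1, LinearEquiv.apply_symm_apply]
  obtain ⟨φ0, hφ0⟩ : ∃ φ0, φ0 = e'.symm (0, 1) := ⟨_, rfl⟩
  have hφ0' : ∀ v, φ0 v = (e v).2 := by
    intro v
    rw [he', hφ0, LinearEquiv.apply_symm_apply, zero_mul, map_zero, zero_add, one_mul]
  have hφ00 : φ0 ≠ 0 := by
    rw [hφ0, Ne, LinearEquiv.map_eq_zero_iff]
    intro h
    exact one_ne_zero (congrArg Prod.snd h)
  let B : Set (Dual K V) := {φ | ∃ c : K, c ≠ 0 ∧ ∃ k ∈ H, ∀ v, φ v = c * φ0 (k v)}
  have hB0 : ∀ φ ∈ B, φ ≠ 0 := by
    rintro φ ⟨c, hc, k, hk, hφ⟩ rfl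
    apply hφ00
    ext v
    have h1 := hφ (k.symm v)
    rw [LinearMap.zero_apply, LinearEquiv.apply_symm_apply] at h1
    rw [LinearMap.zero_apply]
    exact (mul_eq_zero.1 h1.symm).resolve_left hc
  have hBc : ∀ (c : K), c ≠ 0 → ∀ φ ∈ B, c • φ ∈ B := by
    rintro c hc φ ⟨d, hd, k, hk, hφ⟩
    exact ⟨c * d, mul_ne_zero hc hd, k, hk, fun v => by
      rw [LinearMap.smul_apply, hφ, smul_eq_mul, mul_assoc]⟩
  have hBH : ∀ h ∈ H, ∀ φ ∈ B, φ ∘ₗ (h : V →ₗ[K] V) ∈ B := mul_mem_dual φ0
  have hBx : ∀ φ ∈ B, x.dualMap φ ∈ B := hBH x hx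
  have hφ0B : φ0 ∈ B := ⟨1, one_ne_zero, 1, H.one_mem, fun v => by rw [one_mul]; rfl⟩
  let A : Set V := {v | v ≠ 0 ∧ ∃ φ ∈ B, φ v = 0}
  have hAc : ∀ (c : K), c ≠ 0 → ∀ v ∈ A, c • v ∈ A := by
    rintro c hc v ⟨hv, φ, hφ, h⟩
    exact ⟨smul_ne_zero hc hv, φ, hφ, by rw [map_smul, h, smul_zero]⟩
  have hAH : ∀ h ∈ H, ∀ v ∈ A, h v ∈ A := by
    rintro h hh v ⟨hv, φ, hφ, h0⟩
    refine ⟨by rwa [Ne, LinearEquiv.map_eq_zero_iff], _, hBH h⁻¹ (H.inv_mem hh) φ hφ, ?_⟩
    change φ (h.symm (h v)) = 0
    rw [LinearEquiv.symm_apply_apply, h0]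
  -- powers of `x`
  have hxpow : ∀ a b : L, a ≠ 0 → b ≠ 0 → ∃ i : ℕ, ((ω ^ i : Lˣ) : L) * a = b := by
    intro a b ha hb
    obtain ⟨i, hi⟩ := hω.exists_pow (Units.mk0 b hb / Units.mk0 a ha)
    refine ⟨i, ?_⟩
    rw [hi, Units.val_div_eq_div_val, Units.val_mk0, Units.val_mk0, div_mul_cancel₀ _ ha]
  have hAt : ∀ v ∈ A, ∀ w ∈ A, ∃ h ∈ H, h v = w := by
    rintro v ⟨hv, φ, ⟨c, hc, k, hk, hφ⟩, h⟩ w ⟨hw, φ', ⟨c', hc', k', hk', hφ'⟩, h'⟩
    rw [hφ, hφ0'] at h
    rw [hφ', hφ0'] at h'
    have h1 := (mul_eq_zero.1 h).resolve_left hc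
    have h1' := (mul_eq_zero.1 h').resolve_left hc'
    have h2 : (e (k v)).1 ≠ 0 := by
      intro h3
      apply hv
      rw [← LinearEquiv.map_eq_zero_iff k, ← LinearEquiv.map_eq_zero_iff e]
      exact Prod.ext h3 h1
    have h2' : (e (k' w)).1 ≠ 0 := by
      intro h3
      apply hw
      rw [← LinearEquiv.map_eq_zero_iff k', ← LinearEquiv.map_eq_zero_iff e]
      exact Prod.ext h3 h1'
    obtain ⟨i, hi⟩ := hxpow _ _ h2 h2'
    refine ⟨k'⁻¹ * x ^ i * k, H.mul_mem (H.mul_mem (H.inv_mem hk') (H.pow_mem hx i)) hk, ?_⟩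
    change k'.symm ((x ^ i) (k v)) = w
    rw [LinearEquiv.symm_apply_eq]
    apply e.injective
    rw [twoT_pow he, hi, h1, mul_zero, ← h1']
  -- the first case
  by_cases hcase : ∃ φ ∈ B, (e' φ).2 = 0
  · left
    obtain ⟨φ, hφ, hd⟩ := hcase
    have hall : ∀ v, v ≠ 0 → v ∈ A := by
      intro v hv
      by_cases ha : (e v).1 = 0
      · exact ⟨hv, φ, hφ, by rw [he', ha, hd, mul_zero, map_zero, zero_mul, zero_add]⟩
      · have hb : (e' φ).1 ≠ 0 := by
          intro h
          apply hB0 φ hφ
          rw [← LinearEquiv.map_eq_zero_iff e']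
          exact Prod.ext h hd
        obtain ⟨a0, ha0, ha0'⟩ : ∃ a : L, a ≠ 0 ∧ ℓ a = 0 := by
          have h1 : finrank K K < finrank K L := by rw [finrank_self]; omega
          have h3 := LinearMap.ker_ne_bot_of_finrank_lt (f := ℓ) h1
          obtain ⟨a, h4, h5⟩ := (Submodule.ne_bot_iff _).1 h3
          exact ⟨a, h5, h4⟩
        obtain ⟨i, hi⟩ := hxpow _ ((e' φ).1⁻¹ * a0) ha (mul_ne_zero (inv_ne_zero hb) ha0)
        refine ⟨hv, _, hBH (x ^ i) (H.pow_mem hx i) φ hφ, ?_⟩
        change φ ((x ^ i) v) = 0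
        rw [he', twoT_pow he, hi, hd, zero_mul, add_zero, mul_inv_cancel_left₀ hb, ha0']
    intro v w hv hw
    obtain ⟨h, hh, hhv⟩ := hAt v (hall v hv) w (hall w hw)
    exact ⟨h, hh, 1, by rw [hhv, one_smul]⟩
  right
  push Not at hcase
  -- the counts
  obtain ⟨q, hq⟩ : ∃ q, q = Nat.card K := ⟨_, rfl⟩
  obtain ⟨Q, hQ⟩ : ∃ Q, Q = Nat.card K ^ finrank K L := ⟨_, rfl⟩
  obtain ⟨X, hX⟩ : ∃ X, X = Nat.card K ^ (finrank K L - 1) := ⟨_, rfl⟩
  have hq1 : 1 < q := by rw [hq]; exact one_lt_q
  have hQX : Q = q * X := by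
    rw [hQ, hX, hq, ← pow_succ']
    congr 1
    omega
  have hXq : X = q := by
    rw [hX, ← hq, hk, show 2 - 1 = 1 by rfl, pow_one]
  have hdim : finrank K V = finrank K L + 1 := by
    rw [e.finrank_eq, Module.finrank_prod, finrank_self]
  let B0 : Set (Dual K V) := {φ | φ ∈ B ∧ (e' φ).1 = 0}
  let B1 : Set (Dual K V) := {φ | φ ∈ B ∧ (e' φ).1 ≠ 0}
  have hBu : B = B0 ∪ B1 := by
    ext φ
    constructor
    · intro h
      by_cases h1 : (e' φ).1 = 0
      · exact Or.inl ⟨h, h1⟩
      · exact Or.inr ⟨h, h1⟩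
    · rintro (h | h)
      · exact h.1
      · exact h.1
  have hBd : Disjoint B0 B1 := by
    rw [Set.disjoint_left]
    rintro φ ⟨-, h1⟩ ⟨-, h2⟩
    exact h2 h1
  have hB0c : B0.ncard = q - 1 := by
    rw [← Nat.card_coe_set_eq, hq, ← card_units_base]
    refine Nat.card_congr ?_
    exact
      { toFun := fun φ => Units.mk0 (e' φ).2 (hcase φ φ.2.1)
        invFun := fun c => ⟨(c : K) • φ0, hBc c c.ne_zero φ0 hφ0B, by
          rw [map_smul, hφ0, LinearEquiv.apply_symm_apply]
          exact smul_zero _⟩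
        left_inv := fun φ => by
          apply Subtype.ext
          apply e'.injective
          change e' ((e' φ).2 • φ0) = e' φ
          rw [map_smul, hφ0, LinearEquiv.apply_symm_apply]
          exact Prod.ext (by
            change (e' φ).2 • (0 : L) = (e' φ).1
            rw [smul_zero, φ.2.2]) (mul_one _)
        right_inv := fun c => by
          apply Units.ext
          change (e' ((c : K) • φ0)).2 = c
          rw [map_smul, hφ0, LinearEquiv.apply_symm_apply]
          exact mul_one _ }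
  obtain ⟨j, hj, hB1c, -⟩ := count_pts (y := x.dualMap) hω hx' B1 (fun φ h => ⟨h.2, hcase φ h.1⟩)
    (fun c hc φ h => ⟨hBc c hc φ h.1, by
      rw [map_smul]
      exact smul_ne_zero hc h.2⟩)
    (fun φ h => ⟨hBx φ h.1, by
      rw [hx']
      exact mul_ne_zero ω.ne_zero h.2⟩)
  let U : Set V := {v | v ≠ 0 ∧ (e v).2 = 0}
  let A1 : Set V := {v | v ∈ A ∧ (e v).2 ≠ 0}
  have hUA : U ⊆ A := fun v hv => ⟨hv.1, φ0, hφ0B, by rw [hφ0']; exact hv.2⟩
  have hAu : A = U ∪ A1 := by
    ext v
    constructor
    · intro h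
      by_cases h1 : (e v).2 = 0
      · exact Or.inl ⟨h.1, h1⟩
      · exact Or.inr ⟨h, h1⟩
    · rintro (h | h)
      · exact hUA h
      · exact h.1
  have hAd : Disjoint U A1 := by
    rw [Set.disjoint_left]
    rintro φ ⟨-, h1⟩ ⟨-, h2⟩
    exact h2 h1
  have hUc : U.ncard = Q - 1 := by
    have h1 : U = {v : V | v ≠ 0 ∧ φ0 v = 0} := by
      ext v
      simp only [U, hφ0']
    rw [h1, card_ker hφ00, hdim, hQ, Nat.add_sub_cancel]
  have hA0 : ∀ v ∈ A, (e v).1 ≠ 0 := by
    rintro v ⟨hv, φ, hφ, h⟩ h1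
    rw [he', h1, mul_zero, map_zero, zero_add] at h
    apply hv
    rw [← LinearEquiv.map_eq_zero_iff e]
    exact Prod.ext h1 ((mul_eq_zero.1 h).resolve_left (hcase φ hφ))
  obtain ⟨i, hi, hA1c, hAll⟩ := count_pts hω he A1 (fun v h => ⟨hA0 v h.1, h.2⟩)
    (fun c hc v h => ⟨hAc c hc v h.1, by
      rw [map_smul]
      exact smul_ne_zero hc h.2⟩)
    (fun v h => ⟨hAH x hx v h.1, by
      rw [he]
      exact mul_ne_zero ν.ne_zero h.2⟩)
  rw [← hQ] at hB1c hA1c
  rw [← hq] at hj hi hAll
  have hAcard : A.ncard = (1 + i) * (Q - 1) := by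
    rw [hAu, Set.ncard_union_eq hAd, hUc, hA1c]
    ring
  have hBcard : B.ncard = (q - 1) + j * (Q - 1) := by
    rw [hBu, Set.ncard_union_eq hBd, hB0c, hB1c]
  -- the number of hyperplanes through a point
  obtain ⟨Λ, hΛ⟩ : ∃ Λ, ∀ v ∈ A, {φ | φ ∈ B ∧ φ v = 0}.ncard = Λ := by
    obtain ⟨v0, hv0⟩ : ∃ v0, v0 ∈ U := by
      have : 0 < U.ncard := by
        rw [hUc, hQX]
        have : 2 * 1 ≤ q * X := Nat.mul_le_mul hq1 (by omega)
        omega
      exact Set.nonempty_of_ncard_ne_zero this.ne'
    refine ⟨{φ | φ ∈ B ∧ φ v0 = 0}.ncard, fun v hv => ?_⟩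
    obtain ⟨h, hh, hhv⟩ := hAt v hv v0 (hUA hv0)
    refine Set.ncard_congr (fun φ _ => φ ∘ₗ ((h⁻¹ : V ≃ₗ[K] V) : V →ₗ[K] V)) ?_ ?_ ?_
    · rintro φ ⟨h1, h2⟩
      refine ⟨hBH _ (H.inv_mem hh) φ h1, ?_⟩
      change φ (h.symm v0) = 0
      rw [← hhv, LinearEquiv.symm_apply_apply, h2]
    · intro φ φ' _ _ h1
      ext w
      have h2 := congrArg (fun f : V →ₗ[K] K => f (h w)) h1
      change φ (h.symm (h w)) = φ' (h.symm (h w)) at h2
      rwa [LinearEquiv.symm_apply_apply] at h2
    · rintro φ ⟨h1, h2⟩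
      refine ⟨φ ∘ₗ (h : V →ₗ[K] V), ⟨hBH h hh φ h1, ?_⟩, ?_⟩
      · change φ (h v) = 0
        rw [hhv, h2]
      · ext w
        change φ (h (h.symm w)) = φ w
        rw [LinearEquiv.apply_symm_apply]
  -- the double counts
  have hd1 : A.ncard * Λ = B.ncard * (Q - 1) := by
    refine double_sum A B (fun v φ => φ v = 0) hΛ fun φ hφ => ?_
    have h1 : {v | v ∈ A ∧ φ v = 0} = {v : V | v ≠ 0 ∧ φ v = 0} := by
      ext v
      exact ⟨fun h => ⟨h.1.1, h.2⟩, fun h => ⟨⟨h.1, φ, hφ, h.2⟩, h.2⟩⟩
    rw [h1, card_ker (hB0 φ hφ), hdim, hQ, Nat.add_sub_cancel]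
  have hd2 : U.ncard * Λ = B0.ncard * (Q - 1) + B1.ncard * (X - 1) := by
    refine double_sum' U B0 B1 hBd (fun v φ => φ v = 0) (fun v hv => ?_) (fun φ hφ => ?_) fun φ hφ => ?_
    · rw [← hBu]
      exact hΛ v (hUA hv)
    · have h1 : {v | v ∈ U ∧ φ v = 0} = U := by
        ext v
        refine ⟨fun h => h.1, fun h => ⟨h, ?_⟩⟩
        rw [he', hφ.2, zero_mul, map_zero, zero_add, h.2, mul_zero]
      rw [h1, hUc]
    · -- the form on `L`
      let ψ : L →ₗ[K] K := φ ∘ₗ (e.symm : L × K →ₗ[K] V) ∘ₗ LinearMap.inl K L K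
      have hψ : ∀ a, ψ a = φ (e.symm (a, 0)) := fun a => rfl
      have hψ0 : ψ ≠ 0 := by
        intro h
        apply hℓ
        ext a
        have h1 := congrArg (fun f : L →ₗ[K] K => f ((e' φ).1⁻¹ * a)) h
        simp only [LinearMap.zero_apply, hψ] at h1
        rw [he', LinearEquiv.apply_symm_apply, mul_zero, add_zero, mul_inv_cancel_left₀ hφ.2] at h1
        rw [h1, LinearMap.zero_apply]
      have h1 : {v | v ∈ U ∧ φ v = 0}.ncard = {a : L | a ≠ 0 ∧ ψ a = 0}.ncard := by
        refine Set.ncard_congr (fun v _ => (e v).1) ?_ ?_ ?_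
        · rintro v ⟨⟨hv, h1⟩, h2⟩
          refine ⟨fun h3 => hv ?_, ?_⟩
          · rw [← LinearEquiv.map_eq_zero_iff e]
            exact Prod.ext h3 h1
          · have h4 : ((e v).1, (0 : K)) = e v := Prod.ext rfl h1.symm
            change ψ (e v).1 = 0
            rw [hψ, h4, LinearEquiv.symm_apply_apply, h2]
        · rintro v w ⟨⟨-, h1⟩, -⟩ ⟨⟨-, h2⟩, -⟩ h3
          exact e.injective (Prod.ext h3 (h1.trans h2.symm))
        · rintro a ⟨h1, h2⟩
          refine ⟨e.symm (a, 0), ⟨⟨?_, by rw [LinearEquiv.apply_symm_apply]⟩, h2⟩, by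
            rw [LinearEquiv.apply_symm_apply]⟩
          rw [Ne, LinearEquiv.map_eq_zero_iff]
          exact fun h3 => h1 (congrArg Prod.fst h3)
      rw [h1, card_ker hψ0, hX]
  have hQ1 : 0 < Q - 1 := by
    rw [hQX]
    have : 2 * 1 ≤ q * X := Nat.mul_le_mul hq1 (by omega)
    omega
  have hΛ' : Λ = (q - 1) + j * (X - 1) := by
    rw [hUc, hB0c, hB1c] at hd2
    have h1 : (Q - 1) * Λ = (Q - 1) * ((q - 1) + j * (X - 1)) := by
      rw [hd2]
      ring
    exact Nat.eq_of_mul_eq_mul_left hQ1 h1
  have hfinal : (1 + i) * ((q - 1) + j * (X - 1)) = (q - 1) + j * (q * X - 1) := by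
    rw [hAcard, hBcard, hΛ'] at hd1
    have h1 : (Q - 1) * ((1 + i) * ((q - 1) + j * (X - 1))) = (Q - 1) * ((q - 1) + j * (Q - 1)) := by
      rw [mul_comm (Q - 1) ((q - 1) + j * (Q - 1)), ← hd1]
      ring
    rw [Nat.eq_of_mul_eq_mul_left hQ1 h1, hQX]
  have hthree : q - 1 ∣ 3 * j := by
    rw [hq]
    refine three_dvd (y := x.dualMap) hω hk (by rw [← hνdef]; exact hx') B1 (fun φ h => ⟨h.2, hcase φ h.1⟩)
      (fun c hc φ h => ⟨hBc c hc φ h.1, by
        rw [map_smul]
        exact smul_ne_zero hc h.2⟩)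
      (fun φ h => ⟨hBx φ h.1, by
        rw [hx']
        exact mul_ne_zero ω.ne_zero h.2⟩) ?_
    rw [hB1c, hQ, hk]
  rw [hXq] at hfinal
  obtain ⟨m, rfl⟩ : ∃ m, q = m + 1 := ⟨q - 1, by (clear * - hq1; omega)⟩
  rw [Nat.add_sub_cancel] at hfinal hi hj hAll hthree
  rcases arith_three (by omega) (by (clear * - hq4 hq; omega)) hfinal hthree with h | h
  · -- a fixed hyperplane
    right
    refine ⟨φ0, hφ00, fun h' hh => ?_⟩
    have h1 : φ0 ∘ₗ (h' : V →ₗ[K] V) ∈ B := hBH h' hh φ0 hφ0B
    have h2 : φ0 ∘ₗ (h' : V →ₗ[K] V) ∉ B1 := by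
      rw [h, zero_mul, Set.ncard_eq_zero] at hB1c
      rw [hB1c]
      exact Set.notMem_empty _
    have h3 : (e' (φ0 ∘ₗ (h' : V →ₗ[K] V))).1 = 0 := by
      by_contra hcon
      exact h2 ⟨h1, hcon⟩
    refine ⟨(e' (φ0 ∘ₗ (h' : V →ₗ[K] V))).2, fun v => ?_⟩
    have h4 : φ0 (h' v) = (φ0 ∘ₗ (h' : V →ₗ[K] V)) v := rfl
    rw [h4, he', h3, zero_mul, map_zero, zero_add, hφ0']
  · -- a fixed point
    left
    refine ⟨e.symm (0, 1), ?_, fun h' hh => ?_⟩
    · rw [Ne, LinearEquiv.map_eq_zero_iff]
      intro h1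
      exact one_ne_zero (congrArg Prod.snd h1)
    · have hP : e.symm (0, 1) ∉ A := fun h1 => hA0 _ h1 (by rw [LinearEquiv.apply_symm_apply])
      have h1 : h' (e.symm (0, 1)) ∉ A := by
        intro h2
        apply hP
        have h3 := hAH h'⁻¹ (H.inv_mem hh) _ h2
        change h'.symm (h' _) ∈ A at h3
        rwa [LinearEquiv.symm_apply_apply] at h3
      have h2 : (e (h' (e.symm (0, 1)))).1 = 0 := by
        by_contra hcon
        apply h1
        by_cases h3 : (e (h' (e.symm (0, 1)))).2 = 0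
        · refine hUA ⟨?_, h3⟩
          rw [Ne, LinearEquiv.map_eq_zero_iff, LinearEquiv.map_eq_zero_iff]
          intro h4
          exact one_ne_zero (congrArg Prod.snd h4)
        · exact (hAll h _ hcon h3).1
      refine ⟨(e (h' (e.symm (0, 1)))).2, ?_⟩
      apply e.injective
      rw [map_smul, LinearEquiv.apply_symm_apply]
      exact Prod.ext (by
        change _ = (e (h' (e.symm (0, 1)))).2 • (0 : L)
        rw [h2, smul_zero]) (mul_one _).symm


end side

section her

variable {K : Type} [Field K] [Fintype K] {V : Type} [AddCommGroup V] [Module K V] [Finite V]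
  {H : Subgroup (V ≃ₗ[K] V)} {L : Type} [Field L] [Algebra K L] [Finite L]

/-- **Hering's theorem for subgroups of `GL_3(q)`.** -/
theorem her_three (hn : finrank K V = 3) (hT : PTr H) :
    (∀ g : V ≃ₗ[K] V, LinearMap.det (g : V →ₗ[K] V) = 1 → g ∈ H) ∨ ExtO H ∨ SympO H ∨ GamO H := by
  have hmain := Cfsg.Agent.H667.HerFin.action_of_main Cfsg.Agent.H50.Her.main Cfsg.Agent.H50.Her.altSix
    Cfsg.Agent.H50.Her.altSeven Cfsg.Agent.H50.Her.thirteen (K := K) (V := V) (Fintype.card K) (finrank K V) rfl rfl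
    (by omega) (PH H) ?_ ?_ ?_
  · rcases hmain with h | h | h
    · -- `ΓL₁`
      obtain ⟨F, iF, iF', e, hc, h⟩ := h
      refine Or.inr (Or.inr (Or.inr ⟨F, iF, iF', e, hc, fun h' hh => ?_⟩))
      exact h (MulAction.toPermHom (V ≃ₗ[K] V) V h') ⟨h', hh, rfl⟩
    · obtain ⟨F, iF, iF', iM, φ, b, hφ, h2, hc, hb, hsem, hcase⟩ := h
      have hb0 : b ≠ 0 := by
        rintro rfl
        rw [mul_zero] at hb
        omega
      by_cases hb1 : b = 1
      · subst hb1
        rw [pow_one] at hc
        have hbij : Function.Bijective φ :=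
          (Fintype.bijective_iff_injective_and_card φ).2 ⟨φ.injective, hc.symm⟩
        let Φ : K ≃+* F := RingEquiv.ofBijective φ hbij
        have hΦ : ∀ (c : K) (v : V), c • v = Φ c • v := hφ
        have hΦ' : ∀ (c : F) (v : V), Φ.symm c • v = c • v := fun c v => by
          rw [hΦ, RingEquiv.apply_symm_apply]
        have hsymp : ∀ f : LinearMap.BilinForm F V, f.IsAlt → f.Nondegenerate →
            (∀ h ∈ PH H, ∀ σ : F ≃+* F, (∀ (c : F) (v : V), h (c • v) = σ c • h v) →
              ∃ μ : F, ∀ u v, f (h u) (h v) = μ * σ (f u v)) → SympO H := by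
          intro f ha hn' hs
          refine ⟨LinearMap.mk₂ K (fun u v => Φ.symm (f u v)) (fun u u' v => by simp only [_root_.map_add, _root_.LinearMap.add_apply]) (fun c u v => ?_)
            (fun u v v' => by simp only [_root_.map_add]) (fun c u v => ?_), fun v => ?_, fun u hu => ?_, fun h hh => ?_⟩
          · rw [hΦ, map_smul, LinearMap.smul_apply, smul_eq_mul, map_mul, RingEquiv.symm_apply_apply, smul_eq_mul]
          · rw [hΦ, map_smul, smul_eq_mul, map_mul, RingEquiv.symm_apply_apply, smul_eq_mul]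
          · rw [LinearMap.mk₂_apply, ha v, map_zero]
          · refine hn'.1 u fun v => ?_
            have := hu v
            rw [LinearMap.mk₂_apply] at this
            rwa [map_eq_zero_iff _ Φ.symm.injective] at this
          · obtain ⟨μ, hμ⟩ := hs (MulAction.toPermHom (V ≃ₗ[K] V) V h) ⟨h, hh, rfl⟩ (RingEquiv.refl F) (by
              intro c v
              change h (c • v) = c • h v
              rw [← hΦ', map_smul, hΦ'])
            refine ⟨Φ.symm μ, fun u v => ?_⟩
            rw [LinearMap.mk₂_apply, LinearMap.mk₂_apply, ← map_mul]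
            exact congrArg _ (hμ u v)
        rcases hcase with h1 | ⟨f, ha, hn', -, hs⟩ | ⟨-, -, -, f, ha, hn', hs, -⟩
        · left
          intro g hg
          have hlin : ∀ (c : F) (v : V), g (c • v) = c • g v := fun c v => by rw [← hΦ', map_smul, hΦ']
          let g' : V ≃ₗ[F] V := { g with map_smul' := hlin }
          obtain ⟨h, hh, e⟩ := h1 g' (by
            apply Units.ext
            rw [LinearEquiv.coe_det, det_transport Φ hΦ (g : V →ₗ[K] V) (g' : V →ₗ[F] V) (fun v => rfl), hg, map_one]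
            rfl)
          obtain ⟨g₁, hg₁, e'⟩ := mem_PH.1 hh
          have : g₁ = g := by
            ext v
            rw [← e', e]
            rfl
          rwa [← this]
        · exact Or.inr (Or.inr (Or.inl (hsymp f ha hn' hs)))
        · exact Or.inr (Or.inr (Or.inl (hsymp f ha hn' hs)))
      · refine Or.inr (Or.inl ⟨F, iF, iF', iM, φ, b, hφ, by omega, hc, ⟨_, by rw [mul_comm]; exact hb.symm⟩,
          fun h hh => ?_⟩)
        exact hsem (MulAction.toPermHom (V ≃ₗ[K] V) V h) ⟨h, hh, rfl⟩
    · rcases h with ⟨h, -⟩ | ⟨h, -⟩ | ⟨h, -⟩ | ⟨h, -⟩ | ⟨h, -⟩ | ⟨h, -⟩ <;> omega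
  · intro h hh v w
    obtain ⟨g, hg, e⟩ := mem_PH.1 hh
    rw [e, e, e, map_add]
  · intro h hh
    obtain ⟨g, hg, e⟩ := mem_PH.1 hh
    exact ⟨RingEquiv.refl K, fun c v => by rw [e, e, map_smul]; rfl⟩
  · intro v w hv hw
    obtain ⟨g, hg, c, e⟩ := hT v w hv hw
    exact ⟨MulAction.toPermHom (V ≃ₗ[K] V) V g, ⟨g, hg, rfl⟩, c, e⟩


/-- **Overgroups of an element of type `(2, 1)`, `q ≠ 2, 4`** -/
theorem over_k_three (hn : finrank K V = 3) (hq2 : Nat.card K ≠ 2) (hq4 : Nat.card K ≠ 4) {x : V ≃ₗ[K] V}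
    (hx : x ∈ H) {ω : Lˣ} (hω : IsGen ω) (ht : TwoT L K x ω (nm ω)⁻¹) :
    (∀ g : V ≃ₗ[K] V, LinearMap.det (g : V →ₗ[K] V) = 1 → g ∈ H) ∨ Red H := by
  have hfin : Module.Finite K V := Module.Finite.of_finite
  have hfinL : Module.Finite K L := Module.Finite.of_finite
  have hdim : finrank K V = finrank K L + 1 := by
    obtain ⟨e, -⟩ := ht
    rw [e.finrank_eq, Module.finrank_prod, finrank_self]
  have hL2 : finrank K L = 2 := by omega
  have hnt : Nontrivial V := Module.nontrivial_of_finrank_pos (R := K) (by omega)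
  have hq1 : 2 ≤ Nat.card K := one_lt_q
  have hk1 : ∀ c : Kˣ, c ^ (Nat.card K - 1) = 1 := by
    intro c
    rw [← card_units_base]
    exact pow_card_eq_one'
  have hbig : ω ^ ((Nat.card K - 1) * 3) ≠ 1 := by
    intro h1
    have h2 := hω.dvd_of_pow (K := K) h1
    rw [hL2] at h2
    obtain ⟨m, hm⟩ : ∃ m, Nat.card K = m + 1 := ⟨Nat.card K - 1, by omega⟩
    rw [hm, Nat.add_sub_cancel] at h2
    have h3 : (m + 1) ^ 2 - 1 = m * (m + 2) := by
      have : (m + 1) ^ 2 = m * (m + 2) + 1 := by ring
      omega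
    rw [h3] at h2
    have h4 := Nat.le_of_dvd (by norm_num) (Nat.dvd_of_mul_dvd_mul_left (by omega) h2)
    omega
  rcases kside_three hx hω ht hL2 hq4 with h | h | h
  rotate_left
  · exact Or.inr (Or.inl h)
  · exact Or.inr (Or.inr h)
  rcases her_three hn h with h | h | h | h
  · exact Or.inl h
  · exfalso
    obtain ⟨b, hb2, hbn, hE⟩ := h.exists
    rw [hn] at hbn
    have hb3 : b = 3 := by
      rcases (Nat.dvd_prime Nat.prime_three).1 hbn with h1 | h1
      · omega
      · exact h1
    subst hb3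
    have h1 : 3 ∣ finrank K K := ext_dvd_pow hE hx ht (i := Nat.card K - 1) hbig (hk1 _)
    rw [finrank_self] at h1
    omega
  · exact absurd (symp_two h hx hω ht (by omega)) id
  · exfalso
    have h1 : TwoT L K (x ^ (Nat.card K - 1)) (ω ^ (Nat.card K - 1)) 1 := by
      have := ht.pow (Nat.card K - 1)
      rwa [hk1] at this
    obtain ⟨t, h2, h3⟩ := gam_two h (H.pow_mem hx _) h1 (fun h2 => hbig (by rw [pow_mul, h2, one_pow]))
    rw [finrank_self, one_mul, hn] at h2
    rw [← h2, ← pow_mul] at h3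
    exact hbig h3

end her

theorem over_three {K : Type} [Field K] [Fintype K] (hq2 : Nat.card K ≠ 2) (hq4 : Nat.card K ≠ 4) : Over 3 K := by
  intro L _ _ _ H x ω hx hω ht _
  exact over_k_three (by simp) hq2 hq4 hx hω ht

/-- **The row `PSL_3(q)`, `q ≠ 2, 4`.** -/
theorem spr_psl_three {K : Type} [Field K] [Fintype K] [IsSimpleGroup (Matrix.ProjectiveSpecialLinearGroup (Fin 3) K)]
    (hna : ∃ x y : Matrix.ProjectiveSpecialLinearGroup (Fin 3) K, x * y ≠ y * x) (hq2 : Nat.card K ≠ 2)
    (hq4 : Nat.card K ≠ 4) : Cfsg.Agent.H424.Spr.Spr (Matrix.ProjectiveSpecialLinearGroup (Fin 3) K) :=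
  spr_psl_of le_rfl hna (over_three hq2 hq4)

end Cfsg.Agent.H59.SprPsl
end

-- part: H59/Spr/ThreeCo
section
/-!
# Subgroups of `SL_3(q)` containing an element of type `(2, 1)` and normalised by a collineation or a correlation (helper59)

`P = ⟨v₀⟩`, `ℓ` the fixed point and line of `x ∈ H`.
* `ptr_of_coll` : if a collineation `T` normalises `H` and `T P ∈ ℓ` then `H` is transitive on the points;
* `ptr_of_corr` : if a correlation `β` normalises `H` and `P` is absolute then `H` is transitive on the points;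
* `top_of_trans` : then `H ≥ SL_3(q)`, `q ≠ 2`.
-/

set_option autoImplicit false
set_option linter.unusedSectionVars false

namespace Cfsg.Agent.H59.SprPsl

open Module Cfsg.Agent.H184.Cov

section geo

variable {K : Type} [Field K] [Finite K] {V : Type} [AddCommGroup V] [Module K V] [Finite V]
  {L : Type} [Field L] [Algebra K L] [Finite L]

/-- coordinates adapted to a point and a hyperplane -/
theorem exists_adapted {φ : V →ₗ[K] K} {v₀ : V} (hφ : φ v₀ = 1) (hd : finrank K V = finrank K L + 1) :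
    ∃ e : V ≃ₗ[K] L × K, e v₀ = (0, 1) ∧ ∀ v, (e v).2 = φ v := by
  have hfin : Module.Finite K V := Module.Finite.of_finite
  have hfinL : Module.Finite K L := Module.Finite.of_finite
  have h1 : finrank K (LinearMap.ker φ) = finrank K L := by
    have h2 := LinearMap.finrank_range_add_finrank_ker φ
    have h3 : finrank K (LinearMap.range φ) = 1 := by
      rw [LinearMap.range_eq_top.2 (LinearMap.surjective (by
        rintro rfl
        exact zero_ne_one hφ)), finrank_top, finrank_self]
    omega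
  obtain ⟨e1⟩ : Nonempty (LinearMap.ker φ ≃ₗ[K] L) := ⟨LinearEquiv.ofFinrankEq _ _ h1⟩
  have hp : ∀ v, v - φ v • v₀ ∈ LinearMap.ker φ := by
    intro v
    rw [LinearMap.mem_ker, map_sub, map_smul, hφ, smul_eq_mul, mul_one, sub_self]
  let e : V ≃ₗ[K] L × K :=
    { toFun := fun v => (e1 ⟨v - φ v • v₀, hp v⟩, φ v)
      map_add' := fun u v => by
        refine Prod.ext ?_ (map_add φ u v)
        change e1 _ = e1 _ + e1 _
        rw [← map_add]
        congr 1
        apply Subtype.ext
        change u + v - φ (u + v) • v₀ = (u - φ u • v₀) + (v - φ v • v₀)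
        rw [map_add, add_smul]
        abel
      map_smul' := fun c v => by
        refine Prod.ext ?_ (map_smul φ c v)
        change e1 _ = c • e1 _
        rw [← map_smul]
        congr 1
        apply Subtype.ext
        change c • v - φ (c • v) • v₀ = c • (v - φ v • v₀)
        rw [map_smul, smul_eq_mul, smul_sub, mul_smul]
      invFun := fun p => (e1.symm p.1 : V) + p.2 • v₀
      left_inv := fun v => by
        change (e1.symm (e1 ⟨v - φ v • v₀, hp v⟩) : V) + φ v • v₀ = v
        rw [e1.symm_apply_apply, sub_add_cancel]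
      right_inv := fun p => by
        have h2 : φ ((e1.symm p.1 : V) + p.2 • v₀) = p.2 := by
          rw [map_add, map_smul, hφ, smul_eq_mul, mul_one, LinearMap.mem_ker.1 (e1.symm p.1).2, zero_add]
        refine Prod.ext ?_ h2
        change e1 ⟨(e1.symm p.1 : V) + p.2 • v₀ - φ ((e1.symm p.1 : V) + p.2 • v₀) • v₀, _⟩ = p.1
        rw [← LinearEquiv.eq_symm_apply]
        apply Subtype.ext
        change (e1.symm p.1 : V) + p.2 • v₀ - φ ((e1.symm p.1 : V) + p.2 • v₀) • v₀ = _
        rw [h2, add_sub_cancel_right] }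
  refine ⟨e, ?_, fun v => rfl⟩
  refine Prod.ext ?_ hφ
  change e1 ⟨v₀ - φ v₀ • v₀, _⟩ = 0
  rw [LinearEquiv.map_eq_zero_iff]
  apply Subtype.ext
  change v₀ - φ v₀ • v₀ = 0
  rw [hφ, one_smul, sub_self]

theorem exists_elt {φ : V →ₗ[K] K} {v₀ : V} (hφ : φ v₀ = 1) (hd : finrank K V = finrank K L + 1) (ω : Lˣ) :
    ∃ (e : V ≃ₗ[K] L × K) (x : V ≃ₗ[K] V), e v₀ = (0, 1) ∧ (∀ v, (e v).2 = φ v) ∧
      (∀ v, e (x v) = ((ω : L) * (e v).1, (((nm ω)⁻¹ : Kˣ) : K) * (e v).2)) ∧
      LinearMap.det (x : V →ₗ[K] V) = 1 := by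
  have hV : Module.Finite K V := Module.Finite.of_finite
  have hL : Module.Finite K L := Module.Finite.of_finite
  obtain ⟨e, he1, he2⟩ := exists_adapted (L := L) hφ hd
  refine ⟨e, e.trans (((mE L ω).prodCongr (mE K (nm ω)⁻¹)).trans e.symm), he1, he2, fun v => ?_, ?_⟩
  · simp only [mE_apply, LinearEquiv.prodCongr_apply, _root_.LinearEquiv.trans_apply, _root_.Units.val_inv_eq_inv_val, _root_.Units.coe_map, _root_.LinearEquiv.apply_symm_apply]
  · have h1 : ((e.trans (((mE L ω).prodCongr (mE K (nm ω)⁻¹)).trans e.symm) : V ≃ₗ[K] V) : V →ₗ[K] V) =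
        (e.symm : L × K →ₗ[K] V) ∘ₗ (LinearMap.prodMap (mE (K := K) L ω : L →ₗ[K] L)
          (mE (K := K) K (nm ω)⁻¹ : K →ₗ[K] K)) ∘ₗ (e.symm.symm : V →ₗ[K] L × K) := rfl
    rw [h1, LinearMap.det_conj, LinearMap.det_prodMap, det_mE, det_mE]
    have h2 : Algebra.norm K ((((nm ω)⁻¹ : Kˣ) : K)) = (((nm ω)⁻¹ : Kˣ) : K) := by rw [Algebra.norm_self]; rfl
    rw [h2]
    exact Units.mul_inv (nm ω : Kˣ)

/-- `v` is in the orbit of `v₀` up to scalars -/
def Orb (H : Subgroup (V ≃ₗ[K] V)) (v₀ v : V) : Prop := ∃ h ∈ H, ∃ c : K, c ≠ 0 ∧ h v₀ = c • v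

variable {H : Subgroup (V ≃ₗ[K] V)} {x : V ≃ₗ[K] V} {ω : Lˣ} {ν : Kˣ} {e : V ≃ₗ[K] L × K} {v₀ : V}

theorem exists_rot (hω : IsGen ω) {a b : L} (ha : a ≠ 0) (hb : b ≠ 0) : ∃ i : ℕ, ((ω ^ i : Lˣ) : L) * a = b := by
  obtain ⟨i, hi⟩ := hω.exists_pow (Units.mk0 b hb / Units.mk0 a ha)
  refine ⟨i, ?_⟩
  rw [hi, Units.val_div_eq_div_val, Units.val_mk0, Units.val_mk0, div_mul_cancel₀ _ ha]

/-- a line through `v₀` in the orbit: everything is in the orbit -/
theorem ptr_of_line (hx : x ∈ H) (hω : IsGen ω) (hv : e v₀ = (0, 1))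
    (he : ∀ v, e (x v) = ((ω : L) * (e v).1, (ν : K) * (e v).2)) {w₀ : V} (hw : (e w₀).1 ≠ 0)
    (hD : ∀ c : K, Orb H v₀ (w₀ + c • v₀)) : ∀ v w : V, v ≠ 0 → w ≠ 0 → ∃ h ∈ H, ∃ c : K, h v = c • w := by
  have hall : ∀ v, v ≠ 0 → Orb H v₀ v := by
    intro v hv0
    by_cases h1 : (e v).1 = 0
    · have h2 : (e v).2 ≠ 0 := by
        intro h2
        apply hv0
        rw [← LinearEquiv.map_eq_zero_iff e]
        exact Prod.ext h1 h2
      refine ⟨1, H.one_mem, ((e v).2)⁻¹, inv_ne_zero h2, ?_⟩
      apply e.injective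
      change e v₀ = e (((e v).2)⁻¹ • v)
      rw [hv, map_smul]
      refine Prod.ext ?_ ?_
      · change (0 : L) = ((e v).2)⁻¹ • (e v).1
        rw [h1, smul_zero]
      · change (1 : K) = ((e v).2)⁻¹ * (e v).2
        rw [inv_mul_cancel₀ h2]
    · obtain ⟨i, hi⟩ := exists_rot hω hw h1
      obtain ⟨c', hc'⟩ : ∃ c' : K, c' = ((ν ^ i : Kˣ) : K)⁻¹ * (e v).2 - (e w₀).2 := ⟨_, rfl⟩
      obtain ⟨h, hh, c, hc, hhc⟩ := hD c'
      refine ⟨x ^ i * h, H.mul_mem (H.pow_mem hx i) hh, c, hc, ?_⟩
      change (x ^ i) (h v₀) = c • v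
      rw [hhc, map_smul]
      congr 1
      apply e.injective
      rw [twoT_pow he, map_add, map_smul, hv]
      refine Prod.ext ?_ ?_
      · change ((ω ^ i : Lˣ) : L) * ((e w₀).1 + c' • (0 : L)) = (e v).1
        rw [smul_zero, add_zero, hi]
      · change ((ν ^ i : Kˣ) : K) * ((e w₀).2 + c' * 1) = (e v).2
        rw [hc', mul_one, add_sub_cancel, mul_inv_cancel_left₀ (Units.ne_zero _)]
  intro v w hv0 hw0
  obtain ⟨h1, hh1, c1, hc1, e1⟩ := hall v hv0
  obtain ⟨h2, hh2, c2, hc2, e2⟩ := hall w hw0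
  refine ⟨h2 * h1⁻¹, H.mul_mem hh2 (H.inv_mem hh1), c1⁻¹ * c2, ?_⟩
  have h3 : h1⁻¹ v = c1⁻¹ • v₀ := by
    change h1.symm v = c1⁻¹ • v₀
    rw [LinearEquiv.symm_apply_eq, map_smul, e1, smul_smul, inv_mul_cancel₀ hc1, one_smul]
  change h2 (h1⁻¹ v) = _
  rw [h3, map_smul, e2, smul_smul]

/-- **collineations** -/
theorem ptr_of_coll (hx : x ∈ H) (hω : IsGen ω) (hωK : ∀ c : K, (ω : L) ≠ algebraMap K L c) (hv : e v₀ = (0, 1))
    (he : ∀ v, e (x v) = ((ω : L) * (e v).1, (ν : K) * (e v).2)) {T : V → V} {σ : K ≃+* K}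
    (hTa : ∀ u v, T (u + v) = T u + T v) (hTs : ∀ (c : K) v, T (c • v) = σ c • T v) (hTb : Function.Bijective T)
    (hTH : ∀ h' ∈ H, ∃ h ∈ H, ∀ v, h' (T v) = T (h v)) (h0 : (e (T v₀)).2 = 0) :
    ∀ v w : V, v ≠ 0 → w ≠ 0 → ∃ h ∈ H, ∃ c : K, h v = c • w := by
  have hT0 : T 0 = 0 := by
    have := hTs 0 0
    rwa [zero_smul, map_zero, zero_smul] at this
  have hv0 : v₀ ≠ 0 := by
    rintro rfl
    rw [map_zero] at hv
    exact zero_ne_one (congrArg Prod.snd hv)
  have ht : (e (T v₀)).1 ≠ 0 := by
    intro h1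
    apply hv0
    apply hTb.1
    rw [hT0, ← LinearEquiv.map_eq_zero_iff e]
    exact Prod.ext h1 h0
  obtain ⟨w₀, hw₀⟩ := hTb.2 (x (T v₀))
  have hw1 : (e w₀).1 ≠ 0 := by
    intro h1
    have h2 : w₀ = (e w₀).2 • v₀ := by
      apply e.injective
      rw [map_smul, hv]
      refine Prod.ext ?_ ?_
      · change (e w₀).1 = (e w₀).2 • (0 : L)
        rw [smul_zero, h1]
      · change (e w₀).2 = (e w₀).2 * 1
        rw [mul_one]
    rw [h2, hTs] at hw₀
    have h3 := congrArg (fun v => (e v).1) hw₀
    simp only [map_smul, he] at h3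
    change σ (e w₀).2 • (e (T v₀)).1 = (ω : L) * (e (T v₀)).1 at h3
    rw [Algebra.smul_def] at h3
    exact hωK _ (mul_right_cancel₀ ht h3).symm
  refine ptr_of_line hx hω hv he hw1 fun c => ?_
  have h1 : (ω : L) * (e (T v₀)).1 + σ c • (e (T v₀)).1 ≠ 0 := by
    rw [Algebra.smul_def, ← add_mul]
    refine mul_ne_zero ?_ ht
    intro h1
    refine hωK (-(σ c)) ?_
    rw [map_neg]
    exact eq_neg_of_add_eq_zero_left h1
  obtain ⟨i, hi⟩ := exists_rot hω ht h1
  obtain ⟨h, hh, hhT⟩ := hTH (x ^ i) (H.pow_mem hx i)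
  refine ⟨h, hh, 1, one_ne_zero, ?_⟩
  rw [one_smul]
  apply hTb.1
  rw [← hhT, hTa, hTs, hw₀]
  apply e.injective
  rw [twoT_pow he, map_add, map_smul, he, h0, hi, mul_zero, mul_zero]
  refine Prod.ext rfl ?_
  change (0 : K) = 0 + σ c • (e (T v₀)).2
  rw [h0, smul_zero, add_zero]

theorem exists_ker (hL : finrank K L = 2) (e : V ≃ₗ[K] L × K) (ψ : V →ₗ[K] K) :
    ∃ a : L, a ≠ 0 ∧ ψ (e.symm (a, 0)) = 0 := by
  have hfinL : Module.Finite K L := Module.Finite.of_finite
  let χ : L →ₗ[K] K := ψ ∘ₗ (e.symm : L × K →ₗ[K] V) ∘ₗ LinearMap.inl K L K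
  have h1 : finrank K K < finrank K L := by rw [finrank_self]; omega
  obtain ⟨a, h4, h5⟩ := (Submodule.ne_bot_iff _).1 (LinearMap.ker_ne_bot_of_finrank_lt (f := χ) h1)
  exact ⟨a, h5, h4⟩

/-- `1, ω` span `L` -/
theorem exists_coord (hL : finrank K L = 2) (hωK : ∀ c : K, (ω : L) ≠ algebraMap K L c) (l : L) :
    ∃ p r : K, l = algebraMap K L p + algebraMap K L r * ω := by
  have hfinL : Module.Finite K L := Module.Finite.of_finite
  have hli : LinearIndependent K ![(1 : L), (ω : L)] := by
    rw [LinearIndependent.pair_iff]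
    intro s t hst
    have ht : t = 0 := by
      by_contra ht
      refine hωK (-(s / t)) ?_
      rw [Algebra.smul_def, Algebra.smul_def, mul_one] at hst
      have ht' : algebraMap K L t ≠ 0 := by rwa [Ne, map_eq_zero]
      apply mul_left_cancel₀ ht'
      rw [← map_mul, mul_neg, mul_div_cancel₀ _ ht, map_neg]
      exact eq_neg_of_add_eq_zero_right hst
    refine ⟨?_, ht⟩
    rw [ht, zero_smul, add_zero, Algebra.smul_def, mul_one, map_eq_zero] at hst
    exact hst
  have htop := hli.span_eq_top_of_card_eq_finrank' (by rw [hL]; rfl)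
  have hl : l ∈ Submodule.span K (Set.range ![(1 : L), (ω : L)]) := by rw [htop]; exact Submodule.mem_top
  rw [Matrix.range_cons, Matrix.range_cons, Matrix.range_empty, Set.union_empty, Set.singleton_union,
    Submodule.mem_span_pair] at hl
  obtain ⟨p, r, h⟩ := hl
  refine ⟨p, r, ?_⟩
  rw [← h, Algebra.smul_def, Algebra.smul_def, mul_one]

/-- **correlations** -/
theorem ptr_of_corr (hL : finrank K L = 2) (hx : x ∈ H) (hω : IsGen ω) (hωK : ∀ c : K, (ω : L) ≠ algebraMap K L c)
    (hv : e v₀ = (0, 1)) (he : ∀ v, e (x v) = ((ω : L) * (e v).1, (ν : K) * (e v).2)) {β : V → V → K} {σ : K ≃+* K}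
    (ha1 : ∀ u u' v, β (u + u') v = β u v + β u' v) (hs1 : ∀ (c : K) u v, β (c • u) v = c * β u v)
    (ha2 : ∀ u v v', β u (v + v') = β u v + β u v') (hs2 : ∀ (c : K) u v, β u (c • v) = σ c * β u v)
    (hnd : ∀ v, (∀ u, β u v = 0) → v = 0)
    (hβH : ∀ h' ∈ H, ∃ h ∈ H, ∀ u v, β (h' u) (h v) = β u v) (h0 : β v₀ v₀ = 0) :
    ∀ v w : V, v ≠ 0 → w ≠ 0 → ∃ h ∈ H, ∃ c : K, h v = c • w := by
  have hv0 : v₀ ≠ 0 := by
    rintro rfl
    rw [map_zero] at hv
    exact zero_ne_one (congrArg Prod.snd hv)
  -- the linear forms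
  let f1 : V → (V →ₗ[K] K) := fun v =>
    { toFun := fun u => β u v
      map_add' := fun u u' => ha1 u u' v
      map_smul' := fun c u => hs1 c u v }
  let f2 : V → (V →ₗ[K] K) := fun u =>
    { toFun := fun v => σ.symm (β u v)
      map_add' := fun v v' => by rw [ha2, map_add]
      map_smul' := fun c v => by
        rw [hs2, map_mul, RingEquiv.symm_apply_apply]
        rfl }
  have hxv : ∀ i : ℕ, (x ^ i) v₀ = ((ν ^ i : Kˣ) : K) • v₀ := by
    intro i
    apply e.injective
    rw [twoT_pow he, map_smul, hv]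
    refine Prod.ext ?_ rfl
    change ((ω ^ i : Lˣ) : L) * 0 = ((ν ^ i : Kˣ) : K) • (0 : L)
    rw [mul_zero, smul_zero]
  -- `w₀`
  obtain ⟨a, ha, hav⟩ := exists_ker hL e (f2 v₀)
  have hw0 : β v₀ (e.symm (a, 0)) = 0 := (map_eq_zero_iff σ.symm σ.symm.injective).1 hav
  refine ptr_of_line hx hω hv he (w₀ := e.symm (a, 0)) (by rwa [e.apply_symm_apply]) fun c => ?_
  obtain ⟨v, hvdef⟩ : ∃ v, v = e.symm (a, 0) + c • v₀ := ⟨_, rfl⟩
  rw [← hvdef]
  have hvv : β v₀ v = 0 := by rw [hvdef, ha2, hs2, hw0, h0, mul_zero, add_zero]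
  have hvne : v ≠ 0 := by
    intro h1
    rw [hvdef] at h1
    have h2 := congrArg (fun w => (e w).1) h1
    simp only [map_add, map_smul, e.apply_symm_apply, hv, map_zero] at h2
    change a + c • (0 : L) = 0 at h2
    rw [smul_zero, add_zero] at h2
    exact ha h2
  -- the points of the lines `C(v₀)`, `C(v)` on `ℓ`
  obtain ⟨b0, hb0, hb0v⟩ := exists_ker hL e (f1 v₀)
  obtain ⟨b, hb, hbv⟩ := exists_ker hL e (f1 v)
  change β (e.symm (b0, 0)) v₀ = 0 at hb0v
  change β (e.symm (b, 0)) v = 0 at hbv
  obtain ⟨i, hi⟩ := exists_rot hω hb0 hb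
  have hxu : (x ^ i) (e.symm (b0, 0)) = e.symm (b, 0) := by
    apply e.injective
    rw [twoT_pow he, e.apply_symm_apply, e.apply_symm_apply, hi, mul_zero]
  obtain ⟨h, hh, hhβ⟩ := hβH (x ^ i) (H.pow_mem hx i)
  have h1 : β (e.symm (b, 0)) (h v₀) = 0 := by rw [← hxu, hhβ, hb0v]
  have h2 : β v₀ (h v₀) = 0 := by
    have h3 := hhβ v₀ v₀
    rw [hxv, hs1, h0] at h3
    exact (mul_eq_zero.1 h3).resolve_left (Units.ne_zero _)
  -- a third vector
  have hspan : ∀ w : V, ∃ p r s : K, w = p • e.symm (b, 0) + r • e.symm ((ω : L) * b, 0) + s • v₀ := by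
    intro w
    obtain ⟨p, r, hpr⟩ := exists_coord hL hωK ((e w).1 / b)
    refine ⟨p, r, (e w).2, ?_⟩
    apply e.injective
    rw [map_add, map_add, map_smul, map_smul, map_smul, e.apply_symm_apply, e.apply_symm_apply, hv]
    refine Prod.ext ?_ ?_
    · change (e w).1 = p • b + r • ((ω : L) * b) + (e w).2 • (0 : L)
      rw [smul_zero, add_zero, Algebra.smul_def, Algebra.smul_def, ← mul_assoc, ← add_mul, ← hpr, div_mul_cancel₀ _ hb]
    · change (e w).2 = p • (0 : K) + r • (0 : K) + (e w).2 * 1
      rw [smul_zero, smul_zero, zero_add, zero_add, mul_one]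
  have hr : β (e.symm ((ω : L) * b, 0)) v ≠ 0 := by
    intro hr
    apply hvne
    refine hnd v fun u => ?_
    obtain ⟨p, r, s, hu⟩ := hspan u
    rw [hu, ha1, ha1, hs1, hs1, hs1, hbv, hr, hvv, mul_zero, mul_zero, mul_zero, add_zero, add_zero]
  obtain ⟨t, ht⟩ : ∃ t : K, t = σ.symm (β (e.symm ((ω : L) * b, 0)) (h v₀) / β (e.symm ((ω : L) * b, 0)) v) := ⟨_, rfl⟩
  have hfin : h v₀ = t • v := by
    rw [← sub_eq_zero]
    refine hnd _ fun u => ?_
    have hsub : ∀ u, β u (h v₀ - t • v) = β u (h v₀) - σ t * β u v := by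
      intro u
      have h3 := ha2 u (h v₀ - t • v) (t • v)
      rw [sub_add_cancel, hs2] at h3
      rw [h3, add_sub_cancel_right]
    obtain ⟨p, r, s, hu⟩ := hspan u
    rw [hu, ha1, ha1, hs1, hs1, hs1, hsub, hsub, hsub, h1, h2, hbv, hvv, ht, RingEquiv.apply_symm_apply,
      div_mul_cancel₀ _ hr]
    ring
  have ht0 : t ≠ 0 := by
    rintro rfl
    rw [zero_smul, LinearEquiv.map_eq_zero_iff] at hfin
    exact hv0 hfin
  exact ⟨h, hh, t, ht0, hfin⟩

/-- **absolute points** -/
theorem exists_abs (h4 : Nat.card K = 4) (hV : 2 ≤ finrank K V) {β : V → V → K} {σ : K ≃+* K}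
    (ha1 : ∀ u u' v, β (u + u') v = β u v + β u' v) (hs1 : ∀ (c : K) u v, β (c • u) v = c * β u v)
    (ha2 : ∀ u v v', β u (v + v') = β u v + β u v') (hs2 : ∀ (c : K) u v, β u (c • v) = σ c * β u v)
    (hrefl : ∀ u v, β u v = 0 → β v u = 0) : ∃ v, v ≠ 0 ∧ β v v = 0 := by
  classical
  have hfin : Module.Finite K V := Module.Finite.of_finite
  have : Fintype K := Fintype.ofFinite K
  have h4' : Fintype.card K = 4 := by rw [← Nat.card_eq_fintype_card, h4]
  have hnt : Nontrivial V := Module.nontrivial_of_finrank_pos (R := K) (by omega)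
  have h2 : (2 : K) = 0 := by
    have h5 : ((Fintype.card K : ℕ) : K) = 0 := Nat.cast_card_eq_zero K
    rw [h4'] at h5
    have h6 : (2 : K) * 2 = 0 := by
      rw [← h5]
      norm_num
    exact mul_self_eq_zero.1 h6
  obtain ⟨u, hu⟩ := exists_ne (0 : V)
  by_cases hb : β u u = 0
  · exact ⟨u, hu, hb⟩
  let f1 : V →ₗ[K] K :=
    { toFun := fun w => β w u
      map_add' := fun w w' => ha1 w w' u
      map_smul' := fun c w => hs1 c w u }
  obtain ⟨u1, h5, hu1⟩ := (Submodule.ne_bot_iff _).1 (LinearMap.ker_ne_bot_of_finrank_lt (f := f1) (by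
    rw [finrank_self]
    omega))
  have h6 : β u1 u = 0 := h5
  have h7 : β u u1 = 0 := hrefl _ _ h6
  by_cases hb1 : β u1 u1 = 0
  · exact ⟨u1, hu1, hb1⟩
  obtain ⟨c, hc⟩ : ∃ c : K, c = β u u / β u1 u1 := ⟨_, rfl⟩
  have hcb : c * β u1 u1 = β u u := by rw [hc, div_mul_cancel₀ _ hb1]
  have hc0 : c ≠ 0 := by rw [hc]; exact div_ne_zero hb hb1
  have hβ : ∀ p r : K, β (u + p • u1) (u + r • u1) = β u u + p * σ r * β u1 u1 := by
    intro p r
    rw [ha1, ha2, ha2, hs1, hs1, hs2, hs2, h6, h7]
    ring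
  have hss : ∀ z : K, z + z = 0 := fun z => by rw [← two_mul, h2, zero_mul]
  have hσc : σ c = c := by
    have h8 := hβ c 1
    rw [map_one, mul_one, hcb, hss] at h8
    have h9 := hrefl _ _ h8
    rw [hβ, one_mul, ← hcb, ← add_mul] at h9
    have h10 := (mul_eq_zero.1 h9).resolve_right hb1
    have h11 : c + c = c + σ c := by rw [hss, h10]
    exact (add_left_cancel h11).symm
  obtain ⟨d, hd⟩ : ∃ d : K, d * σ d = c := by
    by_cases hσ : ∀ z, σ z = z
    · have h8 : IsSquare c := by
        refine FiniteField.isSquare_of_char_two ?_ c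
        have : CharP K 2 := CharTwo.of_one_ne_zero_of_two_eq_zero one_ne_zero h2
        exact ringChar.eq K 2
      obtain ⟨d, hd⟩ := h8
      exact ⟨d, by rw [hσ, ← hd]⟩
    · refine ⟨1, ?_⟩
      rw [map_one, one_mul]
      by_contra hc1
      apply hσ
      have h8 : (Finset.univ : Finset K) = {0, 1, c, c + 1} := by
        symm
        apply Finset.eq_univ_of_card
        rw [h4', Finset.card_insert_of_notMem, Finset.card_insert_of_notMem, Finset.card_insert_of_notMem,
          Finset.card_singleton]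
        · rw [Finset.mem_singleton]
          intro h9
          exact one_ne_zero (left_eq_add.1 h9)
        · rw [Finset.mem_insert, Finset.mem_singleton, not_or]
          refine ⟨hc1, fun h9 => hc0 ?_⟩
          exact right_eq_add.1 h9
        · rw [Finset.mem_insert, Finset.mem_insert, Finset.mem_singleton, not_or, not_or]
          refine ⟨zero_ne_one, hc0.symm, fun h9 => hc1 ?_⟩
          have h10 : c + 1 = 1 + 1 := by rw [← h9, hss]
          exact (add_right_cancel h10).symm
      intro z
      have hz : z ∈ (Finset.univ : Finset K) := Finset.mem_univ z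
      rw [h8, Finset.mem_insert, Finset.mem_insert, Finset.mem_insert, Finset.mem_singleton] at hz
      rcases hz with rfl | rfl | rfl | rfl
      · exact map_zero σ
      · exact map_one σ
      · exact hσc
      · rw [map_add, map_one, hσc]
  refine ⟨u + d • u1, ?_, ?_⟩
  · intro h8
    apply hb
    have h9 : β (u + d • u1) u = β u u := by rw [ha1, hs1, h6, mul_zero, add_zero]
    rw [← h9, h8]
    have := hs1 0 0 u
    rwa [zero_smul, zero_mul] at this
  · rw [hβ, hd, hcb, hss]

end geo

section top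

variable {K : Type} [Field K] [Fintype K] {V : Type} [AddCommGroup V] [Module K V] [Finite V]
  {H : Subgroup (V ≃ₗ[K] V)} {L : Type} [Field L] [Algebra K L] [Finite L]

/-- a subgroup containing `x` and transitive on the points contains `SL_3(q)`, `q ≠ 2` -/
theorem top_of_trans (hn : finrank K V = 3) (hq2 : Nat.card K ≠ 2) {x : V ≃ₗ[K] V}
    (hx : x ∈ H) {ω : Lˣ} {ν : Kˣ} (hω : IsGen ω) (ht : TwoT L K x ω ν) (hT : PTr H) :
    ∀ g : V ≃ₗ[K] V, LinearMap.det (g : V →ₗ[K] V) = 1 → g ∈ H := by
  have hfin : Module.Finite K V := Module.Finite.of_finite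
  have hfinL : Module.Finite K L := Module.Finite.of_finite
  have hdim : finrank K V = finrank K L + 1 := by
    obtain ⟨e, -⟩ := ht
    rw [e.finrank_eq, Module.finrank_prod, finrank_self]
  have hL2 : finrank K L = 2 := by omega
  have hnt : Nontrivial V := Module.nontrivial_of_finrank_pos (R := K) (by omega)
  have hq1 : 2 ≤ Nat.card K := one_lt_q
  have hk1 : ∀ c : Kˣ, c ^ (Nat.card K - 1) = 1 := by
    intro c
    rw [← card_units_base]
    exact pow_card_eq_one'
  have hbig : ω ^ ((Nat.card K - 1) * 3) ≠ 1 := by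
    intro h1
    have h2 := hω.dvd_of_pow (K := K) h1
    rw [hL2] at h2
    obtain ⟨m, hm⟩ : ∃ m, Nat.card K = m + 1 := ⟨Nat.card K - 1, by omega⟩
    rw [hm, Nat.add_sub_cancel] at h2
    have h3 : (m + 1) ^ 2 - 1 = m * (m + 2) := by
      have : (m + 1) ^ 2 = m * (m + 2) + 1 := by ring
      omega
    rw [h3] at h2
    have h4 := Nat.le_of_dvd (by norm_num) (Nat.dvd_of_mul_dvd_mul_left (by omega) h2)
    omega
  rcases her_three hn hT with h | h | h | h
  · exact h
  · exfalso
    obtain ⟨b, hb2, hbn, hE⟩ := h.exists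
    rw [hn] at hbn
    have hb3 : b = 3 := by
      rcases (Nat.dvd_prime Nat.prime_three).1 hbn with h1 | h1
      · omega
      · exact h1
    subst hb3
    have h1 : 3 ∣ finrank K K := ext_dvd_pow hE hx ht (i := Nat.card K - 1) hbig (hk1 _)
    rw [finrank_self] at h1
    omega
  · exact absurd (symp_two h hx hω ht (by omega)) id
  · exfalso
    have h1 : TwoT L K (x ^ (Nat.card K - 1)) (ω ^ (Nat.card K - 1)) 1 := by
      have := ht.pow (Nat.card K - 1)
      rwa [hk1] at this
    obtain ⟨t, h2, h3⟩ := gam_two h (H.pow_mem hx _) h1 (fun h2 => hbig (by rw [pow_mul, h2, one_pow]))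
    rw [finrank_self, one_mul, hn] at h2
    rw [← h2, ← pow_mul] at h3
    exact hbig h3

end top

end Cfsg.Agent.H59.SprPsl
end

-- part: H855/Spr/Four
section
/-!
# Overgroups of an element of type `(3, 1)` in `GL_4(q)`, `q ≥ 3`

`over_k_four` : a subgroup of `GL(V)`, `dim V = 4`, `|K| ≥ 3`, containing an element of type `(3, 1)` contains `SL(V)`
or fixes a point or a hyperplane (for `dim V ≥ 5` this is `H184.Cov.over_k`).
-/

set_option autoImplicit false

namespace Cfsg.Agent.H855.Spr

open Module Cfsg.Agent.H184.Cov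

variable {K : Type} [Field K] [Fintype K] {V : Type} [AddCommGroup V] [Module K V] [Finite V]

/-- the exceptions for `(n, q) = (4, 3)` -/
def ThreeO (H : Subgroup (V ≃ₗ[K] V)) : Prop :=
  Fintype.card K = 3 ∧ (Nat.card H ∣ 32 * 120 ∨ ∃ N : Subgroup (V ≃ₗ[K] V), N ≤ H ∧
    (∀ h ∈ H, ∀ x ∈ N, h * x * h⁻¹ ∈ N) ∧ Nat.card N = 120)

theorem card_SL_five : Nat.card (Matrix.SpecialLinearGroup (Fin 2) (ZMod 5)) = 120 := by
  rw [Nat.card_eq_fintype_card]
  decide +kernel

variable {H : Subgroup (V ≃ₗ[K] V)}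

/-- **Hering's theorem for subgroups of `GL_4(q)`, `q ≥ 3`.** -/
theorem her_four (hn : finrank K V = 4) (hq : 3 ≤ Fintype.card K) (hT : PTr H) :
    (∀ g : V ≃ₗ[K] V, LinearMap.det (g : V →ₗ[K] V) = 1 → g ∈ H) ∨ ExtO H ∨ SympO H ∨ GamO H ∨ ThreeO H := by
  have hmain := Cfsg.Agent.H667.HerFin.action_of_main Cfsg.Agent.H50.Her.main Cfsg.Agent.H50.Her.altSix
    Cfsg.Agent.H50.Her.altSeven Cfsg.Agent.H50.Her.thirteen (K := K) (V := V) (Fintype.card K) (finrank K V) rfl rfl
    (by omega) (PH H) ?_ ?_ ?_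
  · rcases hmain with h | h | h
    · -- `ΓL₁`
      obtain ⟨F, iF, iF', e, hc, h⟩ := h
      refine Or.inr (Or.inr (Or.inr (Or.inl ⟨F, iF, iF', e, hc, fun h' hh => ?_⟩)))
      exact h (MulAction.toPermHom (V ≃ₗ[K] V) V h') ⟨h', hh, rfl⟩
    · obtain ⟨F, iF, iF', iM, φ, b, hφ, h2, hc, hb, hsem, hcase⟩ := h
      have hb0 : b ≠ 0 := by
        rintro rfl
        rw [mul_zero] at hb
        omega
      by_cases hb1 : b = 1
      · subst hb1
        rw [pow_one] at hc
        have hbij : Function.Bijective φ :=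
          (Fintype.bijective_iff_injective_and_card φ).2 ⟨φ.injective, hc.symm⟩
        let Φ : K ≃+* F := RingEquiv.ofBijective φ hbij
        have hΦ : ∀ (c : K) (v : V), c • v = Φ c • v := hφ
        have hΦ' : ∀ (c : F) (v : V), Φ.symm c • v = c • v := fun c v => by
          rw [hΦ, RingEquiv.apply_symm_apply]
        have hsymp : ∀ f : LinearMap.BilinForm F V, f.IsAlt → f.Nondegenerate →
            (∀ h ∈ PH H, ∀ σ : F ≃+* F, (∀ (c : F) (v : V), h (c • v) = σ c • h v) →
              ∃ μ : F, ∀ u v, f (h u) (h v) = μ * σ (f u v)) → SympO H := by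
          intro f ha hn' hs
          refine ⟨LinearMap.mk₂ K (fun u v => Φ.symm (f u v)) (fun u u' v => by simp only [_root_.map_add, _root_.LinearMap.add_apply]) (fun c u v => ?_)
            (fun u v v' => by simp only [_root_.map_add]) (fun c u v => ?_), fun v => ?_, fun u hu => ?_, fun h hh => ?_⟩
          · rw [hΦ, map_smul, LinearMap.smul_apply, smul_eq_mul, map_mul, RingEquiv.symm_apply_apply, smul_eq_mul]
          · rw [hΦ, map_smul, smul_eq_mul, map_mul, RingEquiv.symm_apply_apply, smul_eq_mul]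
          · rw [LinearMap.mk₂_apply, ha v, map_zero]
          · refine hn'.1 u fun v => ?_
            have := hu v
            rw [LinearMap.mk₂_apply] at this
            rwa [map_eq_zero_iff _ Φ.symm.injective] at this
          · obtain ⟨μ, hμ⟩ := hs (MulAction.toPermHom (V ≃ₗ[K] V) V h) ⟨h, hh, rfl⟩ (RingEquiv.refl F) (by
              intro c v
              change h (c • v) = c • h v
              rw [← hΦ', map_smul, hΦ'])
            refine ⟨Φ.symm μ, fun u v => ?_⟩
            rw [LinearMap.mk₂_apply, LinearMap.mk₂_apply, ← map_mul]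
            exact congrArg _ (hμ u v)
        rcases hcase with h1 | ⟨f, ha, hn', -, hs⟩ | ⟨-, -, -, f, ha, hn', hs, -⟩
        · left
          intro g hg
          have hlin : ∀ (c : F) (v : V), g (c • v) = c • g v := fun c v => by rw [← hΦ', map_smul, hΦ']
          let g' : V ≃ₗ[F] V := { g with map_smul' := hlin }
          obtain ⟨h, hh, e⟩ := h1 g' (by
            apply Units.ext
            rw [LinearEquiv.coe_det, det_transport Φ hΦ (g : V →ₗ[K] V) (g' : V →ₗ[F] V) (fun v => rfl), hg, map_one]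
            rfl)
          obtain ⟨g₁, hg₁, e'⟩ := mem_PH.1 hh
          have : g₁ = g := by
            ext v
            rw [← e', e]
            rfl
          rwa [← this]
        · exact Or.inr (Or.inr (Or.inl (hsymp f ha hn' hs)))
        · exact Or.inr (Or.inr (Or.inl (hsymp f ha hn' hs)))
      · refine Or.inr (Or.inl ⟨F, iF, iF', iM, φ, b, hφ, by omega, hc, ⟨_, by rw [mul_comm]; exact hb.symm⟩,
          fun h hh => ?_⟩)
        exact hsem (MulAction.toPermHom (V ≃ₗ[K] V) V h) ⟨h, hh, rfl⟩
    · rcases h with ⟨h, -⟩ | ⟨h, -⟩ | ⟨-, h, -⟩ | ⟨-, h, h3⟩ | ⟨h, -⟩ | ⟨h, -⟩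
      · omega
      · omega
      · omega
      · refine Or.inr (Or.inr (Or.inr (Or.inr ⟨h, ?_⟩)))
        rcases h3 with ⟨-, -, -, h4⟩ | ⟨N, hN, ⟨e⟩⟩
        · left
          rwa [card_PH] at h4
        · right
          refine ⟨(N.map (PH H).subtype).comap (MulAction.toPermHom (V ≃ₗ[K] V) V), ?_, ?_, ?_⟩
          · rintro x ⟨y, hy, hyx⟩
            obtain ⟨g, hg, e'⟩ := y.2
            have : g = x := toPerm_injective (e'.trans hyx)
            rwa [← this]
          · rintro h hh x ⟨y, hy, hyx⟩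
            let h' : PH H := ⟨MulAction.toPermHom (V ≃ₗ[K] V) V h, ⟨h, hh, rfl⟩⟩
            refine ⟨h' * y * h'⁻¹, hN.conj_mem y hy h', ?_⟩
            rw [map_mul, map_mul, map_inv, map_mul, map_mul, map_inv, hyx]
            rfl
          · rw [← card_SL_five, ← Nat.card_congr e.toEquiv]
            have h3 : N.map (PH H).subtype ≤ (MulAction.toPermHom (V ≃ₗ[K] V) V).range := by
              rintro _ ⟨y, -, rfl⟩
              obtain ⟨g, hg, e'⟩ := y.2
              exact ⟨g, e'⟩
            have h4 : ((N.map (PH H).subtype).comap (MulAction.toPermHom (V ≃ₗ[K] V) V)).map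
                (MulAction.toPermHom (V ≃ₗ[K] V) V) = N.map (PH H).subtype := by
              rw [Subgroup.map_comap_eq, inf_eq_right.2 h3]
            rw [Nat.card_congr (((N.map (PH H).subtype).comap (MulAction.toPermHom (V ≃ₗ[K] V) V)).equivMapOfInjective
              _ toPerm_injective).toEquiv, h4]
            exact (Nat.card_congr (N.equivMapOfInjective _ (PH H).subtype_injective).toEquiv).symm
      · omega
      · omega
  · intro h hh v w
    obtain ⟨g, hg, e⟩ := mem_PH.1 hh
    rw [e, e, e, map_add]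
  · intro h hh
    obtain ⟨g, hg, e⟩ := mem_PH.1 hh
    exact ⟨RingEquiv.refl K, fun c v => by rw [e, e, map_smul]; rfl⟩
  · intro v w hv hw
    obtain ⟨g, hg, c, e⟩ := hT v w hv hw
    exact ⟨MulAction.toPermHom (V ≃ₗ[K] V) V g, ⟨g, hg, rfl⟩, c, e⟩

variable {L : Type} [Field L] [Algebra K L] [Finite L]

/-- elements of order 3 commuting with an element of order 13 of `GL_4(3)` -/
theorem no_three (h3 : Fintype.card K = 3) (hL : finrank K L = 3) {x : V ≃ₗ[K] V} {ω : Lˣ} {ν : Kˣ}
    (hω : IsGen ω) (ht : TwoT L K x ω ν) {u : V ≃ₗ[K] V} (hu3 : u ^ 3 = 1)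
    (hux : u * x ^ 2 = x ^ 2 * u) : u = 1 := by
  have hfinL : Module.Finite K L := Module.Finite.of_finite
  have hK : Nat.card K = 3 := by rw [Nat.card_eq_fintype_card, h3]
  have ho : orderOf ω = 26 := by
    rw [hω.orderOf, card_units (K := K) (L := L), hL, hK]
    norm_num
  have hν : ν ^ 2 = 1 := by
    have h1 : ν ^ Nat.card Kˣ = 1 := pow_card_eq_one'
    rwa [card_units_base, hK] at h1
  have h13 : ((ω ^ 13 : Lˣ) : L) = -1 := by
    have h1 : ((ω ^ 13 : Lˣ) : L) * ((ω ^ 13 : Lˣ) : L) = 1 := by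
      rw [← Units.val_mul, ← pow_add, show 13 + 13 = orderOf ω by rw [ho], pow_orderOf_eq_one,
        Units.val_one]
    rcases mul_self_eq_one_iff.mp h1 with h2 | h2
    · exfalso
      have h4 : ω ^ 13 = 1 := Units.ext h2
      have h5 := orderOf_dvd_of_pow_eq_one h4
      rw [ho] at h5
      omega
    · exact h2
  obtain ⟨e, he⟩ := ht
  have hy : ∀ (i : ℕ) (v : V), e (((x ^ 2) ^ i) v) = (((ω ^ (2 * i) : Lˣ) : L) * (e v).1, (e v).2) := by
    intro i v
    rw [← pow_mul, twoT_pow he (2 * i) v, pow_mul ν, hν, one_pow, Units.val_one, one_mul]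
  have hy1 : ∀ v : V, e ((x ^ 2) v) = (((ω ^ 2 : Lˣ) : L) * (e v).1, (e v).2) := by
    intro v
    have := hy 1 v
    rwa [pow_one, mul_one] at this
  have hux' : ∀ v, u ((x ^ 2) v) = (x ^ 2) (u v) := fun v => LinearEquiv.congr_fun hux v
  have hω2 : ((ω ^ 2 : Lˣ) : L) - 1 ≠ 0 := by
    rw [sub_ne_zero]
    intro h1
    have h4 : ω ^ 2 = 1 := Units.ext h1
    have h5 := orderOf_dvd_of_pow_eq_one h4
    rw [ho] at h5
    omega
  -- the two eigenspaces
  have hLP : ∀ v, (e v).2 = 0 → (e (u v)).2 = 0 := by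
    intro v hv
    obtain ⟨w, hw⟩ := e.surjective ((((ω ^ 2 : Lˣ) : L) - 1)⁻¹ * (e v).1, 0)
    have h1 : v = (x ^ 2) w - w := by
      apply e.injective
      rw [map_sub, hy1, hw]
      apply Prod.ext
      · change (e v).1 = ((ω ^ 2 : Lˣ) : L) * ((((ω ^ 2 : Lˣ) : L) - 1)⁻¹ * (e v).1) -
          (((ω ^ 2 : Lˣ) : L) - 1)⁻¹ * (e v).1
        rw [← sub_one_mul, ← mul_assoc, mul_inv_cancel₀ hω2, one_mul]
      · change (e v).2 = 0 - 0
        rw [hv, sub_zero]
    rw [h1, map_sub, hux', map_sub, hy1]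
    change (e (u w)).2 - (e (u w)).2 = 0
    exact sub_self _
  have hKP : ∀ v, (e v).1 = 0 → (e (u v)).1 = 0 := by
    intro v hv
    have h1 : (x ^ 2) v = v := by
      apply e.injective
      rw [hy1, hv, mul_zero]
      exact Prod.ext hv.symm rfl
    have h2 := hux' v
    rw [h1] at h2
    have h4 : (e (u v)).1 = ((ω ^ 2 : Lˣ) : L) * (e (u v)).1 := by
      conv_lhs => rw [h2, hy1]
    have h5 : (((ω ^ 2 : Lˣ) : L) - 1) * (e (u v)).1 = 0 := by
      rw [sub_one_mul, ← h4, sub_self]
    exact (mul_eq_zero.mp h5).resolve_left hω2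
  -- a nonzero fixed vector of `L`
  obtain ⟨a, ha, ha0, hua⟩ : ∃ a, (e a).2 = 0 ∧ a ≠ 0 ∧ u a = a := by
    let W : Type := {v : V // (e v).2 = 0}
    let f : W → W := fun v => ⟨u v, hLP v v.2⟩
    have hf : ∀ v, f^[3] v = v := by
      intro v
      apply Subtype.ext
      change u (u (u (v : V))) = v
      exact LinearEquiv.congr_fun hu3 v
    have hc : Nat.card W = 27 := by
      have e1 : W ≃ L :=
        { toFun := fun v => (e v).1
          invFun := fun b => ⟨e.symm (b, 0), by rw [LinearEquiv.apply_symm_apply]⟩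
          left_inv := fun v => by
            apply Subtype.ext
            apply e.injective
            rw [LinearEquiv.apply_symm_apply]
            exact Prod.ext rfl v.2.symm
          right_inv := fun b => by
            change (e (e.symm (b, 0))).1 = b
            rw [LinearEquiv.apply_symm_apply] }
      rw [Nat.card_congr e1, card_field (K := K) (L := L), hL, hK]
      norm_num
    have hm := modEq_fix f (by norm_num : Nat.Prime 3) hf
    rw [hc] at hm
    have h0 : 0 < Nat.card {v // f v = v} := by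
      have : Nonempty {v // f v = v} := ⟨⟨⟨0, by rw [map_zero]; rfl⟩, Subtype.ext (map_zero u)⟩⟩
      exact Nat.card_pos
    have h1 : 1 < Nat.card {v // f v = v} := by
      have : Nat.card {v // f v = v} % 3 = 0 := hm
      omega
    obtain ⟨v, w, hvw⟩ := (Finite.one_lt_card_iff_nontrivial.mp h1).exists_pair_ne
    by_cases hv : ((v : W) : V) = 0
    · refine ⟨(w : W), (w : W).2, ?_, congrArg Subtype.val w.2⟩
      intro hw
      exact hvw (Subtype.ext (Subtype.ext (hv.trans hw.symm)))
    · exact ⟨(v : W), (v : W).2, hv, congrArg Subtype.val v.2⟩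
  have ha1 : (e a).1 ≠ 0 := by
    intro h1
    apply ha0
    rw [← LinearEquiv.map_eq_zero_iff e]
    exact Prod.ext h1 ha
  -- `u` is trivial on `L`
  have hpow : ∀ i : ℕ, u (((x ^ 2) ^ i) a) = ((x ^ 2) ^ i) a := by
    intro i
    induction i with
    | zero => exact hua
    | succ i ih =>
      rw [pow_succ']
      change u ((x ^ 2) (((x ^ 2) ^ i) a)) = (x ^ 2) (((x ^ 2) ^ i) a)
      rw [hux', ih]
  have huL : ∀ v, (e v).2 = 0 → u v = v := by
    intro v hv
    by_cases hv1 : (e v).1 = 0
    · have : v = 0 := by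
        rw [← LinearEquiv.map_eq_zero_iff e]
        exact Prod.ext hv1 hv
      rw [this, map_zero]
    obtain ⟨j, hj⟩ := hω.exists_pow (Units.mk0 _ hv1 * (Units.mk0 _ ha1)⁻¹)
    have hj' : ((ω ^ j : Lˣ) : L) * (e a).1 = (e v).1 := by
      rw [hj, Units.val_mul, Units.val_inv_eq_inv_val, Units.val_mk0, Units.val_mk0, mul_assoc,
        inv_mul_cancel₀ ha1, mul_one]
    rcases Nat.even_or_odd' j with ⟨i, rfl | rfl⟩
    · have h1 : v = ((x ^ 2) ^ i) a := by
        apply e.injective
        rw [hy, hj', ha]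
        exact Prod.ext rfl hv
      rw [h1, hpow]
    · have h1 : v = -(((x ^ 2) ^ (i + 7)) a) := by
        apply e.injective
        rw [map_neg, hy]
        apply Prod.ext
        · change (e v).1 = -(((ω ^ (2 * (i + 7)) : Lˣ) : L) * (e a).1)
          rw [← hj', show 2 * (i + 7) = (2 * i + 1) + 13 by ring, pow_add ω (2 * i + 1) 13,
            Units.val_mul, h13]
          ring
        · change (e v).2 = -(e a).2
          rw [hv, ha, neg_zero]
      rw [h1, map_neg, hpow]
  -- `u` is trivial on the line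
  have huK : ∀ v, (e v).1 = 0 → u v = v := by
    intro v hv
    by_cases hv0 : v = 0
    · rw [hv0, map_zero]
    have hv2 : (e v).2 ≠ 0 := by
      intro h1
      apply hv0
      rw [← LinearEquiv.map_eq_zero_iff e]
      exact Prod.ext hv h1
    obtain ⟨c, hc⟩ : ∃ c : K, u v = c • v := by
      refine ⟨(e (u v)).2 * ((e v).2)⁻¹, ?_⟩
      apply e.injective
      rw [map_smul]
      apply Prod.ext
      · rw [hKP v hv]
        change 0 = _ • (e v).1
        rw [hv, smul_zero]
      · change (e (u v)).2 = ((e (u v)).2 * ((e v).2)⁻¹) • (e v).2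
        rw [smul_eq_mul, mul_assoc, inv_mul_cancel₀ hv2, mul_one]
    have h1 : (c ^ 3) • v = v := by
      have h4 : u (u (u v)) = v := LinearEquiv.congr_fun hu3 v
      rw [hc, map_smul, hc, map_smul, map_smul, hc, smul_smul, smul_smul] at h4
      rw [show c ^ 3 = c * c * c by ring]
      exact h4
    have h4 : c ^ 3 = c := by
      have := FiniteField.pow_card c
      rwa [h3] at this
    rw [h4] at h1
    rw [hc, h1]
  apply LinearEquiv.ext
  intro v
  have h1 : v = e.symm ((e v).1, 0) + e.symm (0, (e v).2) := by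
    apply e.injective
    rw [map_add, LinearEquiv.apply_symm_apply, LinearEquiv.apply_symm_apply]
    exact Prod.ext (by change _ = _ + (0 : L); rw [add_zero]) (by change _ = (0 : K) + _; rw [zero_add])
  rw [h1, map_add, huL _ (by rw [LinearEquiv.apply_symm_apply]),
    huK _ (by rw [LinearEquiv.apply_symm_apply])]
  rfl

/-- the exceptions for `(n, q) = (4, 3)` do not occur -/
theorem three_kill (h : ThreeO H) (hL : finrank K L = 3) {x : V ≃ₗ[K] V} (hx : x ∈ H) {ω : Lˣ}
    {ν : Kˣ} (hω : IsGen ω) (ht : TwoT L K x ω ν) : False := by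
  obtain ⟨h3, h⟩ := h
  have hfinG : Finite (V ≃ₗ[K] V) := DFunLike.finite _
  have hK : Nat.card K = 3 := by rw [Nat.card_eq_fintype_card, h3]
  have ho : orderOf ω = 26 := by
    rw [hω.orderOf, card_units (K := K) (L := L), hL, hK]
    norm_num
  have h26 : (x ^ 2) ^ 13 = 1 := by
    rw [← pow_mul, ht.pow_eq_one_iff, show 2 * 13 = orderOf ω by rw [ho]]
    refine ⟨pow_orderOf_eq_one ω, ?_⟩
    have h1 : ν ^ Nat.card Kˣ = 1 := pow_card_eq_one'
    rw [card_units_base, hK] at h1
    rw [ho, show 26 = 2 * 13 by norm_num, pow_mul, h1, one_pow]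
  rcases h with h | ⟨N, hNH, hnor, hN⟩
  · have h1 : orderOf x ∣ 32 * 120 := by
      refine dvd_trans ?_ h
      rw [← Subgroup.orderOf_mk x hx]
      exact orderOf_dvd_natCard _
    have h2 : ω ^ orderOf x = 1 := (ht.pow_eq_one_iff.1 (pow_orderOf_eq_one x)).1
    have h4 := (orderOf_dvd_of_pow_eq_one h2).trans h1
    rw [ho] at h4
    omega
  · -- the centralizer of `y = x²` in `N`
    obtain ⟨y, hy⟩ : ∃ y, y = x ^ 2 := ⟨_, rfl⟩
    have hyH : y ∈ H := by rw [hy]; exact H.pow_mem hx 2
    let f : N → N := fun n => ⟨y * n * y⁻¹, hnor y hyH n n.2⟩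
    have hf : ∀ n, f^[13] n = n := by
      have h1 : ∀ (k : ℕ) (n : N), ((f^[k] n : N) : V ≃ₗ[K] V) = y ^ k * n * (y ^ k)⁻¹ := by
        intro k
        induction k with
        | zero => intro n; simp
        | succ k ih =>
          intro n
          rw [Function.iterate_succ_apply, ih]
          change y ^ k * (y * n * y⁻¹) * (y ^ k)⁻¹ = _
          rw [pow_succ]
          group
      intro n
      apply Subtype.ext
      rw [h1, hy, h26]
      group
    have hm := modEq_fix f (by norm_num : Nat.Prime 13) hf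
    rw [hN] at hm
    let C : Subgroup N := (Subgroup.centralizer {y}).subgroupOf N
    have hC : Nat.card {n // f n = n} = Nat.card C := by
      apply Nat.card_congr
      refine Equiv.subtypeEquivRight fun n => ?_
      rw [Subgroup.mem_subgroupOf, Subgroup.mem_centralizer_singleton_iff]
      constructor
      · intro h1
        have h2 : y * n * y⁻¹ = n := congrArg Subtype.val h1
        rw [mul_inv_eq_iff_eq_mul] at h2
        exact h2.symm
      · intro h1
        apply Subtype.ext
        change y * n * y⁻¹ = n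
        rw [mul_inv_eq_iff_eq_mul]
        exact h1.symm
    rw [hC] at hm
    have hd : Nat.card C ∣ 120 := hN ▸ C.card_subgroup_dvd_card
    have h3C : 3 ∣ Nat.card C := by
      have key : ∀ d ∈ Nat.divisors 120, d % 13 = 120 % 13 → 3 ∣ d := by decide
      exact key _ (Nat.mem_divisors.mpr ⟨hd, by norm_num⟩) hm
    have : Fact (Nat.Prime 3) := ⟨by norm_num⟩
    obtain ⟨u, hu⟩ := exists_prime_orderOf_dvd_card' 3 h3C
    have hu3 : ((u : N) : V ≃ₗ[K] V) ^ 3 = 1 := by
      have h1 : u ^ 3 = 1 := by rw [← hu]; exact pow_orderOf_eq_one u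
      have h2 := congrArg (fun z : C => ((z : N) : V ≃ₗ[K] V)) h1
      simpa only [_root_.SubmonoidClass.coe_pow, _root_.OneMemClass.coe_one] using h2
    have huy : ((u : N) : V ≃ₗ[K] V) * y = y * (u : N) :=
      Subgroup.mem_centralizer_singleton_iff.mp (Subgroup.mem_subgroupOf.mp u.2)
    rw [hy] at huy
    have h1 := no_three h3 hL hω ht hu3 huy
    have h2 : u = 1 := Subtype.ext (Subtype.ext h1)
    rw [h2, orderOf_one] at hu
    omega

/-- **Overgroups of an element of type `(3, 1)` in `GL_4(q)`, `q ≥ 3`.** -/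
theorem over_k_four (hn : finrank K V = 4) (hq : 3 ≤ Fintype.card K) {x : V ≃ₗ[K] V} (hx : x ∈ H)
    {ω : Lˣ} {ν : Kˣ} (hω : IsGen ω) (ht : TwoT L K x ω ν) :
    (∀ g : V ≃ₗ[K] V, LinearMap.det (g : V →ₗ[K] V) = 1 → g ∈ H) ∨ Red H := by
  have hfin : Module.Finite K V := Module.Finite.of_finite
  have hfinL : Module.Finite K L := Module.Finite.of_finite
  have hdim : finrank K V = finrank K L + 1 := by
    obtain ⟨e, -⟩ := ht
    rw [e.finrank_eq, Module.finrank_prod, finrank_self]
  have hnt : Nontrivial V := Module.nontrivial_of_finrank_pos (R := K) (by omega)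
  have hq1 : 2 ≤ Nat.card K := one_lt_q
  have hk1 : ∀ c : Kˣ, c ^ (Nat.card K - 1) = 1 := by
    intro c
    rw [← card_units_base]
    exact pow_card_eq_one'
  rcases kside hx hω ht (by omega) with h | h | h
  rotate_left
  · exact Or.inr (Or.inl h)
  · exact Or.inr (Or.inr h)
  rcases her_four hn hq h with h | h | h | h | h
  · exact Or.inl h
  · exfalso
    obtain ⟨b, hb2, hbn, hE⟩ := h.exists
    have h1 : b ∣ finrank K K := by
      refine ext_dvd_pow hE hx ht (i := Nat.card K - 1) (fun h1 => ?_) (hk1 ν)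
      have h2 := hω.dvd_of_pow (K := K) h1
      exact num_gam_one hq1 (by omega) (by omega) (by rw [← hdim]; exact Nat.le_of_dvd (by omega) hbn) h2
    rw [finrank_self] at h1
    have := Nat.le_of_dvd one_pos h1
    omega
  · exact absurd (symp_two h hx hω ht (by omega)) id
  · exfalso
    have h1 : TwoT L K (x ^ (Nat.card K - 1)) (ω ^ (Nat.card K - 1)) 1 := by
      have := ht.pow (Nat.card K - 1)
      rwa [hk1] at this
    obtain ⟨t, h2, h3⟩ := gam_two h (H.pow_mem hx _) h1 (fun h2 => by
      have h3 := hω.dvd_of_pow (K := K) h2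
      exact num_gam_one (t := 1) hq1 (k := finrank K L) (by omega) (by omega) (by omega) (by rwa [mul_one]))
    rw [finrank_self, one_mul] at h2
    rw [← pow_mul] at h3
    exact num_gam_one hq1 (by omega) (by omega) (by omega) (hω.dvd_of_pow (K := K) h3)
  · exact (three_kill h (by omega) hx hω ht).elim

end Cfsg.Agent.H855.Spr
end

-- part: H59/Spr/LThreeFour
section
/-!
# 3/2-generation of `L_3(4)` and the rows `PSL_n(q)` (helper59)

`spr_psl_three_four` : `L_3(4)`: for a collineation `a` take `P` with `a P ≠ P` and `ℓ` through `a P`; if `a² ≠ 1` replace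
`a` by `a²`; a correlation with `a² = 1` has an absolute point `P`.
`spr_psl` : the row `PSL_n(q)` of S3938.
-/

set_option autoImplicit false
set_option linter.unusedSectionVars false

namespace Cfsg.Agent.H59.SprPsl

open Module Cfsg.Agent.H184.Cov Matrix
open Cfsg.Agent.ClassicalGeometry.AutPSL.Root Cfsg.Agent.ClassicalGeometry.AutPSL.Auto
  Cfsg.Agent.ClassicalGeometry.AutPSL.Main Cfsg.Agent.Schreier.ClassPSL

section

variable {K : Type} [Field K] [Fintype K]

/-- the linear map -/
abbrev rl : Matrix.SpecialLinearGroup (Fin 3) K →* ((Fin 3 → K) ≃ₗ[K] (Fin 3 → K)) :=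
  Matrix.SpecialLinearGroup.toLin'

theorem rl_apply (g : Matrix.SpecialLinearGroup (Fin 3) K) (v : Fin 3 → K) :
    rl g v = (g : Matrix (Fin 3) (Fin 3) K) *ᵥ v := rfl

/-- the key statement for an automorphism `α` of `SL_3(q)`, a point and a line -/
def Key (α : MulAut (Matrix.SpecialLinearGroup (Fin 3) K)) (φ : (Fin 3 → K) →ₗ[K] K) (v₀ : Fin 3 → K) : Prop :=
  ∀ (L : Type) [Field L] [Algebra K L] [Finite L] (e : (Fin 3 → K) ≃ₗ[K] L × K) (x : (Fin 3 → K) ≃ₗ[K] (Fin 3 → K))
    (ω : Lˣ), finrank K L = 2 → IsGen ω → (∀ c : K, (ω : L) ≠ algebraMap K L c) → e v₀ = (0, 1) →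
    (∀ v, (e v).2 = φ v) → (∀ v, e (x v) = ((ω : L) * (e v).1, (((nm ω)⁻¹ : Kˣ) : K) * (e v).2)) →
    ∀ H : Subgroup (Matrix.SpecialLinearGroup (Fin 3) K), x ∈ H.map rl → (∀ h' ∈ H, ∃ h ∈ H, α h = h') →
      PTr (H.map rl)

theorem exists_of_key (hq2 : Nat.card K ≠ 2) {α : MulAut (Matrix.SpecialLinearGroup (Fin 3) K)}
    {φ : (Fin 3 → K) →ₗ[K] K} {v₀ : Fin 3 → K} (hφ : φ v₀ = 1) (key : Key α φ v₀) :
    ∃ x : Matrix.ProjectiveSpecialLinearGroup (Fin 3) K,
      ∀ Y : Subgroup (Matrix.ProjectiveSpecialLinearGroup (Fin 3) K), x ∈ Y → (∀ k ∈ Y, lift α k ∈ Y) → Y = ⊤ := by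
  have hdim : finrank K (Fin 3 → K) = 3 := by simp
  have hq : 2 ≤ Nat.card K := one_lt_q
  obtain ⟨L, i1, i1', i1'', hL⟩ := exists_ext K (k := 2) (by omega)
  obtain ⟨ω, hω⟩ := exists_gen (L := L)
  have hωK : ∀ c : K, (ω : L) ≠ algebraMap K L c := by
    intro c hc
    have h4 := hω.base_pow (i := 1) (c := c) (by rwa [pow_one])
    rw [one_mul] at h4
    have h5 := Nat.le_of_dvd (by omega) h4
    have h6 : Nat.card K ^ 1 < Nat.card K ^ finrank K L := Nat.pow_lt_pow_right (by omega) (by omega)
    rw [pow_one] at h6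
    omega
  obtain ⟨e, x, hev, he2, he, hx⟩ := exists_elt (L := L) hφ (by rw [hdim, hL]) ω
  obtain ⟨x₀, hx₀⟩ := exists_sl hx
  refine ⟨pr x₀, fun Y hxY hY => ?_⟩
  let H : Subgroup (Matrix.SpecialLinearGroup (Fin 3) K) := Y.comap pr
  have hxH : x ∈ H.map rl := ⟨x₀, hxY, hx₀⟩
  have hα : ∀ h ∈ H, α h ∈ H := by
    intro h hh
    change pr (α h) ∈ Y
    rw [← lift_pr]
    exact hY _ hh
  have hα' : ∀ h' ∈ H, ∃ h ∈ H, α h = h' := by
    have h1 : H.map (α : Matrix.SpecialLinearGroup (Fin 3) K →* Matrix.SpecialLinearGroup (Fin 3) K) = H := by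
      apply Subgroup.eq_of_le_of_card_ge
      · rintro _ ⟨h, hh, rfl⟩
        exact hα h hh
      · rw [Nat.card_congr (H.equivMapOfInjective
          (α : Matrix.SpecialLinearGroup (Fin 3) K →* Matrix.SpecialLinearGroup (Fin 3) K) α.injective).toEquiv]
    intro h' hh'
    rw [← h1] at hh'
    obtain ⟨h, hh, e1⟩ := hh'
    exact ⟨h, hh, e1⟩
  have hT := key L e x ω hL hω hωK hev he2 he H hxH hα'
  have htop := top_of_trans hdim hq2 hxH hω ⟨e, he⟩ hT
  have hH : ∀ y : Matrix.SpecialLinearGroup (Fin 3) K, y ∈ H := by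
    intro y
    obtain ⟨z, hz, hzy⟩ := htop (rl y) (by
      have h1 : ((rl y : (Fin 3 → K) ≃ₗ[K] (Fin 3 → K)) : (Fin 3 → K) →ₗ[K] (Fin 3 → K)) =
          Matrix.toLin' (y : Matrix (Fin 3) (Fin 3) K) := Matrix.SpecialLinearGroup.toLin'_to_linearMap y
      rw [h1, LinearMap.det_toLin', Matrix.SpecialLinearGroup.det_coe])
    have h2 : z = y := Matrix.SpecialLinearGroup.toLin'_injective hzy
    rwa [← h2]
  rw [Subgroup.eq_top_iff']
  intro y
  obtain ⟨y, rfl⟩ := pr_surjective y
  exact hH y

/-- the semilinear map -/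
def sT (A : GL (Fin 3) K) (σ : K ≃+* K) (v : Fin 3 → K) : Fin 3 → K :=
  (A : Matrix (Fin 3) (Fin 3) K) *ᵥ (fun i => σ (v i))

theorem sT_add (A : GL (Fin 3) K) (σ : K ≃+* K) (u v : Fin 3 → K) : sT A σ (u + v) = sT A σ u + sT A σ v := by
  rw [sT, sT, sT, ← Matrix.mulVec_add]
  congr 1
  ext i
  exact map_add σ _ _

theorem sT_smul (A : GL (Fin 3) K) (σ : K ≃+* K) (c : K) (v : Fin 3 → K) : sT A σ (c • v) = σ c • sT A σ v := by
  rw [sT, sT, ← Matrix.mulVec_smul]
  congr 1
  ext i
  exact map_mul σ _ _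

theorem inv_mul_cancel_mulVec (A : GL (Fin 3) K) (v : Fin 3 → K) :
    ((A⁻¹ : GL (Fin 3) K) : Matrix (Fin 3) (Fin 3) K) *ᵥ ((A : Matrix (Fin 3) (Fin 3) K) *ᵥ v) = v := by
  rw [mulVec_mulVec, ← Units.val_mul, inv_mul_cancel, Units.val_one, one_mulVec]

theorem sT_bij (A : GL (Fin 3) K) (σ : K ≃+* K) : Function.Bijective (sT A σ) := by
  have h1 : Function.Injective (sT A σ) := by
    intro u v h
    rw [sT, sT] at h
    have h2 := congrArg (fun w => ((A⁻¹ : GL (Fin 3) K) : Matrix (Fin 3) (Fin 3) K) *ᵥ w) h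
    simp only [inv_mul_cancel_mulVec] at h2
    ext i
    exact σ.injective (congrFun h2 i)
  exact ⟨h1, Finite.surjective_of_injective h1⟩

theorem map_mulVec' (σ : K ≃+* K) (g : Matrix.SpecialLinearGroup (Fin 3) K) (v : Fin 3 → K) :
    (fun i => σ (((g : Matrix (Fin 3) (Fin 3) K) *ᵥ v) i)) =
      (fld σ g : Matrix (Fin 3) (Fin 3) K) *ᵥ (fun i => σ (v i)) := by
  ext i
  simp only [mulVec, dotProduct, map_sum, map_mul, coe_fld_apply]

theorem sT_mul (A : GL (Fin 3) K) (σ : K ≃+* K) (g : Matrix.SpecialLinearGroup (Fin 3) K) (v : Fin 3 → K) :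
    rl ((cj A * fld σ : MulAut (Matrix.SpecialLinearGroup (Fin 3) K)) g) (sT A σ v) = sT A σ (rl g v) := by
  rw [rl_apply, rl_apply, sT, sT, map_mulVec', MulAut.mul_apply, coe_cj, ← mulVec_mulVec, ← mulVec_mulVec,
    inv_mul_cancel_mulVec]

/-- collineations -/
theorem key_coll {A : GL (Fin 3) K} {σ : K ≃+* K} {φ : (Fin 3 → K) →ₗ[K] K} {v₀ : Fin 3 → K}
    (h0 : φ (sT A σ v₀) = 0) : Key (cj A * fld σ) φ v₀ := by
  intro L _ _ _ e x ω hL hω hωK hev he2 he H hxH hα
  refine ptr_of_coll (T := sT A σ) (σ := σ) hxH hω hωK hev he (sT_add A σ) (sT_smul A σ) (sT_bij A σ) ?_ (by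
    rw [he2, h0])
  rintro _ ⟨h', hh', rfl⟩
  obtain ⟨h, hh, rfl⟩ := hα h' hh'
  exact ⟨rl h, ⟨h, hh, rfl⟩, sT_mul A σ h⟩

/-- the sesquilinear form of a correlation -/
def sB (A : GL (Fin 3) K) (σ : K ≃+* K) (u v : Fin 3 → K) : K :=
  (((A⁻¹ : GL (Fin 3) K) : Matrix (Fin 3) (Fin 3) K) *ᵥ u) ⬝ᵥ (fun i => σ (v i))

theorem sB_add_left (A : GL (Fin 3) K) (σ : K ≃+* K) (u u' v : Fin 3 → K) :
    sB A σ (u + u') v = sB A σ u v + sB A σ u' v := by
  rw [sB, sB, sB, mulVec_add, add_dotProduct]

theorem sB_smul_left (A : GL (Fin 3) K) (σ : K ≃+* K) (c : K) (u v : Fin 3 → K) :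
    sB A σ (c • u) v = c * sB A σ u v := by
  rw [sB, sB, mulVec_smul, smul_dotProduct, smul_eq_mul]

theorem sB_add_right (A : GL (Fin 3) K) (σ : K ≃+* K) (u v v' : Fin 3 → K) :
    sB A σ u (v + v') = sB A σ u v + sB A σ u v' := by
  rw [sB, sB, sB, ← dotProduct_add]
  congr 1
  ext i
  exact map_add σ _ _

theorem sB_smul_right (A : GL (Fin 3) K) (σ : K ≃+* K) (c : K) (u v : Fin 3 → K) :
    sB A σ u (c • v) = σ c * sB A σ u v := by
  rw [sB, sB, ← smul_eq_mul, ← dotProduct_smul]
  congr 1
  ext i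
  exact map_mul σ _ _

theorem sB_nd (A : GL (Fin 3) K) (σ : K ≃+* K) (v : Fin 3 → K) (h : ∀ u, sB A σ u v = 0) : v = 0 := by
  have h1 : ∀ w : Fin 3 → K, w ⬝ᵥ (fun i => σ (v i)) = 0 := by
    intro w
    have h2 := h ((A : Matrix (Fin 3) (Fin 3) K) *ᵥ w)
    rwa [sB, inv_mul_cancel_mulVec] at h2
  ext i
  apply σ.injective
  have h2 := h1 (Pi.single i 1)
  rw [single_dotProduct, one_mul] at h2
  rw [h2]
  exact (map_zero σ).symm

theorem sB_mul (A : GL (Fin 3) K) (σ : K ≃+* K) (g : Matrix.SpecialLinearGroup (Fin 3) K) (u v : Fin 3 → K) :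
    sB A σ (rl ((cj A * fld σ * itr : MulAut (Matrix.SpecialLinearGroup (Fin 3) K)) g) u) (rl g v) = sB A σ u v := by
  rw [rl_apply, rl_apply, sB, sB, map_mulVec', MulAut.mul_apply, MulAut.mul_apply, coe_cj, ← mulVec_mulVec,
    ← mulVec_mulVec, inv_mul_cancel_mulVec, dotProduct_mulVec, ← mulVec_transpose, mulVec_mulVec]
  congr 1
  have h1 : ((fld σ g : Matrix.SpecialLinearGroup (Fin 3) K) : Matrix (Fin 3) (Fin 3) K)ᵀ *
      ((fld σ (itr g) : Matrix.SpecialLinearGroup (Fin 3) K) : Matrix (Fin 3) (Fin 3) K) = 1 := by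
    have h2 : itr (fld σ g) = fld σ (itr g) := DFunLike.congr_fun (itr_mul_fld σ) g
    rw [← h2, coe_itr, ← transpose_mul, ← Matrix.SpecialLinearGroup.coe_mul, inv_mul_cancel,
      Matrix.SpecialLinearGroup.coe_one, transpose_one]
  rw [h1, one_mulVec]

/-- correlations -/
theorem key_corr {A : GL (Fin 3) K} {σ : K ≃+* K} {φ : (Fin 3 → K) →ₗ[K] K} {v₀ : Fin 3 → K}
    (h0 : sB A σ v₀ v₀ = 0) : Key (cj A * fld σ * itr) φ v₀ := by
  intro L _ _ _ e x ω hL hω hωK hev he2 he H hxH hα
  refine ptr_of_corr (β := sB A σ) (σ := σ) hL hxH hω hωK hev he (sB_add_left A σ) (sB_smul_left A σ)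
    (sB_add_right A σ) (sB_smul_right A σ) (sB_nd A σ) ?_ h0
  rintro _ ⟨h', hh', rfl⟩
  obtain ⟨h, hh, rfl⟩ := hα h' hh'
  exact ⟨rl h, ⟨h, hh, rfl⟩, sB_mul A σ h⟩

theorem exists_form_of_ne {v w : Fin 3 → K} (h : ∀ c : K, v ≠ c • w) : ∃ φ : (Fin 3 → K) →ₗ[K] K, φ v = 1 ∧ φ w = 0 := by
  have h1 : v ∉ Submodule.span K {w} := by
    rw [Submodule.mem_span_singleton]
    rintro ⟨c, hc⟩
    exact h c hc.symm
  obtain ⟨f, hf, hfw⟩ := Submodule.exists_le_ker_of_notMem h1
  refine ⟨(f v)⁻¹ • f, ?_, ?_⟩
  · rw [LinearMap.smul_apply, smul_eq_mul, inv_mul_cancel₀ hf]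
  · have h2 : f w = 0 := hfw (Submodule.mem_span_singleton_self w)
    rw [LinearMap.smul_apply, h2, smul_zero]

/-- a collineation fixing all points is trivial -/
theorem trivial_of_fix {A : GL (Fin 3) K} {σ : K ≃+* K} (h : ∀ v, ∃ c : K, sT A σ v = c • v) :
    lift (cj A * fld σ) = 1 := by
  -- `A` is scalar
  have h1 : ∀ i : Fin 3, ∃ c : K, (A : Matrix (Fin 3) (Fin 3) K) *ᵥ Pi.single i 1 = c • Pi.single i 1 := by
    intro i
    obtain ⟨c, hc⟩ := h (Pi.single i 1)
    refine ⟨c, ?_⟩
    rw [← hc, sT]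
    congr 1
    ext j
    by_cases hj : j = i
    · subst hj
      rw [Pi.single_eq_same, map_one]
    · rw [Pi.single_eq_of_ne hj, map_zero]
  choose c hc using h1
  have h2 : ∀ (i j : Fin 3) (t : K), i ≠ j → c j * σ t = c i * t := by
    intro i j t hij
    obtain ⟨d, hd⟩ := h (Pi.single i 1 + t • Pi.single j 1)
    rw [sT_add, sT_smul] at hd
    have h3 : ∀ i : Fin 3, sT A σ (Pi.single i 1) = c i • Pi.single i 1 := by
      intro i
      rw [← hc, sT]
      congr 1
      ext j
      by_cases hj : j = i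
      · subst hj
        rw [Pi.single_eq_same, map_one]
      · rw [Pi.single_eq_of_ne hj, map_zero]
    rw [h3, h3] at hd
    have h4 := congrFun hd i
    have h5 := congrFun hd j
    simp only [Pi.add_apply, Pi.smul_apply, Pi.single_eq_same, Pi.single_eq_of_ne hij, Pi.single_eq_of_ne hij.symm,
      smul_eq_mul, mul_one, mul_zero, add_zero, zero_add] at h4 h5
    rw [h4, ← h5]
    ring
  have hcc : ∀ i j : Fin 3, c i = c j := by
    intro i j
    by_cases hij : i = j
    · rw [hij]
    · have := h2 i j 1 hij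
      rw [map_one, mul_one, mul_one] at this
      exact this.symm
  have hc0 : c 0 ≠ 0 := by
    intro h0
    have h3 := congrArg (fun w => ((A⁻¹ : GL (Fin 3) K) : Matrix (Fin 3) (Fin 3) K) *ᵥ w) (hc 0)
    simp only [inv_mul_cancel_mulVec, h0, zero_smul, mulVec_zero] at h3
    have h4 := congrFun h3 0
    rw [Pi.single_eq_same] at h4
    exact one_ne_zero h4
  have hσ : σ = 1 := by
    apply RingEquiv.ext
    intro t
    have h3 := h2 0 1 t (by decide)
    rw [hcc 1 0] at h3
    exact mul_left_cancel₀ hc0 h3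
  have hA : scalar (Fin 3) (c 0) = (A : Matrix (Fin 3) (Fin 3) K) := by
    ext i j
    have h3 := congrFun (hc j) i
    rw [mulVec_single_one] at h3
    change (A : Matrix (Fin 3) (Fin 3) K) i j = _ at h3
    rw [h3, scalar_apply, diagonal_apply, hcc j 0, Pi.smul_apply, smul_eq_mul]
    by_cases hij : i = j
    · rw [if_pos hij, hij, Pi.single_eq_same, mul_one]
    · rw [if_neg hij, Pi.single_eq_of_ne hij, mul_zero]
  rw [cj_eq_one_of_scalar hA, hσ, map_one fld, mul_one, map_one]

/-- collineations -/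
theorem spr_coll (hq2 : Nat.card K ≠ 2) {A : GL (Fin 3) K} {σ : K ≃+* K} (h : lift (cj A * fld σ) ≠ 1) :
    ∃ x : Matrix.ProjectiveSpecialLinearGroup (Fin 3) K,
      ∀ Y : Subgroup (Matrix.ProjectiveSpecialLinearGroup (Fin 3) K), x ∈ Y →
        (∀ k ∈ Y, lift (cj A * fld σ) k ∈ Y) → Y = ⊤ := by
  obtain ⟨v₀, hv₀⟩ : ∃ v, ∀ c : K, sT A σ v ≠ c • v := by
    by_contra hcon
    push Not at hcon
    exact h (trivial_of_fix hcon)
  have h1 : ∀ c : K, v₀ ≠ c • sT A σ v₀ := by
    intro c hc
    by_cases h0 : c = 0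
    · rw [h0, zero_smul] at hc
      apply hv₀ 0
      rw [hc, zero_smul]
      have := sT_smul A σ 0 0
      rwa [zero_smul, map_zero, zero_smul] at this
    · apply hv₀ c⁻¹
      rw [eq_inv_smul_iff₀ h0, ← hc]
  obtain ⟨φ, hφ, hφ0⟩ := exists_form_of_ne h1
  exact exists_of_key hq2 hφ (key_coll hφ0)

theorem exists_phi {v₀ : Fin 3 → K} (h : v₀ ≠ 0) : ∃ φ : (Fin 3 → K) →ₗ[K] K, φ v₀ = 1 := by
  obtain ⟨φ, h1, -⟩ := exists_form_of_ne (v := v₀) (w := 0) (fun c => by rwa [smul_zero])
  exact ⟨φ, h1⟩

/-- **`L_3(4)`** -/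
theorem spr_psl_three_four (h4 : Nat.card K = 4) :
    Cfsg.Agent.H424.Spr.Spr (Matrix.ProjectiveSpecialLinearGroup (Fin 3) K) := by
  intro a ha
  have hq2 : Nat.card K ≠ 2 := by omega
  obtain ⟨r, hr⟩ := CharP.exists K
  have : Fact r.Prime := ⟨CharP.char_is_prime K r⟩
  rcases surj_three r le_rfl a with ⟨A, σ, h⟩ | ⟨A, σ, h⟩
  · rw [h] at ha ⊢
    exact spr_coll hq2 ha
  · -- `a²`
    have hsq : a * a = lift (cj (A * Matrix.GeneralLinearGroup.map (σ : K →+* K) (ctr A)) * fld (σ * σ)) := by
      rw [h, ← map_mul lift]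
      congr 1
      calc cj A * fld σ * itr * (cj A * fld σ * itr)
          = cj A * fld σ * (itr * cj A) * fld σ * itr := by simp only [mul_assoc]
        _ = cj A * fld σ * cj (ctr A) * (itr * fld σ) * itr := by rw [itr_mul_cj]; simp only [mul_assoc]
        _ = cj A * fld σ * cj (ctr A) * fld σ * (itr * itr) := by rw [itr_mul_fld]; simp only [mul_assoc]
        _ = cj A * (fld σ * cj (ctr A)) * fld σ := by rw [itr_mul_itr, mul_one]; simp only [mul_assoc]
        _ = cj (A * Matrix.GeneralLinearGroup.map (σ : K →+* K) (ctr A)) * fld (σ * σ) := by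
            rw [fld_mul_cj, map_mul cj, map_mul fld]; simp only [mul_assoc]
    by_cases h2 : a * a = 1
    · rw [hsq] at h2
      rw [← map_one lift, ← map_one (fld (ι := Fin 3) (F := K))] at h2
      obtain ⟨⟨s, hs⟩, hσ⟩ := injective_aux h2
      have hσ' : ∀ z, σ (σ z) = z := fun z => RingEquiv.congr_fun hσ z
      -- `σ(A⁻¹)ᵀ = s A⁻¹`
      have hs' : ((Matrix.GeneralLinearGroup.map (σ : K →+* K) (ctr A) : GL (Fin 3) K) : Matrix (Fin 3) (Fin 3) K) =
          s • ((A⁻¹ : GL (Fin 3) K) : Matrix (Fin 3) (Fin 3) K) := by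
        rw [Units.val_mul] at hs
        have h3 : ((A⁻¹ : GL (Fin 3) K) : Matrix (Fin 3) (Fin 3) K) * ((A : Matrix (Fin 3) (Fin 3) K) *
            ((Matrix.GeneralLinearGroup.map (σ : K →+* K) (ctr A) : GL (Fin 3) K) : Matrix (Fin 3) (Fin 3) K)) =
            ((Matrix.GeneralLinearGroup.map (σ : K →+* K) (ctr A) : GL (Fin 3) K) : Matrix (Fin 3) (Fin 3) K) := by
          rw [← mul_assoc, ← Units.val_mul, inv_mul_cancel, Units.val_one, one_mul]
        rw [← h3, ← hs, scalar_apply, ← smul_one_eq_diagonal, mul_smul_comm, mul_one]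
      have hs0 : s ≠ 0 := by
        rintro rfl
        rw [zero_smul] at hs'
        have h5 : (1 : Matrix (Fin 3) (Fin 3) K) = 0 := by
          rw [← (Matrix.GeneralLinearGroup.map (σ : K →+* K) (ctr A)).mul_inv, hs', zero_mul]
        have h6 := congrFun (congrFun h5 0) 0
        rw [Matrix.one_apply_eq] at h6
        exact one_ne_zero h6
      have hrefl : ∀ u v, sB A σ u v = 0 → sB A σ v u = 0 := by
        intro u v huv
        have h3 : σ (sB A σ u v) = s * sB A σ v u := by
          have h5 : σ (sB A σ u v) = (fun i => σ (u i)) ⬝ᵥ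
              (((Matrix.GeneralLinearGroup.map (σ : K →+* K) (ctr A) : GL (Fin 3) K) : Matrix (Fin 3) (Fin 3) K) *ᵥ v)
              := by
            have h6 : σ (sB A σ u v) = (fun i => σ ((((A⁻¹ : GL (Fin 3) K) : Matrix (Fin 3) (Fin 3) K) *ᵥ u) i)) ⬝ᵥ v := by
              rw [sB]
              simp only [dotProduct, map_sum, map_mul, hσ']
            have h7 : (fun i => σ ((((A⁻¹ : GL (Fin 3) K) : Matrix (Fin 3) (Fin 3) K) *ᵥ u) i)) =
                (((A⁻¹ : GL (Fin 3) K) : Matrix (Fin 3) (Fin 3) K).map σ) *ᵥ (fun i => σ (u i)) := by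
              ext i
              simp only [mulVec, dotProduct, map_sum, map_mul, Matrix.map_apply]
            rw [h6, h7, ← vecMul_transpose, ← dotProduct_mulVec]
            rfl
          rw [h5, hs', smul_mulVec, dotProduct_smul, smul_eq_mul, dotProduct_comm]
          rfl
        rw [huv, map_zero] at h3
        exact (mul_eq_zero.1 h3.symm).resolve_left hs0
      obtain ⟨v₀, hv₀, h0⟩ := exists_abs h4 (by simp) (sB_add_left A σ) (sB_smul_left A σ) (sB_add_right A σ)
        (sB_smul_right A σ) hrefl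
      obtain ⟨φ, hφ⟩ := exists_phi hv₀
      rw [h]
      exact exists_of_key hq2 hφ (key_corr h0)
    · rw [hsq] at h2
      obtain ⟨x, hx⟩ := spr_coll hq2 h2
      refine ⟨x, fun Y hxY hY => hx Y hxY fun k hk => ?_⟩
      rw [← hsq]
      exact hY _ (hY _ hk)

end

/-- **The row `PSL_n(q)` of S3938.** -/
theorem spr_psl {n : ℕ} {F : Type} [Field F] [Fintype F] (hn : 2 ≤ n) (h2 : n = 2 → 4 ≤ Fintype.card F) :
    Cfsg.Agent.H424.Spr.Spr (Matrix.ProjectiveSpecialLinearGroup (Fin n) F) := by
  rcases Nat.eq_or_lt_of_le hn with rfl | hn3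
  · exact Cfsg.Agent.H947.Spr.spr_psl2 (h2 rfl)
  have hs : IsSimpleGroup (Matrix.ProjectiveSpecialLinearGroup (Fin n) F) := Cfsg.Agent.S0249.result n hn3
  have hq : 2 ≤ Nat.card F := one_lt_q
  have hna : ∃ x y : Matrix.ProjectiveSpecialLinearGroup (Fin n) F, x * y ≠ y * x := by
    have hij : (⟨0, by omega⟩ : Fin n) ≠ ⟨1, by omega⟩ := by simp [Fin.ext_iff]
    have hjk : (⟨1, by omega⟩ : Fin n) ≠ ⟨2, hn3⟩ := by simp [Fin.ext_iff]
    have hik : (⟨0, by omega⟩ : Fin n) ≠ ⟨2, hn3⟩ := by simp [Fin.ext_iff]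
    exact ⟨_, _, fun h => Cfsg.Agent.ClassicalGeometry.AutPSL.Images.not_commute (F := F) hij hjk hik h⟩
  by_cases h5 : 5 ≤ n
  · exact spr_psl_five h5 hna
  obtain rfl | rfl : n = 3 ∨ n = 4 := by omega
  · by_cases hF2 : Fintype.card F = 2
    · obtain ⟨e⟩ := Cfsg.Agent.S0255.result (F := ZMod 7) (K := F) (by simp) hF2
      exact Cfsg.Agent.H424.Spr.Spr.congr e (Cfsg.Agent.H947.Spr.spr_psl2 (by simp))
    · by_cases hF4 : Nat.card F = 4
      · exact spr_psl_three_four hF4
      · exact spr_psl_three hna (by rwa [Nat.card_eq_fintype_card]) hF4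
  · by_cases hF2 : Fintype.card F = 2
    · obtain ⟨e⟩ := Cfsg.Agent.S0256.result (F := F) hF2
      exact Cfsg.Agent.H424.SprAlt.row_alternating hna ⟨8, by norm_num, ⟨e⟩⟩
    · refine spr_psl_of (by omega) hna ?_
      intro L _ _ _ H x ω hx hω ht _
      rw [Nat.card_eq_fintype_card] at hq
      exact Cfsg.Agent.H855.Spr.over_k_four (by simp) (by omega) hx hω ht

end Cfsg.Agent.H59.SprPsl
end

private theorem dce_2b0177ec52fa : _root_.True := by
  try have : _root_.True := by simp only [_root_.Cfsg.Agent.H59.SprPsl.sB.eq_1]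
  try have : _root_.True := by simp only [_root_.Cfsg.Agent.H59.SprPsl.sT.eq_1]
  exact _root_.True.intro
end
end
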